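import Cfsg.Agent.Lib.Nine.Q

/-! Identification of `PSL(2,13)` from its action on fourteen points. -/

set_option autoImplicit false
set_option linter.unusedSectionVars false

open Cfsg Cfsg.Agent.SL2 Cfsg.Agent.Nine
open scoped MatrixGroups

namespace Cfsg.Agent.Rec

universe u

variable {G : Type u} [Group G]

/-- discrete logarithm -/
def lg13 (a : ZMod 13) : ℕ := [0, 0, 0, 2, 1, 4, 2, 5, 1, 4, 5, 3, 3].getD a.val 0

/-- swap of zero and infinity -/
def sw13 (W : ZMod 13 → ZMod 13) : Option (ZMod 13) → Option (ZMod 13)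
  | none => some 0
  | some a => if a = 0 then none else some (W a)

theorem lg13_spec : ∀ a : ZMod 13, a ≠ 0 → a = 4 ^ lg13 a * if a ^ 6 = 1 then 1 else 2 := by decide +kernel

theorem brute13 : ∀ u c d : ZMod 13, u ^ 6 = 1 →
    let W : ZMod 13 → ZMod 13 := fun a => u ^ lg13 a * if a ^ 6 = 1 then c else d
    let F : ZMod 13 → Option (ZMod 13) := fun a => sw13 W ((sw13 W ((sw13 W (some a)).map (1 + ·))).map (-c + ·))
    ((F 1).getD 0 - (F 0).getD 0) ^ 6 = 1 →
    (∀ a, F a = some ((F 0).getD 0 + ((F 1).getD 0 - (F 0).getD 0) * a)) →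
    (-c ^ 11) ^ 6 = 1 ∧ ∀ a, a ≠ 0 → -c ^ 11 * W a = -a ^ 11 := by decide +kernel

theorem rel13 : ∀ b : ZMod 13, b ≠ 0 → ∀ p, sw13 (fun a => -a ^ 11) ((sw13 (fun a => -a ^ 11) p).map (b + ·)) =
    ((sw13 (fun a => -a ^ 11) (p.map (-b ^ 11 + ·))).map ((b ^ 11) ^ 2 * ·)).map (-b ^ 11 + ·) := by decide +kernel

theorem rel13' : ∀ b : ZMod 13, b ≠ 0 → ∀ p, sw13 (fun a => -a ^ 11) ((sw13 (fun a => -a ^ 11) p).map (b ^ 2 * ·)) =
    p.map ((b ^ 11) ^ 2 * ·) := by decide +kernel

instance fact13 : Fact (Nat.Prime 13) := ⟨by norm_num⟩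

theorem inv13 {b : ZMod 13} (hb : b ≠ 0) : b⁻¹ = b ^ 11 :=
  inv_eq_of_mul_eq_one_right ((by decide +kernel : ∀ b : ZMod 13, b ≠ 0 → b * b ^ 11 = 1) b hb)

theorem psl13_of_perm [Finite G] (hc : Nat.card G = 1092) (σ : G →* Equiv.Perm (Option (ZMod 13)))
    (hσ : Function.Injective σ) (x : ZMod 13 → G) (hx : ∀ b p, σ (x b) p = p.map (b + ·))
    (h1 : ∀ g, σ g none = none → σ g (some 0) = some 0 → ∃ μ, μ ^ 6 = 1 ∧ ∀ a, σ g (some a) = some (μ * a))
    (h2 : ∀ μ : ZMod 13, μ ^ 6 = 1 → ∃ g, ∀ p, σ g p = p.map (μ * ·)) (h3 : ∃ g, σ g none = some 0) :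
    Nonempty (G ≃* PSL(2, ZMod 13)) := by
  have ext : ∀ g k : G, (∀ p, σ g p = σ k p) → g = k := fun g k h => hσ (Equiv.ext h)
  have h4 : ∀ g, σ g none = none → ∃ c μ, μ ^ 6 = 1 ∧ ∀ a, σ g (some a) = some (c + μ * a) := fun g hg => by
    obtain ⟨c, hc⟩ := Option.ne_none_iff_exists'.1 (show σ g (some 0) ≠ none from fun e =>
      Option.some_ne_none _ ((σ g).injective (e.trans hg.symm)))
    obtain ⟨μ, e1, e2⟩ := h1 (x (-c) * g) (by simp [hx, hg]) (by simp [hx, hc])
    refine ⟨c, μ, e1, fun a => ?_⟩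
    have := congrArg (σ (x c)) (e2 a)
    rw [map_mul, Equiv.Perm.mul_apply, hx, hx, hx] at this
    simpa [Function.comp_def] using this
  obtain ⟨w, w1, w2⟩ : ∃ w, σ w none = some 0 ∧ σ w (some 0) = none := by
    obtain ⟨g, hg⟩ := h3
    obtain ⟨c, hc⟩ := Option.ne_none_iff_exists'.1 (show (σ g)⁻¹ none ≠ none from fun e => by
      rw [Equiv.Perm.inv_eq_iff_eq, hg] at e
      exact Option.some_ne_none _ e.symm)
    exact ⟨g * x c, by simp [hx, hg], by simp [hx, ← hc]⟩
  let W : ZMod 13 → ZMod 13 := fun a => (σ w (some a)).getD 0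
  have w3 : ∀ p, σ w p = sw13 W p := by
    rintro (_ | a)
    · exact w1
    by_cases e : a = 0
    · simp [sw13, e, w2]
    obtain ⟨c, hc⟩ := Option.ne_none_iff_exists'.1 (show σ w (some a) ≠ none from fun e' =>
      e (Option.some.inj ((σ w).injective (e'.trans w2.symm))))
    simp [sw13, e, W, hc]
  obtain ⟨g, hg⟩ := h2 4 (by decide)
  obtain ⟨u, u1, u2⟩ := h1 (w * g * w⁻¹) (by
      rw [map_mul, map_mul, map_inv, Equiv.Perm.mul_apply, Equiv.Perm.mul_apply, Equiv.Perm.inv_eq_iff_eq.2 w2.symm]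
      simp [hg, w2]) (by
      rw [map_mul, map_mul, map_inv, Equiv.Perm.mul_apply, Equiv.Perm.mul_apply, Equiv.Perm.inv_eq_iff_eq.2 w1.symm]
      simp [hg, w1])
  have w4 : ∀ a, a ≠ 0 → W (4 * a) = u * W a := fun a ha => by
    have := u2 (W a)
    rw [show some (W a) = σ w (some a) by simp [w3, sw13, ha]] at this
    simp only [map_mul, map_inv, Equiv.Perm.mul_apply, Equiv.Perm.coe_inv, Equiv.symm_apply_apply, hg, Option.map_some] at this
    simp only [W, this, Option.getD_some]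
  have w5 : ∀ (i : ℕ) a, a ≠ 0 → W (4 ^ i * a) = u ^ i * W a := fun i a ha => by
    induction i with
    | zero => simp
    | succ i ih =>
      rw [pow_succ', mul_assoc, w4 _ (mul_ne_zero (pow_ne_zero _ (by decide)) ha), ih, pow_succ', mul_assoc]
  have w6 : sw13 W = sw13 fun a => u ^ lg13 a * if a ^ 6 = 1 then W 1 else W 2 := by
    funext p
    rcases p with _ | a
    · rfl
    simp only [sw13]
    split_ifs with e1 e2
    · rfl
    · have := lg13_spec a e1
      rw [if_pos e2] at this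
      rw [← w5 _ _ one_ne_zero, ← this]
    · have := lg13_spec a e1
      rw [if_neg e2] at this
      rw [← w5 _ _ (by decide), ← this]
  obtain ⟨c, μ, e1, e2⟩ := h4 (w * x (-W 1) * w * x 1 * w) (by simp [hx, w3, sw13])
  simp only [map_mul, Equiv.Perm.mul_apply, hx, w3, w6] at e2
  obtain ⟨e3, e4⟩ := brute13 u (W 1) (W 2) u1 (by simp only [e2]; simpa using e1) (by simp only [e2]; simp)
  obtain ⟨n, hn⟩ := h2 _ e3
  have w7 : ∀ p, σ (n * w) p = sw13 (fun a => -a ^ 11) p := by
    rintro (_ | a)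
    · simp [hn, w1, sw13]
    rw [map_mul, Equiv.Perm.mul_apply, hn, w3, w6]
    simp only [sw13]
    split_ifs with e
    · rfl
    all_goals
      have := e4 a e
      simp only [*, if_true, if_false] at this
      rw [Option.map_some, this]
  choose h hh using fun t : (ZMod 13)ˣ => h2 ((t : ZMod 13) ^ 2) (by
    rw [← pow_mul]; exact ZMod.pow_card_sub_one_eq_one t.ne_zero)
  have hww : n * w * (n * w) = 1 := ext _ _ fun p => by
    have := rel13' 1 one_ne_zero p
    rw [map_mul, Equiv.Perm.mul_apply, w7, w7]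
    simpa using this
  have hm1 : h (-1) = 1 := ext _ _ fun p => by simp [hh]
  let D : RankOne (ZMod 13) G :=
    { x := x
      h := MonoidHom.mk' h fun s t => ext _ _ fun p => by
        simp [hh, Function.comp_def, mul_pow, mul_assoc]
      w := n * w
      x_add := fun a b => ext _ _ fun p => by simp [hx, Function.comp_def, add_assoc]
      h_x := fun t a => mul_inv_eq_iff_eq_mul.2 (ext _ _ fun p => by
        simp [hx, hh, Function.comp_def, mul_add])
      w_h := fun t => ext _ _ fun p => by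
        rw [inv_eq_of_mul_eq_one_left hww]
        simp only [map_mul _ (_ * _), map_mul _ (n * w), Equiv.Perm.mul_apply, w7, MonoidHom.mk'_apply, hh,
          Units.val_inv_eq_inv_val, inv13 t.ne_zero]
        exact rel13' _ t.ne_zero p
      w_w := hww.trans hm1.symm
      w_x := fun t => ext _ _ fun p => by
        rw [inv_eq_of_mul_eq_one_left hww]
        simp only [map_mul _ (_ * _), map_mul _ (n * w), map_mul _ (x _), Equiv.Perm.mul_apply, w7,
          MonoidHom.mk'_apply, hh, hx, Units.val_inv_eq_inv_val, inv13 t.ne_zero]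
        exact rel13 _ t.ne_zero p }
  obtain ⟨ρ, r1, r2, r3⟩ := AIC.exists_hom_SL D
  have h5 : ∀ g, σ g none = none → g ∈ ρ.range := fun g hg => by
    obtain ⟨c, μ, e1, e2⟩ := h4 g hg
    obtain ⟨t, t0, rfl⟩ := (by decide +kernel : ∀ μ : ZMod 13, μ ^ 6 = 1 → ∃ t, t ≠ 0 ∧ μ = t ^ 2) μ e1
    refine ⟨up c * SL2.dg (Units.mk0 t t0), ?_⟩
    rw [map_mul, r1, r2]
    refine ext _ _ ?_
    rintro (_ | a) <;> simp [D, hx, hh, hg, e2]
  have h6 : Function.Surjective ρ := fun g => by
    rcases e : σ g none with _ | c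
    · exact h5 g e
    have := h5 (n * w * x (-c) * g) (by
      rw [map_mul, map_mul, Equiv.Perm.mul_apply, Equiv.Perm.mul_apply, w7, e, hx]; simp [sw13])
    rwa [mul_mem_cancel_left (mul_mem (show n * w ∈ ρ.range from ⟨_, r3⟩)
      (show x (-c) ∈ ρ.range from ⟨_, r1 _⟩))] at this
  let f : PSL(2, ZMod 13) →* G := QuotientGroup.lift _ ρ fun g hg => by
    rcases pr_eq_one_iff'.1 ((QuotientGroup.eq_one_iff g).2 hg) with rfl | rfl
    · exact one_mem _
    · rw [MonoidHom.mem_ker, ← hm1]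
      refine Eq.trans (congrArg ρ ?_) (r2 (-1))
      apply SL_ext
      apply mat_ext <;> simp
  have h7 := card_PSL_odd (F := ZMod 13) (by decide)
  rw [Nat.card_zmod] at h7
  exact ⟨(MulEquiv.ofBijective f ((Nat.bijective_iff_surjective_and_card f).2
    ⟨fun g => by obtain ⟨a, rfl⟩ := h6 g; exact ⟨pr a, rfl⟩, by omega⟩)).symm⟩

theorem psl13_of_perm' [Finite G] (hc : Nat.card G = 1092) (σ : G →* Equiv.Perm (Option (ZMod 13)))
    (hσ : Function.Injective σ) (x : ZMod 13 → G) (hx : ∀ b p, σ (x b) p = p.map (b + ·))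
    (h1 : ∀ g, σ g none = none → σ g (some 0) = some 0 → ∃ μ, ∀ a, σ g (some a) = some (μ * a))
    (h3 : ∀ p, ∃ g, σ g none = p) : Nonempty (G ≃* PSL(2, ZMod 13)) := by
  let H : Subgroup G := (MulAction.stabilizer _ (none : Option (ZMod 13)) ⊓
    MulAction.stabilizer _ (some (0 : ZMod 13))).comap σ
  have hH : ∀ g, g ∈ H ↔ σ g none = none ∧ σ g (some 0) = some 0 := fun g => Iff.rfl
  choose r hr using h3
  have h4 : Nat.card H = 6 := by
    have := Nat.card_eq_of_bijective (fun p : Option (ZMod 13) × ZMod 13 × H => r p.1 * x p.2.1 * p.2.2) ⟨?_, ?_⟩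
    · rw [Nat.card_prod, Nat.card_prod, Finite.card_option, Nat.card_zmod, hc] at this
      omega
    · rintro ⟨p, a, g, g1, g2⟩ ⟨q, b, k, k1, k2⟩ e
      replace g1 : σ g none = none := g1
      replace g2 : σ g (some 0) = some 0 := g2
      replace k1 : σ k none = none := k1
      replace k2 : σ k (some 0) = some 0 := k2
      obtain rfl : p = q := by simpa [g1, k1, hx, hr] using congrArg (σ · none) e
      obtain rfl : a = b := by simpa [g2, k2, hx] using congrArg (σ · (some 0)) e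
      obtain rfl : g = k := by simpa using e
      rfl
    · intro g
      have e1 : σ ((r (σ g none))⁻¹ * g) none = none := by
        rw [map_mul, map_inv, Equiv.Perm.mul_apply, Equiv.Perm.inv_eq_iff_eq, hr]
      obtain ⟨c, hc⟩ := Option.ne_none_iff_exists'.1 (show σ ((r (σ g none))⁻¹ * g) (some 0) ≠ none from fun e =>
        Option.some_ne_none _ ((σ _).injective (e.trans e1.symm)))
      refine ⟨⟨σ g none, c, (x c)⁻¹ * ((r (σ g none))⁻¹ * g), (hH _).2 ⟨?_, ?_⟩⟩, by simp⟩ <;>
        rw [map_mul, map_inv, Equiv.Perm.mul_apply, Equiv.Perm.inv_eq_iff_eq, hx]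
      · exact e1
      · simpa using hc
  choose μ hμ using fun g : H => h1 g g.2.1 g.2.2
  have h5 : ∀ g, μ g ^ 6 = 1 := fun g => by
    have e : ∀ i : ℕ, σ (g ^ i) (some 1) = some (μ g ^ i) := fun i => by
      induction i with
      | zero => simp
      | succ i ih => rw [pow_succ', map_mul, Equiv.Perm.mul_apply, ih, hμ, pow_succ']
    have e1 : (g : G) ^ 6 = 1 := congrArg Subtype.val (h4 ▸ pow_card_eq_one' (x := g))
    simpa [e1, eq_comm] using e 6
  have h6 : Function.Bijective fun g : H => (⟨μ g, h5 g⟩ : {u : ZMod 13 // u ^ 6 = 1}) := by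
    rw [Nat.bijective_iff_injective_and_card, h4, Nat.card_eq_fintype_card]
    refine ⟨fun g k e => Subtype.ext (hσ (Equiv.ext ?_)), by decide +kernel⟩
    rintro (_ | a)
    · exact g.2.1.trans k.2.1.symm
    · rw [hμ, hμ, Subtype.mk.inj e]
  refine psl13_of_perm hc σ hσ x hx (fun g g1 g2 => ⟨_, h5 ⟨g, g1, g2⟩, hμ ⟨g, g1, g2⟩⟩) (fun u hu => ?_) ⟨_, hr _⟩
  obtain ⟨g, hg⟩ := h6.2 ⟨u, hu⟩
  refine ⟨g, ?_⟩
  rintro (_ | a)
  · exact g.2.1
  · rw [hμ, Subtype.mk.inj hg]; rfl

theorem psl13 [Finite G] [IsSimpleGroup G] (hc : Nat.card G = 1092) (hn : Nat.card (Sylow 13 G) = 14) :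
    Nonempty (G ≃* PSL(2, ZMod 13)) := by
  obtain ⟨Q⟩ : Nonempty (Sylow 13 G) := inferInstance
  have hcard : ∀ P : Sylow 13 G, Nat.card P = 13 := fun P => (sylow_card (m := 84) (b := 1) hc (by norm_num) P).1
  have hz : ∀ g ∈ (Q : Subgroup G), g ≠ 1 → orderOf g = 13 ∧ Subgroup.zpowers g = Q := fun g h1 h2 => by
    have := (fact13.out.eq_one_or_self_of_dvd (orderOf g)
      (hcard Q ▸ Subgroup.orderOf_dvd_natCard _ h1)).resolve_left (by simpa using h2)
    exact ⟨this, Subgroup.eq_of_le_of_card_ge (Subgroup.zpowers_le.2 h1) (by rw [hcard, Nat.card_zpowers, this])⟩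
  have hfix : ∀ g ∈ (Q : Subgroup G), g ≠ 1 → ∀ P : Sylow 13 G, g • P = P → P = Q := fun g h1 h2 P h3 => by
    have h4 := Q.2.inf_normalizer_sylow P
    rw [inf_eq_left.2 ((hz g h1 h2).2 ▸ Subgroup.zpowers_le.2 (Sylow.smul_eq_iff_mem_normalizer.1 h3)),
      left_eq_inf] at h4
    exact (Sylow.ext (Subgroup.eq_of_le_of_card_ge h4 (by rw [hcard, hcard]))).symm
  obtain ⟨⟨y, hy⟩, hy1⟩ : ∃ y : Q, y ≠ 1 := by
    have : Nontrivial Q := Finite.one_lt_card_iff_nontrivial.1 (by rw [hcard]; norm_num)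
    exact exists_ne 1
  obtain ⟨y1, y2⟩ := hz y hy fun e => hy1 (Subtype.ext e)
  let x : ZMod 13 → G := fun a => y ^ a.val
  have x1 : ∀ n : ℕ, x n = y ^ n := fun n => by
    simp only [x, ZMod.val_natCast]
    rw [← y1, pow_mod_orderOf]
  have x2 : ∀ a b, x (a + b) = x a * x b := fun a b => by
    rw [← pow_add, ← x1]; simp
  have x3 : ∀ a, x a ∈ (Q : Subgroup G) := fun a => pow_mem hy _
  have x4 : ∀ a, x a • Q = Q := fun a => Sylow.smul_eq_iff_mem_normalizer.2 (Subgroup.le_normalizer (x3 a))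
  obtain ⟨P, hP⟩ : ∃ P : Sylow 13 G, P ≠ Q := by
    have : Nontrivial (Sylow 13 G) := Finite.one_lt_card_iff_nontrivial.1 (by rw [hn]; norm_num)
    exact exists_ne Q
  let e : Option (ZMod 13) → Sylow 13 G := fun p => p.elim Q fun a => x a • P
  have he : Function.Bijective e := by
    rw [Nat.bijective_iff_injective_and_card, Finite.card_option, Nat.card_zmod, hn]
    have k : ∀ a, x a • P ≠ Q := fun a h => hP (smul_left_cancel (x a) (h.trans (x4 a).symm))
    refine ⟨?_, rfl⟩
    rintro (_ | a) (_ | b) h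
    · rfl
    · exact absurd h.symm (k b)
    · exact absurd h (k a)
    by_contra h1
    refine hP (hfix _ (x3 (a - b)) (fun h2 => h1 ?_) P (smul_left_cancel (x b) ?_))
    · have := orderOf_dvd_of_pow_eq_one h2
      rw [y1, ← ZMod.natCast_eq_zero_iff, ZMod.natCast_zmod_val, sub_eq_zero] at this
      rw [this]
    · rw [← mul_smul, ← x2, add_sub_cancel]
      exact h
  let E := Equiv.ofBijective e he
  let σ : G →* Equiv.Perm (Option (ZMod 13)) := E.symm.permCongrHom.toMonoidHom.comp (MulAction.toPermHom G _)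
  have hs : ∀ g p q, σ g p = q ↔ g • e p = e q := fun g p q => E.symm_apply_eq
  have x0 : x 0 = 1 := pow_zero y
  refine psl13_of_perm' hc σ ?_ x (fun b p => (hs _ _ _).2 ?_) (fun g g1 g2 => ?_) fun p => ?_
  · rw [← MonoidHom.ker_eq_bot_iff]
    refine (IsSimpleGroup.eq_bot_or_eq_top_of_normal _ inferInstance).resolve_right fun h => ?_
    have h1 : σ y = 1 := MonoidHom.mem_ker.1 (h ▸ Subgroup.mem_top y)
    have h2 := (hs y (some 0) (some 0)).1 (by rw [h1]; rfl)
    simp only [e, Option.elim, x0, one_smul] at h2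
    exact hP (hfix y hy (fun e => hy1 (Subtype.ext e)) P h2)
  · rcases p with _ | a
    · exact x4 b
    · simp only [e, Option.elim, Option.map, x2, mul_smul]
  · rw [hs] at g1 g2
    simp only [e, Option.elim, x0, one_smul] at g1 g2
    have h1 := nz_of_mem (Sylow.smul_eq_iff_mem_normalizer.1 g1) y hy
    rw [← y2, ← mem_powers_iff_mem_zpowers] at h1
    obtain ⟨n, hn⟩ := h1
    refine ⟨n, fun a => (hs _ _ _).2 ?_⟩
    have h2 : x (n * a) = g * x a * g⁻¹ := by
      rw [← conj_pow, ← hn, ← pow_mul, ← x1]; simp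
    simp only [e, Option.elim, h2, mul_smul, inv_smul_eq_iff.2 g2.symm]
  · obtain ⟨g, hg⟩ := MulAction.exists_smul_eq G Q (e p)
    exact ⟨g, (hs _ _ _).2 hg⟩

theorem card_sylow_of_simple [Finite G] [IsSimpleGroup G] {p m : ℕ} [hp : Fact p.Prime] (hc : Nat.card G = m * p)
    (hm : ¬ p ∣ m) (h1 : m ≠ 1) : Nat.card (Sylow p G) ∣ m ∧ Nat.card (Sylow p G) % p = 1 ∧
      Nat.card (Sylow p G) ≠ 1 := by
  obtain ⟨P⟩ : Nonempty (Sylow p G) := inferInstance
  obtain ⟨a1, a2⟩ := sylow_card (m := m) (b := 1) (by rw [hc, pow_one]) hm P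
  refine ⟨a2 ▸ P.card_dvd_index, by rw [card_sylow_modEq_one p G, Nat.mod_eq_of_lt hp.out.one_lt], fun e => ?_⟩
  have := (Nat.card_eq_one_iff_unique.1 e).1
  rcases IsSimpleGroup.eq_bot_or_eq_top_of_normal _ (P.normal_of_subsingleton) with e | e <;> rw [e] at a1 a2
  · exact hp.out.one_lt.ne (by simpa using a1)
  · exact h1 (by simpa using a2.symm)

/-- A simple group of order `1092` is `PSL(2,13)`. -/
theorem recL213 [Finite G] [IsSimpleGroup G] (hg : Nat.card G = 1092) :
    Nonempty (G ≃* Matrix.ProjectiveSpecialLinearGroup (Fin 2) (ZMod 13)) := by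
  obtain ⟨a1, a2, a3⟩ := card_sylow_of_simple (p := 13) (m := 84) hg (by norm_num) (by norm_num)
  refine psl13 hg ?_
  have := Nat.le_of_dvd (by norm_num) a1
  generalize Nat.card (Sylow 13 G) = n at *
  interval_cases n <;> omega

/-- A simple group of order `2448` is `PSL(2,17)`. -/
theorem recL217 [Finite G] [IsSimpleGroup G] (hg : Nat.card G = 2448) :
    Nonempty (G ≃* Matrix.ProjectiveSpecialLinearGroup (Fin 2) (ZMod 17)) := by
  obtain ⟨a1, a2, a3⟩ := card_sylow_of_simple (p := 17) (m := 144) hg (by norm_num) (by norm_num)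
  refine psl17 hg ?_
  have := Nat.le_of_dvd (by norm_num) a1
  obtain ⟨k, hk⟩ : ∃ k, Nat.card (Sylow 17 G) = 17 * k + 1 := ⟨_, by rw [← a2, Nat.div_add_mod]⟩
  rw [hk] at a1 a3 this ⊢
  have : k ≤ 8 := by omega
  interval_cases k <;> omega

theorem not_comm_of_card [Finite G] [IsSimpleGroup G] (h : ¬ (Nat.card G).Prime) : ¬ IsMulCommutative G := fun e => by
  let _ : CommGroup G := IsMulCommutative.instCommGroup
  exact h IsSimpleGroup.prime_card

/-- A simple group of order `504` with involution centralizers of order `8` and no element of order `4`. -/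
theorem recL28 [Finite G] [IsSimpleGroup G] (hc : Nat.card G = 504)
    (h2 : ∀ t : G, orderOf t = 2 → Nat.card (Subgroup.centralizer ({t} : Set G)) = 8) (h4 : ∀ g : G, orderOf g ≠ 4) :
    ∃ (F : Type) (_ : Field F) (_ : Fintype F), Fintype.card F = 8 ∧
      Nonempty (G ≃* Matrix.ProjectiveSpecialLinearGroup (Fin 2) F) := by
  have hG : ¬ IsMulCommutative G := not_comm_of_card (by rw [hc]; norm_num)
  have h3 : ∀ t : G, orderOf t = 2 → IsMulCommutative (Cz t) := fun t ht => by
    have e : ∀ g ∈ Cz t, g * g = 1 := fun g hg => by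
      have h5 : orderOf g ∣ 8 := h2 t ht ▸ Subgroup.orderOf_dvd_natCard _ hg
      have h6 : ¬ 4 ∣ orderOf g := fun e => by
        obtain ⟨k, hk⟩ := exists_pow_orderOf e
        exact h4 _ hk
      rw [← sq, ← orderOf_dvd_iff_pow_eq_one]
      have := Nat.le_of_dvd (by norm_num) h5
      generalize orderOf g = n at *
      interval_cases n <;> omega
    refine ⟨⟨fun a b => Subtype.ext ?_⟩⟩
    have := inv_eq_of_mul_eq_one_left (e _ (mul_mem a.2 b.2))
    rw [mul_inv_rev, inv_eq_of_mul_eq_one_left (e _ a.2), inv_eq_of_mul_eq_one_left (e _ b.2)] at this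
    exact this.symm
  have : Fact (Nat.Prime 2) := ⟨Nat.prime_two⟩
  obtain ⟨P⟩ : Nonempty (Sylow 2 G) := inferInstance
  rcases S2202.result (by rw [hc]; decide) h3 with e | e | ⟨F, _, _, A, _, _, hF, -, ⟨f⟩⟩
  · obtain ⟨g, h4, h5⟩ := exists_not_cent hG P (by rw [hc]; decide)
    exact absurd ((e P).normalizer_le_centralizer (by rw [hc]; norm_num) h4) h5
  · have h4 := (sylow_card (m := 63) (b := 3) hc (by norm_num) P).1
    rcases IsSimpleGroup.eq_bot_or_eq_top_of_normal _ (e P) with e | e <;> rw [e] at h4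
    · simp at h4
    · rw [Subgroup.card_top, hc] at h4
      omega
  · have h4 : ∀ a : A, a = 1 := fun a => by
      have : f.symm (1, a) ∈ Subgroup.center G := Subgroup.mem_center_iff.2 fun g => f.injective (by
        simp [Prod.ext_iff, mul_comm])
      rw [center_eq_bot hG, Subgroup.mem_bot, map_eq_one_iff _ f.symm.injective] at this
      exact congrArg Prod.snd this
    have : Unique A := ⟨⟨1⟩, h4⟩
    have h5 : (2 : F) = 0 := CharP.cast_eq_zero F 2
    have e := (f.trans MulEquiv.prodUnique).trans (SL2.prEquiv h5)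
    refine ⟨F, inferInstance, inferInstance, ?_, ⟨e⟩⟩
    have h6 := SL2.card_PSL_even h5
    rw [← Nat.card_congr e.toEquiv, hc, Nat.card_eq_fintype_card] at h6
    generalize Fintype.card F = n at *
    have h7 : n < 9 := by
      by_contra e
      have := Nat.mul_le_mul (not_lt.1 e) (Nat.sub_le_sub_right (Nat.pow_le_pow_left (not_lt.1 e) 2) 1)
      omega
    interval_cases n <;> omega

end Cfsg.Agent.Rec
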