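import Cfsg.Agent.Lib.Rec.L213
import Cfsg.Agent.Lib.Nine.U
import Cfsg.Agent.Lib.Alt.Carmichael

/-! Recognition of the alternating group of degree seven from its centralizer orders. -/

set_option autoImplicit false
set_option linter.unusedSectionVars false

open Cfsg Cfsg.Agent.Nine
open scoped Classical

namespace Cfsg.Agent.Rec

universe u

variable {G : Type u} [Group G]

theorem three_cosets [Finite G] {H K : Subgroup G} (h : H ≤ K) (hc : Nat.card K = 3 * Nat.card H) {z : G}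
    (hz : z ∈ K) (z3 : z ^ 3 = 1) (z1 : z ∉ H) {g : G} (hg : g ∈ K) : g ∈ H ∨ z⁻¹ * g ∈ H ∨ z * g ∈ H := by
  have := Fintype.ofFinite (K ⧸ H.subgroupOf K)
  have h1 : Fintype.card (K ⧸ H.subgroupOf K) = 3 := by
    have := (H.subgroupOf K).index_mul_card
    rw [Nat.card_congr (Subgroup.subgroupOfEquivOfLe h).toEquiv, hc, Subgroup.index, Nat.card_eq_fintype_card] at this
    exact Nat.eq_of_mul_eq_mul_right Nat.card_pos this
  have h2 := Finset.eq_univ_of_card ({((1 : K) : K ⧸ H.subgroupOf K), ((⟨z, hz⟩ : K) : K ⧸ H.subgroupOf K),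
    ((⟨z, hz⟩⁻¹ : K) : K ⧸ H.subgroupOf K)} : Finset _) (by
      rw [h1, Finset.card_eq_three]
      refine ⟨_, _, _, ?_, ?_, ?_, rfl⟩ <;> simp only [Ne, QuotientGroup.eq, Subgroup.mem_subgroupOf]
      · simpa using z1
      · simpa using z1
      · simpa [inv_sq z3] using z1)
  have h3 := h2 ▸ Finset.mem_univ ((⟨g, hg⟩ : K) : K ⧸ H.subgroupOf K)
  simp only [Finset.mem_insert, Finset.mem_singleton, @eq_comm _ ((⟨g, hg⟩ : K) : K ⧸ H.subgroupOf K),
    QuotientGroup.eq, Subgroup.mem_subgroupOf] at h3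
  simpa using h3

theorem ord_two {t : G} (h : orderOf t = 2) : t * t = 1 ∧ t⁻¹ = t ∧ t ≠ 1 := by
  have : t * t = 1 := by rw [← sq, ← h, pow_orderOf_eq_one]
  exact ⟨this, inv_eq_of_mul_eq_one_right this, ne_one_of_orderOf Nat.prime_two h⟩

theorem inv2 {t : G} (h : t * t = 1) (g : G) : t * (t * g) = g := by rw [← mul_assoc, h, one_mul]

theorem two_ord {t : G} (h : t * t = 1) (h1 : t ≠ 1) : orderOf t = 2 := orderOf_eq_prime (by rw [sq, h]) h1

theorem ord_three {x : G} (h : orderOf x = 3) : x ^ 3 = 1 ∧ x ≠ 1 ∧ x ≠ x⁻¹ := by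
  have h1 : x ^ 3 = 1 := by rw [← h, pow_orderOf_eq_one]
  have h2 := ne_one_of_orderOf Nat.prime_three h
  exact ⟨h1, h2, fun e => h2 (by rwa [inv_eq_sq h1, left_eq_mul] at e)⟩

theorem ord_conj (g x : G) : orderOf (g * x * g⁻¹) = orderOf x := (orderOf_of_isConj (isConj_iff.2 ⟨g, rfl⟩)).symm

/-- centralizer orders as in the alternating group of degree seven -/
def HA7 (G : Type u) [Group G] : Prop := ∀ x : G, x ≠ 1 → (orderOf x, Nat.card (Cz x)) ∈
  ({(2, 24), (3, 36), (3, 9), (4, 4), (5, 5), (6, 12), (7, 7)} : Finset (ℕ × ℕ))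

namespace HA7
variable [Fintype G] (h : HA7 G)
include h

theorem c2 {t : G} (ht : orderOf t = 2) : Nat.card (Cz t) = 24 := by
  simpa [ht] using h t (ord_two ht).2.2

theorem ord {x g : G} (hx : orderOf x = 3) (c : Commute g x) :
    g = 1 ∨ orderOf g = 2 ∨ orderOf g = 3 ∨ orderOf g = 6 := by
  by_cases e : g = 1
  · exact Or.inl e
  have h1 := h g e
  have h2 : 3 ∣ Nat.card (Cz g) := hx ▸ Subgroup.orderOf_dvd_natCard _ (mem_Cz.2 c.eq.symm)
  simp only [Finset.mem_insert, Finset.mem_singleton, Prod.mk.injEq] at h1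
  omega

variable {t x : G} (ht : orderOf t = 2) (hx : orderOf x = 3) (c : Commute x t)
include ht hx c

theorem c3 : Nat.card (Cz x) = 36 := by
  have h1 := h x (ord_three hx).2.1
  have h2 : 2 ∣ Nat.card (Cz x) := ht ▸ Subgroup.orderOf_dvd_natCard _ (mem_Cz.2 c.eq.symm)
  simp only [Finset.mem_insert, Finset.mem_singleton, Prod.mk.injEq] at h1
  omega

theorem c6 : Nat.card ↥(Cz x ⊓ Cz t) = 12 := by
  have h0 : orderOf (x * t) = 6 := by
    rw [c.orderOf_mul_eq_mul_orderOf_of_coprime (by rw [hx, ht]; decide), hx, ht]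
  have h1 := h (x * t) (by rintro e; simp [e] at h0)
  have h2 : Cz x ⊓ Cz t = Cz (x * t) := by
    ext g
    refine ⟨fun e => mem_Cz.2 (Commute.mul_right (mem_Cz.1 e.1) (mem_Cz.1 e.2)), fun e => ?_⟩
    have e1 : Commute g (x * t) := mem_Cz.1 e
    have e2 := e1.pow_right 4
    have e3 := e1.pow_right 3
    rw [c.mul_pow, pow_succ x, (ord_three hx).1, show 4 = 2 * 2 by rfl, pow_mul, sq t, (ord_two ht).1] at e2
    rw [c.mul_pow, pow_succ t, (ord_three hx).1, sq t, (ord_two ht).1] at e3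
    exact ⟨mem_Cz.2 (by simpa using e2.eq), mem_Cz.2 (by simpa using e3.eq)⟩
  simpa [h0, h2] using h1

theorem uniq {y : G} (y3 : y ^ 3 = 1) (c' : Commute y t) : y = 1 ∨ y = x ∨ y = x⁻¹ := by
  have h1 : ((Cz x ⊓ Cz t).subgroupOf (Cz t)).index = 2 := by
    have := ((Cz x ⊓ Cz t).subgroupOf (Cz t)).index_mul_card
    rw [Nat.card_congr (Subgroup.subgroupOfEquivOfLe inf_le_right).toEquiv, h.c6 ht hx c, h.c2 ht] at this
    omega
  have h2 : y * y ∈ Cz x ⊓ Cz t := Subgroup.mul_self_mem_of_index_two h1 ⟨y, mem_Cz.2 c'.eq⟩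
  rw [← inv_eq_sq y3, inv_mem_iff] at h2
  let Z := Subgroup.zpowers (⟨x, mem_Cz.2 rfl, mem_Cz.2 c.eq⟩ : ↥(Cz x ⊓ Cz t))
  have : Z.Normal := ⟨fun n ⟨i, hi⟩ g => ⟨i, by
    rw [← hi]
    exact Subtype.ext (eq_mul_inv_iff_mul_eq.2 (Commute.zpow_right (mem_Cz.1 g.2.1) i).eq.symm)⟩⟩
  have h3 := Z.index_mul_card
  rw [Nat.card_zpowers, ← Subgroup.orderOf_coe, hx, h.c6 ht hx c] at h3
  obtain ⟨i, hi⟩ := Z.pow_index_mem ⟨y, h2⟩
  rw [show Z.index = 3 + 1 by omega] at hi
  refine mem_zpowers_three (ord_three hx).1 ⟨i, (congrArg Subtype.val hi).trans ?_⟩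
  simp [pow_succ y 3, y3]

theorem conj {g : G} (c' : Commute g t) : g * x * g⁻¹ = x ∨ g * x * g⁻¹ = x⁻¹ :=
  (h.uniq ht hx c (by rw [conj_pow, (ord_three hx).1]; simp) ((c'.mul_left c).mul_left c'.inv_left)).resolve_left
    (by simpa using (ord_three hx).2.1)

theorem no_inv {z : G} (hz : orderOf z = 3) (c1 : Commute z x) (c2 : t * z * t = z⁻¹) : False := by
  obtain ⟨z3, z1, z2⟩ := ord_three hz
  obtain ⟨t2, t3, t1⟩ := ord_two ht
  have k1 : ∀ e, orderOf e = 2 → Commute x e → Commute z e → False := fun e e2 e3 e4 => by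
    have : t * z * t = z := by
      rcases h.uniq e2 hx e3 z3 e4 with f | f | f
      · exact absurd f z1
      · rw [f, ← c.eq, mul_assoc, t2, mul_one]
      · rw [f, ← c.inv_left.eq, mul_assoc, t2, mul_one]
    exact z2 (this.symm.trans c2)
  obtain ⟨S, hS⟩ := Sylow.exists_subgroup_card_pow_prime (G := ↥(Cz x ⊓ Cz t)) 2 (n := 2)
    (by rw [h.c6 ht hx c]; norm_num)
  obtain ⟨s, s1, s2⟩ : ∃ s : S, ((s : ↥(Cz x ⊓ Cz t)) : G) ≠ 1 ∧ ((s : ↥(Cz x ⊓ Cz t)) : G) ≠ t := by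
    by_contra e
    push Not at e
    have := Fintype.ofFinite S
    have f := Finset.card_le_card_of_injOn (s := Finset.univ) (t := {1, t})
      (fun s : S => ((s : ↥(Cz x ⊓ Cz t)) : G)) (fun s _ => by
        by_cases e' : ((s : ↥(Cz x ⊓ Cz t)) : G) = 1
        · simp [e']
        · simp [e s e']) fun a _ b _ e => Subtype.ext (Subtype.ext e)
    rw [Finset.card_univ, ← Nat.card_eq_fintype_card, hS] at f
    exact absurd (f.trans Finset.card_le_two) (by norm_num)
  have s4 : orderOf ((s : ↥(Cz x ⊓ Cz t)) : G) ∣ 4 := by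
    rw [Subgroup.orderOf_coe, Subgroup.orderOf_coe]
    exact (orderOf_dvd_natCard s).trans hS.dvd
  have s5 : Commute ((s : ↥(Cz x ⊓ Cz t)) : G) x := mem_Cz.1 s.1.2.1
  have s6 : Commute ((s : ↥(Cz x ⊓ Cz t)) : G) t := mem_Cz.1 s.1.2.2
  generalize ((s : ↥(Cz x ⊓ Cz t)) : G) = u at s1 s2 s4 s5 s6
  have u2 : orderOf u = 2 := by
    rcases h.ord hx s5 with e | e | e | e
    · exact absurd e s1
    · exact e
    all_goals rw [e] at s4; omega
  obtain ⟨u3, u4, -⟩ := ord_two u2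
  have k2 : t * (u * z * u) * t = (u * z * u)⁻¹ := by
    rw [mul_inv_rev, mul_inv_rev, u4, ← c2]
    simp only [mul_assoc, s6.eq, s6.left_comm]
  have k3 : ∀ w : G, w ^ 3 = 1 → t * w * t = w⁻¹ → (w = z ∨ w = z⁻¹) → w⁻¹ * (u * z * u) ∈ Cz x ⊓ Cz t →
      u * z * u = w := fun w w3 w1 w2 e => by
    obtain ⟨k, hk⟩ : ∃ k, u * z * u = w * k := ⟨w⁻¹ * (u * z * u), by group⟩
    rw [hk, inv_mul_cancel_left] at e
    rw [hk] at k2 ⊢
    have e1 : Commute k t := mem_Cz.1 e.2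
    have e2 : w * k⁻¹ * w⁻¹ = k := by
      rw [mul_assoc, ← mul_inv_rev, ← k2, show t * (w * k) * t = t * w * t * k by simp only [mul_assoc, e1.eq], w1]
      group
    have e3 : w * k * w⁻¹ = k⁻¹ := by rw [← inv_inj, conj_inv, e2, inv_inv]
    have e4 : k = k⁻¹ := by
      have : w ^ 3 * k * (w ^ 3)⁻¹ = w * (w * (w * k * w⁻¹) * w⁻¹) * w⁻¹ := by simp [pow_succ, mul_assoc]
      rwa [w3, e3, e2, e3, one_mul, inv_one, mul_one] at this
    by_contra e5
    have e6 : Commute w k := mul_inv_eq_iff_eq_mul.1 (e3.trans e4.symm)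
    refine k1 k (two_ord (eq_inv_iff_mul_eq_one.1 e4) fun e => e5 (by simp [e])) (mem_Cz.1 e.1).symm ?_
    rcases w2 with rfl | rfl
    exacts [e6, Commute.inv_left_iff.1 e6]
  have k4 : z ∉ Cz x ⊓ Cz t := fun e => k1 t ht c (mem_Cz.1 e.2)
  rcases three_cosets (H := Cz x ⊓ Cz t) inf_le_left (by rw [h.c6 ht hx c, h.c3 ht hx c]) (mem_Cz.2 c1.eq) z3 k4
    (g := u * z * u) (mem_Cz.2 ((s5.mul_left c1).mul_left s5).eq) with e | e | e
  · refine k4 ?_
    have hu : u ∈ Cz x ⊓ Cz t := ⟨mem_Cz.2 s5.eq, mem_Cz.2 s6.eq⟩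
    rwa [mul_mem_cancel_right hu, mul_mem_cancel_left hu] at e
  · have := k3 z z3 c2 (Or.inl rfl) e
    exact k1 u u2 s5.symm (mul_inv_eq_iff_eq_mul.1 (u4.symm ▸ this)).symm
  · have := k3 z⁻¹ (by rw [inv_pow, z3, inv_one]) (by
      rw [inv_inv, ← c2]; simp [mul_assoc, inv2 t2, t2]) (Or.inr rfl)
      (by rwa [inv_inv])
    refine k1 (t * u) (two_ord (by simp [mul_assoc, s6.left_comm, inv2 t2, u3, t2, inv2 u3]) fun e => s2
      ((eq_inv_of_mul_eq_one_right e).trans t3)) (c.mul_right s5.symm) (Eq.symm ?_)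
    have e1 := congrArg (fun g => t * g * u) (this.trans c2.symm)
    simpa [mul_assoc, u3, inv2 t2] using e1

theorem comm {e : G} (he : orderOf e = 2) (c' : Commute x e) : Commute e t := by
  obtain ⟨t2, t3, -⟩ := ord_two ht
  obtain ⟨e2, e3, -⟩ := ord_two he
  have k1 : t * (e * t) * t = (e * t)⁻¹ := by simp [mul_assoc, t2, t3, e3]
  have k2 : Commute (e * t) x := (c'.mul_right c).symm
  rcases h.ord hx k2 with f | f | f | f
  · rw [eq_inv_of_mul_eq_one_left f]
    exact (Commute.refl t).inv_left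
  · have := (ord_two f).2.1
    rw [mul_inv_rev, t3, e3] at this
    exact this.symm
  · exact (h.no_inv ht hx c f k2 k1).elim
  · refine (h.no_inv ht hx c (z := (e * t) ^ 2) (by rw [orderOf_pow' _ two_ne_zero, f]; rfl) (k2.pow_left 2) ?_).elim
    nth_rewrite 3 [← t3]
    rw [← conj_pow, t3, k1, inv_pow]

theorem fix {s : G} (hs : orderOf s = 2) (e : s * x * s = x⁻¹) : ∃ w, orderOf w = 2 ∧ Commute x w ∧ Commute s w := by
  obtain ⟨s2, s3, -⟩ := ord_two hs
  obtain ⟨t2, -, -⟩ := ord_two ht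
  have e1 : Commute x (s * t * s) := by
    have := c.map (MulAut.conj s)
    simp only [MulAut.conj_apply, s3, e] at this
    exact Commute.inv_left_iff.1 this
  have e2 := h.comm ht hx c (by rw [← ht, ← ord_conj s t, s3]) e1
  by_cases e3 : s * t * s = t
  · exact ⟨t, ht, c, by
      rw [Commute, SemiconjBy]; nth_rewrite 1 [← e3]; simp [mul_assoc, inv2 s2, s2]⟩
  refine ⟨t * (s * t * s), two_ord ?_ fun f => e3 ((eq_inv_of_mul_eq_one_right f).trans (ord_two ht).2.1),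
    c.mul_right e1, ?_⟩
  · nth_rewrite 1 [← e2.eq]
    simp [mul_assoc, inv2 s2, inv2 t2, s2]
  · rw [Commute, SemiconjBy]
    nth_rewrite 1 [← e2.eq]
    simp [mul_assoc, inv2 s2, s2]

omit ht hx c in
theorem inverts (R : Sylow 3 G) (h9 : Nat.card R = 9) (h3 : ∀ r ∈ (R : Subgroup G), r ^ 3 = 1) {s : G}
    (hs : orderOf s = 2) (hn : s ∈ Nm (R : Subgroup G)) {p : G} (hp : p ∈ (R : Subgroup G)) : s * p * s = p⁻¹ := by
  obtain ⟨s2, s3, -⟩ := ord_two hs
  have k0 : ∀ r ∈ (R : Subgroup G), s * r * s ∈ (R : Subgroup G) := fun r hr => by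
    simpa only [s3] using nz_of_mem hn r hr
  have k1 : ∀ r ∈ (R : Subgroup G), Commute (r * (s * r * s)) s := fun r hr => by
    rw [Commute, SemiconjBy]
    nth_rewrite 2 [(comm9' R h9 hr (k0 r hr)).eq]
    simp [mul_assoc, inv2 s2, s2]
  by_contra e
  have p1 := mul_mem hp (k0 p hp)
  have p2 := orderOf_three (h3 _ p1) fun f => e (eq_inv_of_mul_eq_one_right f)
  have p3 := k1 p hp
  generalize p * (s * p * s) = q at p1 p2 p3
  obtain ⟨r, hr, r1⟩ : ∃ r ∈ (R : Subgroup G), r ∉ Subgroup.zpowers q := by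
    by_contra f
    push Not at f
    have := Subgroup.card_le_of_le (show (R : Subgroup G) ≤ _ from f)
    rw [h9, Nat.card_zpowers, p2] at this
    omega
  have r2 := mul_mem hr (k0 r hr)
  have r3 : r * (s * r * s) ∈ Subgroup.zpowers q := by
    rcases h.uniq hs p2 p3 (h3 _ r2) (k1 r hr) with f | f | f <;> simp [f]
  refine h.no_inv hs p2 p3 (orderOf_three (h3 _ (mul_mem hr r2)) fun f => r1 ?_) (comm9' R h9 (mul_mem hr r2) p1) ?_
  · rw [eq_inv_of_mul_eq_one_left f]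
    exact inv_mem r3
  · have r4 := h3 _ r2
    have r5 := k1 r hr
    have r6 := comm9' R h9 hr r2
    have r7 : s * r * s = r⁻¹ * (r * (s * r * s)) := by group
    generalize r * (s * r * s) = m at r4 r5 r6 r7
    rw [mul_assoc, mul_assoc, r5.eq, ← mul_assoc, ← mul_assoc, r7, mul_inv_rev, inv_eq_sq r4,
      mul_assoc r⁻¹, (r6.inv_left.mul_right r6.inv_left).eq]

end HA7

theorem carm7 {x y v w : G} (x3 : x ^ 3 = 1) (y3 : y ^ 3 = 1) (w2 : w * w = 1) (xw : Commute x w) (xy : Commute x y)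
    (p : w * (y * w * y⁻¹) = y⁻¹ * w * y) (a3 : v ^ 3 = 1) (vy : Commute v y) (r1 : (x * v) ^ 2 = 1)
    (r2 : (v * (w * v * w)) ^ 2 = 1) : ∃ φ : alternatingGroup (Fin 7) →* G, x ∈ φ.range := by
  obtain ⟨w1, e1⟩ : ∃ w1, w1 = y * w * y⁻¹ := ⟨_, rfl⟩
  obtain ⟨w2', e2⟩ : ∃ w1, w1 = y⁻¹ * w * y := ⟨_, rfl⟩
  have i0 := inv_eq_of_mul_eq_one_right w2
  have s1 : w1 * w1 = 1 := by simp [e1, mul_assoc, inv2 w2]
  have s2 : w2' * w2' = 1 := by simp [e2, mul_assoc, inv2 w2]
  have i1 := inv_eq_of_mul_eq_one_right s1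
  have i2 := inv_eq_of_mul_eq_one_right s2
  rw [← e1, ← e2] at p
  have p1 : w1 * w = w2' := by rw [← i2, ← p, mul_inv_rev, i0, i1]
  have p2 : w * w2' = w1 := by rw [← p, inv2 w2]
  have p3 : w2' * w = w1 := by rw [← p1, mul_assoc, w2, mul_one]
  have p4 : w1 * w2' = w := by rw [← p1, inv2 s1]
  have p5 : w2' * w1 = w := by rw [← p, mul_assoc, s1, mul_one]
  have q : ∀ k, k = w ∨ k = w1 ∨ k = w2' → (v * (k * v * k⁻¹)) ^ 2 = 1 := by
    have f : ∀ g, Commute v g → (v * (g * w * g⁻¹ * v * (g * w * g⁻¹)⁻¹)) ^ 2 = 1 := fun g hg => by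
      have : v * (g * w * g⁻¹ * v * (g * w * g⁻¹)⁻¹) = g * (v * (w * v * w)) * g⁻¹ := by
        simp [mul_assoc, i0, hg.left_comm, hg.inv_right.symm.left_comm]
      rw [this, conj_pow, r2]; simp
    rintro k (rfl | rfl | rfl)
    · rwa [i0]
    · rw [e1]; exact f y vy
    · simpa [e2] using f y⁻¹ vy.inv_right
  let c : Fin 7 → G := ![1, 1, 1, 1, w, w1, w2']
  have c1 : ∀ i, Commute x (c i) := fun i => by
    have : Commute x w1 := e1 ▸ (xy.mul_right xw).mul_right xy.inv_right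
    have : Commute x w2' := e2 ▸ (xy.inv_right.mul_right xw).mul_right xy
    fin_cases i <;> simp [c, *]
  have c2 : ∀ i j : Fin 7, i ≠ 0 → i ≠ 1 → j ≠ 0 → j ≠ 1 → i ≠ 2 → j ≠ 2 → i ≠ j →
      (c i)⁻¹ * c j = w ∨ (c i)⁻¹ * c j = w1 ∨ (c i)⁻¹ * c j = w2' := fun i j => by
    fin_cases i <;> fin_cases j <;> simp [c, i0, i1, i2, p, p1, p2, p3, p4, p5]
  have c3 : ∀ i, (x * (c i * v * (c i)⁻¹)) ^ 2 = 1 := fun i => by
    rw [show x * (c i * v * (c i)⁻¹) = c i * (x * v) * (c i)⁻¹ by simp [mul_assoc, (c1 i).left_comm], conj_pow, r1]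
    simp
  obtain ⟨φ, hφ⟩ := Alt.exists_carmichael_hom (u := (0 : Fin 7)) (v := 1) (by decide)
    (fun i => if i = 2 then x else c i * v * (c i)⁻¹) (fun i _ _ => by
      split_ifs
      · exact x3
      · rw [conj_pow, a3]; simp) fun i j i0 i1 j0 j1 ij => by
      split_ifs with f1 f2 f2
      · exact absurd (f1.trans f2.symm) ij
      · exact c3 j
      · rw [show c i * v * (c i)⁻¹ * x = x⁻¹ * (x * (c i * v * (c i)⁻¹)) * x⁻¹⁻¹ by group, conj_pow, c3]; simp
      · rw [show c i * v * (c i)⁻¹ * (c j * v * (c j)⁻¹) =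
          c i * (v * ((c i)⁻¹ * c j * v * ((c i)⁻¹ * c j)⁻¹)) * (c i)⁻¹ by group, conj_pow,
          q _ (c2 i j i0 i1 j0 j1 f1 f2 ij)]
        simp
  exact ⟨φ, _, hφ 2 (by decide) (by decide)⟩

/-- Recognition of `A₇`. -/
theorem recA7 [Finite G] (hg : Nat.card G = 2520)
    (hc : ∀ x : G, x ≠ 1 → (orderOf x, Nat.card (Subgroup.centralizer ({x} : Set G))) ∈
      ({(2, 24), (3, 36), (3, 9), (4, 4), (5, 5), (6, 12), (7, 7)} : Finset (ℕ × ℕ))) :
    Nonempty (G ≃* alternatingGroup (Fin 7)) := by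
  have := Fintype.ofFinite G
  have h : HA7 G := hc
  have three : ∀ t : G, orderOf t = 2 → ∃ x : G, orderOf x = 3 ∧ Commute x t := fun t ht => by
    obtain ⟨x, hx⟩ := exists_prime_orderOf_dvd_card' (G := Cz t) 3 (by rw [h.c2 ht]; norm_num)
    exact ⟨x, by rw [Subgroup.orderOf_coe, hx], mem_Cz.1 x.2⟩
  obtain ⟨t, ht⟩ := exists_prime_orderOf_dvd_card' (G := G) 2 (by rw [hg]; norm_num)
  obtain ⟨x, hx, c⟩ := three t ht
  obtain ⟨x3, x1, x2⟩ := ord_three hx
  obtain ⟨R, hR⟩ := (Blk.isPGroup_zpowers (p := 3) (g := x) ⟨1, by simpa using x3⟩).exists_le_sylow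
  replace hR : x ∈ (R : Subgroup G) := hR (Subgroup.mem_zpowers x)
  have h9 : Nat.card R = 9 := (sylow_card (m := 280) (b := 2) (by rw [hg]; rfl) (by norm_num) R).1
  have h3 : ∀ r ∈ (R : Subgroup G), r ^ 3 = 1 := fun r hr => by
    have := orderOf_dvd_of_pow_eq_one (pow9 R h9 hr)
    rcases h.ord hx (comm9' R h9 hr hR) with e | e | e | e
    · simp [e]
    · rw [e] at this; omega
    · exact (ord_three e).1
    · rw [e] at this; omega
  obtain ⟨s, hs, hsn⟩ : ∃ s, orderOf s = 2 ∧ s ∈ Nm (R : Subgroup G) := by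
    obtain ⟨g, g1, g2⟩ : ∃ g ∈ Cz t, g ∉ Cz x := by
      by_contra e
      push Not at e
      have := h.c6 ht hx c
      rw [inf_eq_right.2 e, h.c2 ht] at this
      omega
    obtain ⟨n, n1, n2⟩ := fusion9 R h9 hR (inv_mem hR) (isConj_iff.2 ⟨g, (h.conj ht hx c (mem_Cz.1 g1)).resolve_left
      fun e => g2 (mem_Cz.2 (mul_inv_eq_iff_eq_mul.1 e))⟩)
    obtain ⟨k, hk⟩ := exists_pow_orderOf (g := n) (p := 2) (by
      by_contra e
      have e1 : Commute (n ^ 2) x := by
        rw [Commute, SemiconjBy, ← mul_inv_eq_iff_eq_mul, show n ^ 2 * x * (n ^ 2)⁻¹ = n * (n * x * n⁻¹) * n⁻¹ by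
          simp [sq, mul_assoc], n2, ← conj_inv, n2, inv_inv]
      have e2 := e1.pow_left ((orderOf n + 1) / 2)
      rw [← pow_mul, show 2 * ((orderOf n + 1) / 2) = orderOf n + 1 by omega, pow_succ, pow_orderOf_eq_one,
        one_mul] at e2
      exact x2 ((mul_inv_eq_iff_eq_mul.2 e2.eq).symm.trans n2))
    exact ⟨_, hk, pow_mem n1 k⟩
  obtain ⟨s2, s3, s1⟩ := ord_two hs
  have sx := h.inverts R h9 h3 hs hsn hR
  obtain ⟨n, n1, n2, n3⟩ : ∃ n ∈ Nm (R : Subgroup G), n * x * n⁻¹ ≠ x ∧ n * x * n⁻¹ ≠ x⁻¹ := by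
    by_contra e
    push Not at e
    have e1 : ∀ n ∈ Nm (R : Subgroup G), Commute n x → n ∈ (R : Subgroup G) := fun n hn c' => by
      have f : ¬ 2 ∣ orderOf n := fun f => by
        obtain ⟨k, hk⟩ := exists_pow_orderOf f
        have := h.inverts R h9 h3 hk (pow_mem hn k) hR
        rw [(c'.pow_left k).eq, mul_assoc, (ord_two hk).1, mul_one] at this
        exact x2 this
      have f1 : n ^ 3 = 1 := by
        rcases h.ord hx c' with e | e | e | e
        · simp [e]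
        · rw [e] at f; omega
        · exact (ord_three e).1
        · rw [e] at f; omega
      have := (Blk.isPGroup_zpowers (p := 3) (g := n) ⟨1, by simpa using f1⟩).inf_normalizer_sylow R
      exact (this.le ⟨Subgroup.mem_zpowers n, hn⟩).2
    have e2 := (Alt.card_le_of_cosets (R : Subgroup G) (Nm (R : Subgroup G)) {1, s} fun n hn => by
      by_cases f : n * x * n⁻¹ = x
      · exact ⟨1, by simp, by simpa using e1 n hn (mul_inv_eq_iff_eq_mul.1 f)⟩
      · refine ⟨s, by simp, e1 _ (mul_mem (inv_mem hsn) hn) (mul_inv_eq_iff_eq_mul.1 ?_)⟩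
        rw [show s⁻¹ * n * x * (s⁻¹ * n)⁻¹ = s⁻¹ * (n * x * n⁻¹) * s by group, e n hn f, ← sx]
        simp [mul_assoc, s2]).2
    have e3 := Subgroup.card_dvd_of_le (show (R : Subgroup G) ≤ Nm R from Subgroup.le_normalizer)
    have e4 := Subgroup.orderOf_dvd_natCard _ hsn
    have e5 := (Nm (R : Subgroup G)).index_mul_card
    have e6 := card_sylow_modEq_one 3 G
    have e7 : 0 < Nat.card (Nm (R : Subgroup G)) := Nat.card_pos
    rw [Finset.card_pair s1.symm, h9] at e2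
    rw [h9] at e3
    rw [hs] at e4
    rw [R.card_eq_index_normalizer, Nat.ModEq] at e6
    rw [show Nat.card (Nm (R : Subgroup G)) = 18 by omega, hg] at e5
    have e8 : (Nm (R : Subgroup G)).index = 140 := by omega
    rw [show Subgroup.normalizer (R : Set G) = Nm (R : Subgroup G) from rfl, e8] at e6
    omega
  have hy := (ord_conj n x).trans hx
  have yR := nz_of_mem n1 x hR
  obtain ⟨v, hv, yv, sv⟩ := h.fix ((ord_conj n t).trans ht) hy (c.map (MulAut.conj n)) hs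
    (h.inverts R h9 h3 hs hsn yR)
  have sy := h.inverts R h9 h3 hs hsn yR
  have xy := comm9' R h9 hR yR
  generalize n * x * n⁻¹ = y at n2 n3 hy yv sy xy
  obtain ⟨w, hw, xw, sw⟩ := h.fix ht hx c hs sx
  obtain ⟨y3, y1, y2⟩ := ord_three hy
  obtain ⟨v2, v3, -⟩ := ord_two hv
  obtain ⟨w2, w3, -⟩ := ord_two hw
  have k1 : ∀ e, orderOf e = 2 → Commute x e → Commute y e → False := fun e he c1 c2 => by
    rcases h.uniq he hx c1 y3 c2 with f | f | f
    exacts [y1 f, n2 f, n3 f]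
  have a1 := (xy.mul_right xw).mul_right xy.inv_right
  have a2 := (xy.inv_right.mul_right xw).mul_right xy
  have a3 := (ord_conj y w).trans hw
  have a4 : orderOf (y⁻¹ * w * y) = 2 := by simpa using (ord_conj y⁻¹ w).trans hw
  have a5 := h.comm hw hx xw a3 a1
  have a6 := h.comm hw hx xw a4 a2
  have a7 := h.comm a3 hx a1 a4 a2
  have p : w * (y * w * y⁻¹) = y⁻¹ * w * y := by
    by_contra e
    refine k1 (w * (y * w * y⁻¹) * (y⁻¹ * w * y)) (two_ord ?_ fun f => e ((eq_inv_of_mul_eq_one_left f).trans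
      (ord_two a4).2.1)) ((xw.mul_right a1).mul_right a2) (mul_inv_eq_iff_eq_mul.1 ?_)
    · rw [← sq, (a6.mul_right a7).symm.mul_pow, a5.symm.mul_pow, sq, sq, sq, w2, (ord_two a3).1, (ord_two a4).1]
      simp
    · rw [← conj_mul, ← conj_mul, show y * (y * w * y⁻¹) * y⁻¹ = y⁻¹ * w * y by
        rw [show y * (y * w * y⁻¹) * y⁻¹ = y * y * w * (y⁻¹ * y⁻¹) by group, ← inv_eq_sq y3, inv_sq y3],
        show y * (y⁻¹ * w * y) * y⁻¹ = w by group, (a5.mul_left a6).eq, ← mul_assoc w]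
  obtain ⟨z, hz, zs⟩ := three s hs
  have k2 : ∀ a e, orderOf a = 3 → s * a * s = a⁻¹ → orderOf e = 2 → Commute a e → ¬ Commute z e :=
    fun a e ha sa he c1 c2 => by
      have : Commute a s := by
        rcases h.uniq he hz c2 (ord_three ha).1 c1 with f | f | f <;> rw [f]
        exacts [Commute.one_left s, zs, zs.inv_left]
      rw [← this.eq, mul_assoc, s2, mul_one] at sa
      exact (ord_three ha).2.2 sa
  have vz := (h.conj hs hz zs sv.symm).resolve_left fun e => k2 y v hy sy hv yv (mul_inv_eq_iff_eq_mul.1 e).symm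
  have wz := (h.conj hs hz zs sw.symm).resolve_left fun e => k2 x w hx sx hw xw (mul_inv_eq_iff_eq_mul.1 e).symm
  have d1 : Commute (v * w) z := mul_inv_eq_iff_eq_mul.1 (by
    rw [show v * w * z * (v * w)⁻¹ = v * (w * z * w⁻¹) * v⁻¹ by group, wz, ← conj_inv, vz, inv_inv])
  have d2 : (v * w) ^ 3 * (v * w) ^ 3 = 1 := by
    rw [← pow_add, ← orderOf_dvd_iff_pow_eq_one]
    rcases h.ord hz d1 with e | e | e | e <;> simp [e]
  have d3 : Commute ((v * w) ^ 3) v := by
    refine (mul_inv_eq_iff_eq_mul.1 ?_ : Commute v _).symm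
    rw [← conj_pow, show v * (v * w) * v⁻¹ = (v * w)⁻¹ by simp [v3, w3, inv2 v2], inv_pow,
      inv_eq_of_mul_eq_one_right d2]
  have d4 : (v * w) ^ 3 = 1 ∨ (v * w) ^ 3 = s := by
    have d5 := d1.pow_left 3
    have d6 := (sv.mul_right sw).pow_right 3
    generalize (v * w) ^ 3 = u at d2 d3 d5 d6
    by_contra e
    push Not at e
    rcases h.conj hv hy yv d3 with f | f
    · exact k2 y u hy sy (two_ord d2 e.1) (mul_inv_eq_iff_eq_mul.1 f).symm d5.symm
    · refine k2 y (s * u) hy sy (two_ord (by simp [mul_assoc, d6.symm.left_comm, inv2 s2, inv2 d2, d2, s2]) fun f =>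
        e.2 ((eq_inv_of_mul_eq_one_right f).trans s3)) (mul_inv_eq_iff_eq_mul.1 ?_).symm (zs.mul_right d5.symm)
      rw [show s * u * y * (s * u)⁻¹ = s * (u * y * u⁻¹) * s⁻¹ by group, f, ← sy]
      simp [mul_assoc, s3, inv2 s2, s2]
  have b1 := (xy.symm.mul_right yv).mul_right xy.symm.inv_right
  have b2 := h.comm hv hy yv ((ord_conj x v).trans hv) b1
  have b3 : (x * (v * x⁻¹ * v)) ^ 2 = 1 := by
    rw [← mul_assoc, ← mul_assoc, b2.mul_pow, conj_pow, sq, v2]; simp
  have b4 : Commute (v * x⁻¹ * v) y := ((yv.mul_right xy.symm.inv_right).mul_right yv).symm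
  have wx : ∀ r, w * (x * (w * r)) = x * r := fun r => by rw [xw.left_comm, inv2 w2]
  have wx' : ∀ r, w * (x⁻¹ * (w * r)) = x⁻¹ * r := fun r => by rw [xw.inv_left.left_comm, inv2 w2]
  have g1 : w * v * w * x * (w * v * w) = w * v * x * v * w := by simp [mul_assoc, wx]
  have g2 : ∀ X, w * v * w * X * (w * v * w) = v * x * v ∨ w * v * w * X * (w * v * w) = X → (x * X) ^ 2 = 1 →
      (w * v * x * v * w * (w * v * w * X * (w * v * w))) ^ 2 = 1 := fun X _ e => by
    rw [← g1, show w * v * w * x * (w * v * w) * (w * v * w * X * (w * v * w)) = w * v * w * (x * X) * (w * v * w)⁻¹ by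
      simp [mul_assoc, v3, w3, inv2 v2, inv2 w2], conj_pow, e]
    simp
  rcases d4 with e | e
  · exfalso
    have e1 : w * v * w = v * w * v := by
      simpa [pow_succ, mul_assoc, inv2 v2, inv2 w2] using congrArg (fun g => v * w * v * g) e
    have e2 : Commute y (x * (v * x⁻¹ * v)) := xy.symm.mul_right b4.symm
    have e3 : orderOf (x * (v * x⁻¹ * v)) = 2 := two_ord (by rw [← sq, b3]) fun f => k1 v hv (by
      have := congrArg (fun g => g * v * x) f
      simpa [mul_assoc, v2, inv2 v2, Commute, SemiconjBy] using this) yv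
    have g3 : w * v * w * (v * x⁻¹ * v) * (w * v * w) = v * x⁻¹ * v := by
      rw [e1]; simp [mul_assoc, inv2 v2, wx']
    have e4 := g2 _ (Or.inr g3) b3
    rw [g3, show w * v * x * v * w * (v * x⁻¹ * v) = w * (x * (v * x⁻¹ * v))⁻¹ * w * (x * (v * x⁻¹ * v)) by
      simp [mul_assoc, v3, ← xw.left_comm], (ord_two e3).2.1] at e4
    generalize x * (v * x⁻¹ * v) = u at e2 e3 e4
    obtain ⟨u2, u3, -⟩ := ord_two e3
    have f1 : Commute (w * u * w) u := by
      rw [Commute, SemiconjBy, ← inv_eq_of_mul_eq_one_right ((sq _).symm.trans e4)]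
      simp [mul_assoc, u3, w3]
    have f2 : Commute (w * u * w) (y * (w * u * w) * y⁻¹) := by
      have f3 := (f1.map (MulAut.conj y⁻¹)).map (MulAut.conj w)
      simp only [MulAut.conj_apply, inv_inv, w3] at f3
      rw [show y⁻¹ * u * y = u by rw [e2.inv_left.eq, inv_mul_cancel_right],
        show y⁻¹ * (w * u * w) * y = y⁻¹ * w * y * u * (y⁻¹ * w * y) by simp [mul_assoc, e2.left_comm], ← p] at f3
      nth_rewrite 2 [← a5.eq] at f3
      convert f3.symm using 1
      simp [mul_assoc, inv2 w2, w2, e2.inv_left.left_comm]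
    rcases h.conj e3 hy e2 f1 with f | f
    · have f3 : Commute (w * y * w) u := by
        have := Commute.map (mul_inv_eq_iff_eq_mul.1 f) (MulAut.conj w)
        simpa [w3, mul_assoc, inv2 w2, w2] using this.symm
      rcases h.uniq e3 hy e2 (by nth_rewrite 2 [← w3]; rw [conj_pow, y3]; simp) f3 with f4 | f4 | f4
      · exact y1 (by simpa [mul_assoc, w2, inv2 w2] using congrArg (fun g => w * g * w) f4)
      · exact k1 w hw xw (mul_inv_eq_iff_eq_mul.1 (by rwa [w3]) : Commute w y).symm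
      · rw [← p, ← mul_assoc, ← mul_assoc, f4, inv_sq y3, hy] at a4
        omega
    · have f3 : w * u * w * (w * u * w) = 1 := by simp [mul_assoc, inv2 w2, inv2 u2, w2]
      generalize w * u * w = U at f f2 f3
      have f4 : (U * (y * U * y⁻¹)) ^ 2 = 1 := by rw [f2.mul_pow, conj_pow, sq, f3]; simp
      rw [inv_eq_of_mul_eq_one_right f3] at f
      rw [← mul_assoc, ← mul_assoc, f, inv_sq y3, sq] at f4
      exact y2 (eq_inv_of_mul_eq_one_right f4)
  · have e1 : w * v * w = v * w * v * s := by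
      rw [← e]; simp [pow_succ, mul_assoc, inv2 v2, inv2 w2]
    have g3 : w * v * w * (v * x⁻¹ * v) * (w * v * w) = v * x * v := by
      nth_rewrite 1 [e1, ← ((sv.mul_right sw).mul_right sv).eq]
      rw [e1, ← sx]
      simp [mul_assoc, inv2 v2, inv2 w2, inv2 s2, sv.left_comm, sw.left_comm, wx, sv.eq, s2, s3]
    obtain ⟨φ, hφ⟩ := carm7 x3 y3 w2 xw xy p (v := v * x⁻¹ * v) (by
      nth_rewrite 2 [← v3]
      rw [conj_pow, inv_pow, x3]; simp) b4 b3 (by
        have := g2 _ (Or.inl g3) b3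
        rw [g3] at this
        rw [← inv_eq_one, ← inv_pow, ← this]
        simp [mul_assoc, v3, w3])
    have : IsSimpleGroup (alternatingGroup (Fin 7)) := alternatingGroup.isSimpleGroup (by simp)
    have e1 : Function.Injective φ := by
      rw [← MonoidHom.ker_eq_bot_iff]
      refine (IsSimpleGroup.eq_bot_or_eq_top_of_normal _ inferInstance).resolve_right fun f => x1 ?_
      obtain ⟨a, rfl⟩ := hφ
      exact MonoidHom.mem_ker.1 (f ▸ Subgroup.mem_top a)
    exact ⟨(MulEquiv.ofBijective φ ((Nat.bijective_iff_injective_and_card φ).2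
      ⟨e1, by rw [hg, nat_card_alternatingGroup, Nat.card_fin]; rfl⟩)).symm⟩

end Cfsg.Agent.Rec
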