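import Cfsg.Agent.Lib.J3T.Syl
import Cfsg.Agent.Lib.SL2.GroupAux

/-! Groups in which involutions have centralizers of order 64 that are Sylow subgroups. -/

set_option autoImplicit false
set_option linter.unusedSectionVars false
open Finset Classical

namespace Cfsg.Agent.J3T.C64
noncomputable section
variable {G : Type*} [Group G] [Fintype G]

variable (G) in
/-- elements of a given order -/
def Sn (n : ℕ) : Finset G := univ.filter fun x => orderOf x = n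

@[simp] theorem mem_Sn {n : ℕ} {x : G} : x ∈ Sn G n ↔ orderOf x = n := by simp [Sn]

theorem card_Sn_one : (Sn G 1).card = 1 := card_eq_one.2 ⟨1, by ext x; simp⟩

theorem Sn_two : Sn G 2 = Inv G := by
  ext x; rw [mem_Sn]; exact ⟨Inv.of_order, Inv.order⟩

theorem counts (T : Finset ℕ) (c : ℕ → ℕ)
    (h : ∀ x : G, orderOf x ∈ T ∧ Nat.card (Cz x) = c (orderOf x)) :
    Nat.card G = ∑ n ∈ T, (Sn G n).card ∧
      Nat.card (ConjClasses G) * Nat.card G = ∑ n ∈ T, c n * (Sn G n).card ∧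
      ∀ n d, d * c n = Nat.card G → d ∣ (Sn G n).card := by
  refine ⟨?_, ?_, fun n d hd => ?_⟩
  · rw [Nat.card_eq_fintype_card]
    exact card_eq_sum_card_fiberwise (fun x _ => (h x).1)
  · rw [SL2.card_conjClasses_mul_card, ← sum_fiberwise_of_maps_to (g := fun x : G => orderOf x)
      (fun x _ => (h x).1)]
    refine sum_congr rfl fun n _ => ?_
    rw [sum_congr rfl (g := fun _ => c n) fun x hx => by rw [← (mem_filter.1 hx).2]; exact (h x).2,
      sum_const, smul_eq_mul, mul_comm]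
    rfl
  · refine dvd_card_of_orbits ⊤ _ _ (fun s hs g _ => by rwa [mem_Sn, orderOf_conj', ← mem_Sn])
      fun s hs => ?_
    have := class_card s
    rw [(h s).2, mem_Sn.1 hs, ← hd] at this
    rw [Nat.eq_of_mul_eq_mul_right (Nat.pos_of_ne_zero fun e => by
      rw [e, mul_zero] at hd; exact Nat.card_pos.ne hd) this]

theorem conj_of_card {S : Finset G} {s t : G} (hS : ∀ x ∈ S, ∀ g, g * x * g⁻¹ ∈ S) (hs : s ∈ S)
    (ht : t ∈ S) (h : S.card * Nat.card (Cz s) = Nat.card G) : ∃ g, g * s * g⁻¹ = t := by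
  have h1 := class_card s
  rw [← h] at h1
  have h2 := eq_of_subset_of_card_le (s := cls ⊤ {s}) (t := S) (fun y hy => by
    obtain ⟨g, -, rfl⟩ := mem_cls1.1 hy
    exact hS s hs g) (Nat.eq_of_mul_eq_mul_right Nat.card_pos h1).ge
  obtain ⟨g, -, hg⟩ := mem_cls1.1 (h2 ▸ ht)
  exact ⟨g, hg⟩

/-- square roots -/
def rts (t : G) : Finset G := univ.filter fun x => x * x = t

@[simp] theorem mem_rts {t x : G} : x ∈ rts t ↔ x * x = t := by simp [rts]

theorem order_four {x : G} : orderOf x = 4 ↔ x * x ∈ Inv G := by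
  constructor
  · intro h
    refine Inv.of_order ?_
    rw [← pow_two, orderOf_pow' _ two_ne_zero, h]; rfl
  · intro h
    refine orderOf_eq_prime_pow (p := 2) (n := 1) (by rw [pow_one, pow_two]; exact (mem_Inv.1 h).2) ?_
    rw [← (mem_Inv.1 h).1]; simp only [pow_succ, pow_zero, one_mul, mul_assoc]; norm_num
    simp only [pow_succ, pow_zero, one_mul, mul_assoc]

variable (G) in
structure H64 (m r : ℕ) : Prop where
  c2 : ∀ t ∈ Inv G, Nat.card (Cz t) = 64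
  c4 : ∀ x : G, orderOf x = 4 → Nat.card (Cz x) = 16
  od : ∀ x : G, x ≠ 1 → x ∉ Inv G → orderOf x ≠ 4 → Odd (Nat.card (Cz x))
  card : Nat.card G = 64 * m
  odd : Odd m
  n31 : ¬ 31 ∣ m
  inv : (Inv G).card = m
  four : (Sn G 4).card = m * r

/-- the centre of the centralizer -/
def Zc (t : G) : Subgroup G := Subgroup.centralizer (Cz t)

theorem mem_Zc {t s : G} : s ∈ Zc t ↔ ∀ g ∈ Cz t, g * s = s * g := Iff.rfl

theorem Zc_le (t : G) : Zc t ≤ Cz t := fun _ h => mem_Cz.2 (mem_Zc.1 h t (self_mem_Cz t)).symm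

theorem self_mem_Zc (t : G) : t ∈ Zc t := mem_Zc.2 fun _ h => mem_Cz.1 h

theorem Zc_congr {s t : G} (h : Cz s = Cz t) : Zc s = Zc t := by rw [Zc, Zc, h]

theorem mem_Zc_conj {t a : G} (g : G) : g * a * g⁻¹ ∈ Zc (g * t * g⁻¹) ↔ a ∈ Zc t := by
  have k : ∀ {t a : G} (g : G), a ∈ Zc t → g * a * g⁻¹ ∈ Zc (g * t * g⁻¹) := fun {t a} g h =>
    mem_Zc.2 fun b hb => by
      have := mem_Zc.1 h (g⁻¹ * b * g) ((mem_Cz_conj g).1 (by simpa [mul_assoc] using hb))
      calc b * (g * a * g⁻¹) = g * (g⁻¹ * b * g * a) * g⁻¹ := by group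
        _ = _ := by rw [this]; group
  exact ⟨fun h => by simpa [mul_assoc] using k g⁻¹ h, k g⟩

/-- the normalizer of the centralizer -/
def Nz (t : G) : Subgroup G := Subgroup.normalizer (Cz t : Set G)

theorem mem_Nz {t g : G} : g ∈ Nz t ↔ ∀ a ∈ Cz t, g * a * g⁻¹ ∈ Cz t := mem_normalizer_iff'

theorem Cz_le_Nz (t : G) : Cz t ≤ Nz t := Subgroup.le_normalizer

theorem mem_Nz_iff {t g : G} : g ∈ Nz t ↔ Cz (g * t * g⁻¹) = Cz t := by
  constructor
  · intro h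
    refine (Subgroup.eq_of_le_of_card_ge (fun a ha => ?_) (card_Cz_conj g t).le).symm
    have := mem_Nz.1 (inv_mem h) a ha
    simpa [mul_assoc] using (mem_Cz_conj g).2 this
  · intro h
    exact mem_Nz.2 fun a ha => h ▸ (mem_Cz_conj g).2 ha

theorem conj_mem_Zc {t g a : G} (hg : g ∈ Nz t) (ha : a ∈ Zc t) : g * a * g⁻¹ ∈ Zc t :=
  Zc_congr (mem_Nz_iff.1 hg) ▸ (mem_Zc_conj g).2 ha

namespace H64
variable {m r : ℕ} (H : H64 G m r) {s t g : G}
include H

theorem cj (hs : s ∈ Inv G) (ht : t ∈ Inv G) : ∃ g, g * s * g⁻¹ = t :=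
  conj_of_card (fun _ hx g => Inv.conj hx g) hs ht (by rw [H.inv, H.c2 s hs, H.card, mul_comm])

theorem rt (ht : t ∈ Inv G) : (rts t).card = r := by
  have h1 : (Sn G 4).card = ∑ s ∈ Inv G, ((Sn G 4).filter fun x => x * x = s).card :=
    card_eq_sum_card_fiberwise fun x hx => order_four.1 (mem_Sn.1 hx)
  rw [sum_congr rfl (g := fun _ => (rts t).card) fun s hs => ?_, sum_const, smul_eq_mul, H.inv,
    H.four] at h1
  · exact (Nat.eq_of_mul_eq_mul_left H.odd.pos h1).symm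
  obtain ⟨g, rfl⟩ := H.cj hs ht
  refine card_conj_eq g fun a => ?_
  rw [mem_filter, mem_Sn, order_four, mem_rts,
    show g * a * g⁻¹ * (g * a * g⁻¹) = g * (a * a) * g⁻¹ by group, mul_left_inj, mul_right_inj]
  exact ⟨fun h => h.2, fun h => ⟨h ▸ hs, h⟩⟩

theorem two_elt (ht : t ∈ Inv G) (hg : g ∈ Cz t) : g = 1 ∨ g ∈ Inv G ∨ orderOf g = 4 := by
  by_contra h
  push Not at h
  exact not_mem_of_odd (H.od g h.1 h.2.1 h.2.2) ht (mem_Cz_comm.1 hg)

theorem of_mem_Zc (ht : t ∈ Inv G) (hs : s ∈ Zc t) (h1 : s ≠ 1) : s ∈ Inv G ∧ Cz s = Cz t := by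
  have h2 : Cz t ≤ Cz s := fun g hg => mem_Cz.2 (mem_Zc.1 hs g hg)
  have h3 := Subgroup.card_le_of_le h2
  rw [H.c2 t ht] at h3
  rcases H.two_elt ht (Zc_le t hs) with h | h | h
  · exact absurd h h1
  · exact ⟨h, (Subgroup.eq_of_le_of_card_ge h2 (by rw [H.c2 s h, H.c2 t ht])).symm⟩
  · rw [H.c4 s h] at h3; omega

theorem sq_Zc (ht : t ∈ Inv G) (hs : s ∈ Zc t) : s * s = 1 := by
  by_cases h : s = 1
  · simp [h]
  · exact (mem_Inv.1 (H.of_mem_Zc ht hs h).1).1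

theorem odd_Cz (hg : Odd (orderOf g)) (h1 : g ≠ 1) : Odd (Nat.card (Cz g)) :=
  H.od g h1 (fun h => by rw [Inv.order h] at hg; exact absurd hg (by decide))
    (fun h => by rw [h] at hg; exact absurd hg (by decide))

theorem eq_one_of_odd (ht : t ∈ Inv G) (hs : s ∈ Cz t) (h : Odd (orderOf s)) : s = 1 := by
  rcases H.two_elt ht hs with e | e | e
  · exact e
  · rw [Inv.order e] at h; exact absurd h (by decide)
  · rw [e] at h; exact absurd h (by decide)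

theorem odd_free (ht : t ∈ Inv G) (hs : s ∈ Cz t) (h1 : s ≠ 1) (hg : Odd (orderOf g))
    (h : g * s = s * g) : g = 1 := by
  by_contra e
  exact h1 (H.eq_one_of_odd ht hs (odd_order_of_mem (H.odd_Cz hg e) (mem_Cz.2 h.symm)))

theorem dvd_pred (ht : t ∈ Inv G) {D : Subgroup G} (hD : D ≤ Cz t) (hg : Odd (orderOf g))
    (h : ∀ d ∈ D, g * d * g⁻¹ ∈ D) : orderOf g ∣ Nat.card D - 1 := by
  have h1 : Subgroup.zpowers g ≤ Subgroup.normalizer (D : Set G) :=
    Subgroup.zpowers_le.2 (mem_normalizer_iff'.2 h)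
  rw [← Nat.card_zpowers, ← card_fs D, ← card_erase_of_mem (mem_fs.2 D.one_mem)]
  refine free_dvd _ _ (fun s hs k hk => ?_) fun s hs k hk e => ?_
  · rw [mem_erase, mem_fs] at hs ⊢
    exact ⟨fun e => hs.1 (by simpa using e), mem_normalizer_iff'.1 (h1 hk) s hs.2⟩
  · rw [mem_erase, mem_fs] at hs
    exact H.odd_free ht (hD hs.2) hs.1 (odd_order_of_mem (by rwa [Nat.card_zpowers]) hk) e

theorem exists_odd (ht : t ∈ Inv G) {M : Subgroup G} (h : Cz t ≤ M) (hne : Cz t ≠ M) :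
    ∃ g ∈ M, (orderOf g).Prime ∧ orderOf g ∣ m := by
  obtain ⟨d, hd⟩ := Subgroup.card_dvd_of_le h
  have h1 := M.card_subgroup_dvd_card
  rw [H.c2 t ht] at hd
  rw [H.card, hd] at h1
  obtain ⟨p, hp, hpd⟩ := Nat.exists_prime_and_dvd (n := d) fun e =>
    hne (Subgroup.eq_of_le_of_card_ge h (by rw [hd, e, H.c2 t ht]))
  obtain ⟨g, hg, rfl⟩ := exists_order_of_dvd (D := M) hp (hd ▸ hpd.mul_left _)
  exact ⟨g, hg, hp, hpd.trans (Nat.dvd_of_mul_dvd_mul_left (by norm_num) h1)⟩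

theorem inter_ne (hs : s ∈ Inv G) (ht : t ∈ Inv G) (hne : Cz s ≠ Cz t) :
    Nat.card ↥(Cz s ⊓ Cz t) ≠ 32 := by
  intro h
  have key : ∀ {D C : Subgroup G}, D ≤ C → Nat.card D = 32 → Nat.card C = 64 →
      C ≤ Subgroup.normalizer (D : Set G) := fun {D C} h1 h2 h3 c hc => by
    have h4 := (D.subgroupOf C).card_mul_index
    rw [card_subgroupOf h1, h2, h3] at h4
    have h5 := Subgroup.normal_of_index_eq_two (H := D.subgroupOf C) (by omega)
    exact mem_normalizer_iff'.2 fun d hd => h5.conj_mem ⟨d, h1 hd⟩ hd ⟨c, hc⟩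
  obtain ⟨g, hg, hp, hm⟩ := H.exists_odd hs (key inf_le_left h (H.c2 s hs)) fun e =>
    hne (Subgroup.eq_of_le_of_card_ge (e ▸ key inf_le_right h (H.c2 t ht))
      (by rw [H.c2 s hs, H.c2 t ht])).symm
  have := H.dvd_pred hs inf_le_left (H.odd.of_dvd_nat hm) (mem_normalizer_iff'.1 hg)
  rw [h] at this
  exact H.n31 ((Nat.prime_dvd_prime_iff_eq (q := 31) hp (by norm_num)).1 this ▸ hm)

theorem card_Zc_ne (ht : t ∈ Inv G) : Nat.card (Zc t) ≠ 2 := by
  intro h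
  have h1 : (fs (Cz t) \ fs (Zc t)).card = 62 := by
    rw [card_sdiff_of_subset fun x hx => mem_fs.2 (Zc_le t (mem_fs.1 hx)), card_fs, card_fs, h,
      H.c2 t ht]
  refine absurd (h1 ▸ dvd_card_of_orbits (Cz t) _ 4 (fun s hs g hg => ?_) fun s hs => ?_) (by decide)
  · simp only [mem_sdiff, mem_fs] at hs ⊢
    refine ⟨mul_mem (mul_mem hg hs.1) (inv_mem hg), fun e => hs.2 ?_⟩
    simpa [mul_assoc] using conj_mem_Zc (inv_mem (Cz_le_Nz t hg)) e
  simp only [mem_sdiff, mem_fs] at hs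
  have h2 := orbit_card (Cz t) s
  rw [H.c2 t ht] at h2
  have h3 : Nat.card ↥(Cz t ⊓ Cz s) ≠ 64 := fun e => hs.2 (mem_Zc.2 fun g hg => mem_Cz.1
    ((Subgroup.eq_of_le_of_card_ge (inf_le_left (b := Cz s)) (by rw [e, H.c2 t ht])).ge hg).2)
  have h4 : Nat.card ↥(Cz t ⊓ Cz s) ≠ 32 := fun e => by
    rcases H.two_elt ht hs.1 with e' | e' | e'
    · exact hs.2 (e' ▸ one_mem _)
    · exact H.inter_ne ht e' (fun e'' => hs.2 (Zc_congr e'' ▸ self_mem_Zc s)) e
    · have := Subgroup.card_le_of_le (inf_le_right (a := Cz t) (b := Cz s))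
      rw [e, H.c4 s e'] at this; omega
  have h5 : Nat.card ↥(Cz t ⊓ Cz s) ∈ Nat.divisors 64 :=
    Nat.mem_divisors.2 ⟨Dvd.intro_left _ h2, by norm_num⟩
  generalize Nat.card ↥(Cz t ⊓ Cz s) = a at *
  fin_cases h5 <;> omega

theorem cls_Nz (ht : t ∈ Inv G) : cls (Nz t) {t} = (fs (Zc t)).erase 1 := by
  ext s
  rw [mem_cls1, mem_erase, mem_fs]
  constructor
  · rintro ⟨g, hg, rfl⟩
    exact ⟨(mem_Inv.1 (Inv.conj ht g)).2, conj_mem_Zc hg (self_mem_Zc t)⟩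
  · rintro ⟨h1, h2⟩
    obtain ⟨h3, h4⟩ := H.of_mem_Zc ht h2 h1
    obtain ⟨g, rfl⟩ := H.cj ht h3
    exact ⟨g, mem_Nz_iff.2 h4, rfl⟩

theorem card_Nz (ht : t ∈ Inv G) : Nat.card (Nz t) = (Nat.card (Zc t) - 1) * 64 := by
  rw [← orbit_card (Nz t) t, H.cls_Nz ht, card_erase_of_mem (mem_fs.2 (one_mem _)), card_fs,
    inf_eq_right.2 (Cz_le_Nz t), H.c2 t ht]

omit H in
variable (t) in
/-- elements whose square is a nontrivial central element -/
def Sq : Finset G := univ.filter fun x => x * x ∈ Zc t ∧ x * x ≠ 1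

omit H in
@[simp] theorem mem_Sq {x : G} : x ∈ Sq t ↔ x * x ∈ Zc t ∧ x * x ≠ 1 := by simp [Sq]

theorem mem_Cz_of_sq (ht : t ∈ Inv G) (h : g * g ∈ Zc t) (h1 : g * g ≠ 1) : g ∈ Cz t :=
  (H.of_mem_Zc ht h h1).2 ▸ mem_Cz.2 (mul_assoc _ _ _).symm

theorem card_Sq (ht : t ∈ Inv G) : (Sq t).card = (Nat.card (Zc t) - 1) * r := by
  rw [card_eq_sum_card_fiberwise (f := fun x => x * x) (t := (fs (Zc t)).erase 1)
    (fun x hx => by simpa [and_comm] using hx), sum_congr rfl (g := fun _ => r) fun s hs => ?_,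
    sum_const, card_erase_of_mem (mem_fs.2 (one_mem _)), card_fs, smul_eq_mul]
  rw [mem_erase, mem_fs] at hs
  rw [← H.rt (H.of_mem_Zc ht hs.2 hs.1).1]
  congr 1; ext x
  simp only [mem_filter, mem_Sq, mem_rts]
  exact ⟨fun h => h.2, fun h => ⟨h ▸ ⟨hs.2, hs.1⟩, h⟩⟩

theorem card_Zc (ht : t ∈ Inv G) : Nat.card (Zc t) ∈ ({4, 8, 16, 32, 64} : Finset ℕ) ∧
    Nat.card (Zc t) - 1 ∣ m ∧ Nat.card (Zc t) + (Nat.card (Zc t) - 1) * r ≤ 64 := by
  refine ⟨?_, ?_, ?_⟩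
  · have h1 := H.card_Zc_ne ht
    have h2 : Nat.card (Zc t) ≠ 1 := fun e =>
      (mem_Inv.1 ht).2 (Subgroup.mem_bot.1 (Subgroup.card_eq_one.1 e ▸ self_mem_Zc t))
    have h5 : Nat.card (Zc t) ∈ Nat.divisors 64 :=
      Nat.mem_divisors.2 ⟨H.c2 t ht ▸ Subgroup.card_dvd_of_le (Zc_le t), by norm_num⟩
    generalize Nat.card (Zc t) = a at *
    fin_cases h5 <;> simp_all
  · have := (Nz t).card_subgroup_dvd_card
    rw [H.card_Nz ht, H.card, mul_comm 64] at this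
    exact Nat.dvd_of_mul_dvd_mul_right (by norm_num) this
  · rw [← H.card_Sq ht, ← card_fs, ← card_union_of_disjoint (disjoint_left.2 fun x hx hx' =>
      (mem_Sq.1 hx').2 (H.sq_Zc ht (mem_fs.1 hx))), ← H.c2 t ht, ← card_fs]
    refine card_le_card fun x hx => mem_fs.2 ((mem_union.1 hx).elim (fun h => Zc_le t (mem_fs.1 h))
      fun h => H.mem_Cz_of_sq ht (mem_Sq.1 h).1 (mem_Sq.1 h).2)

/-- a `2`-element normalizing the centralizer lies in it -/
theorem mem_of_Nz (ht : t ∈ Inv G) (hg : g ∈ Nz t) (h : g ^ 4 = 1) : g ∈ Cz t := by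
  have h1 := ((Cz t).subgroupOf (Nz t)).card_mul_index
  rw [card_subgroupOf (Cz_le_Nz t), H.c2 t ht, H.card_Nz ht, mul_comm _ 64] at h1
  have h2 : Odd ((Cz t).subgroupOf (Nz t)).index :=
    H.odd.of_dvd_nat (Nat.eq_of_mul_eq_mul_left (by norm_num) h1 ▸ (H.card_Zc ht).2.1)
  have : ((Cz t).subgroupOf (Nz t)).Normal := Subgroup.normal_in_normalizer
  have h3 : g ^ ((Cz t).subgroupOf (Nz t)).index ∈ Cz t :=
    Subgroup.pow_index_mem ((Cz t).subgroupOf (Nz t)) ⟨g, hg⟩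
  obtain ⟨k, hk⟩ := h2
  have h4 : g = (g ^ (2 * k + 1)) ^ (2 * k + 1) * ((g ^ 4) ^ (k * k + k))⁻¹ := by
    rw [← pow_mul, ← pow_mul, eq_mul_inv_iff_mul_eq, ← pow_succ']; congr 1; ring
  rw [h4, h, one_pow, inv_one, mul_one, ← hk]
  exact pow_mem h3 _

end H64
end
end Cfsg.Agent.J3T.C64
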