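import Cfsg.Agent.Lib.Rec.Sz8A
import Cfsg.Agent.Lib.Suz.Iso

/-! Recognition of the Suzuki group of order 29120 from its centralizer orders. -/

set_option autoImplicit false
set_option linter.unusedSectionVars false
open Finset Classical

namespace Cfsg.Agent.Rec
open Cfsg.Agent.Suz

theorem sz_model {F : Type*} [Field F] [SuzF F 1] {j : ℕ} (hj : j = 3 ∨ j = 5) :
    ∃ k : G F 1, ∀ r ∈ szRel j 3, CG.ev (szY (u 1 0) k w) r = 1 := by
  have h2 : (2 : F) = 0 := two_eq_zero'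
  have h7 : ∀ {a : F}, a ≠ 0 → a ^ 7 = 1 := fun h => pow_q_sub_one h
  obtain ⟨a, ha⟩ : ∃ a : F, a ^ 3 = 1 + a := by
    obtain ⟨g, g0, g1⟩ := exists_ne_zero_one (F := F)
    have : (g - 1) * ((g ^ 3 - (1 + g)) * ((g + 1) ^ 3 - (1 + (g + 1)))) = 0 := by
      linear_combination h7 g0 + (g ^ 6 - g ^ 5 - 3 * g ^ 4 + 2 * g ^ 2 + g) * h2
    rcases mul_eq_zero.1 ((mul_eq_zero.1 this).resolve_left (sub_ne_zero.2 g1)) with h | h
    exacts [⟨_, sub_eq_zero.1 h⟩, ⟨_, sub_eq_zero.1 h⟩]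
  have a0 : a ≠ 0 := by rintro rfl; simp at ha
  obtain ⟨b, b0, hb⟩ : ∃ b : F, b ≠ 0 ∧ b ^ j = 1 + b := by
    rcases hj with rfl | rfl
    · exact ⟨a, a0, ha⟩
    · exact ⟨a ^ 3, pow_ne_zero _ a0, by linear_combination (a ^ 8 + a) * h7 a0 + ha + (a - a ^ 3) * h2⟩
  have hc : ∀ (i : ℕ) (c d : F), (hh (Units.mk0 b b0) : G F 1) ^ i * u c d * (hh (Units.mk0 b b0) ^ i)⁻¹ =
      u (b ^ i * c) (b ^ i * θ (b ^ i) * d) := fun i c d => by rw [hh_pow, hh_conj_u]; rfl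
  have hx : (u 1 0 * u 1 0 : G F 1) = u 0 1 := by rw [← pow_two, u_sq]; simp
  refine ⟨hh (Units.mk0 b b0), szRel_ok w_mul_w ?_ ?_ (u_pow_four _ _) ?_ (fun i => ?_) ?_⟩
  · rw [hh_pow, hh_eq_one]; exact Units.ext (h7 b0)
  · rw [w_mul_hh, mul_assoc, w_mul_w, mul_one, hh_inv]
  · rw [hx, u_inv]
    apply mat_injective
    simp only [mat_mul, mat_u, mat_w, uM, wM, ff]
    ext i l
    fin_cases i <;> fin_cases l <;> simp [Matrix.mul_apply, Fin.sum_univ_four, add_self']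
  · rw [hx, hc]; exact (u_comm_z _ _ _).symm
  · rw [if_pos (by norm_num), hx, hc, hc, hh_conj_u, u_mul_u, u_mul_u, u_inj, θ_def (b ^ 3)]
    simp only [Units.val_mk0, mul_one, mul_zero, add_zero, zero_add, θ_one, one_mul, hb, true_and]
    linear_combination (b ^ 8 + b) * h7 b0 + b * h2

theorem sz_iso {G : Type*} [Group G] [Finite G] [IsSimpleGroup G] (hg : Nat.card G = 29120)
    {F : Type} [Field F] [SuzF F 1] {x k w' : G} {j : ℕ} (hj : j = 3 ∨ j = 5)
    (hR : ∀ r ∈ szRel j 3, CG.ev (szY x k w') r = 1) (hT : CG.cl (szY x k w') [0, 1, 2, 3, 4] = ⊤) :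
    Nonempty (G ≃* ↥(Cfsg.Lie.Sz F 4)) := by
  obtain ⟨k', hR'⟩ := sz_model (F := F) hj
  obtain ⟨f, hf⟩ := CG.Bounds.lift (N := 29120) (by
    rcases hj with rfl | rfl
    exacts [TCX.Sz33.good, TCX.Sz53.good]) hR hT hg.ge _ hR'
  have hi : Function.Injective f := (MonoidHom.ker_eq_bot_iff f).1
    ((IsSimpleGroup.eq_bot_or_eq_top_of_normal f.ker inferInstance).resolve_right fun e =>
      w_ne_one ((hf 4 (by simp)).symm.trans (MonoidHom.mem_ker.1 (e ▸ Subgroup.mem_top _))))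
  exact ⟨(MulEquiv.ofBijective f
    ((Nat.bijective_iff_injective_and_card f).2 ⟨hi, by rw [hg, card_G]; rfl⟩)).trans (lieEquiv F)⟩

theorem sz_num {a b c d e : ℕ}
    (h1 : 29120 = 1 + (455 * a + (1820 * b + (5824 * c + (4160 * d + 2240 * e)))))
    (h2 : 320320 = 29120 + (64 * (455 * a) + (16 * (1820 * b) + (5 * (5824 * c) +
      (7 * (4160 * d) + 13 * (2240 * e)))))) : a = 1 ∧ b = 2 := by
  have h4 : a + b + c + d + e = 10 := by linarith
  have k1 : ∀ K c : ℕ, c ≤ 4 → 29119 = 5 * K + 4 * c → c = 1 := fun K c h1 h2 => by omega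
  have k2 : ∀ K c : ℕ, c ≤ 6 → 29119 = 7 * K + 2 * c → c = 3 := fun K c h1 h2 => by omega
  have k3 : ∀ K c : ℕ, c ≤ 10 → 29119 = 13 * K + 4 * c → c = 3 := fun K c h1 h2 => by omega
  have h5 := k1 (91 * a + 364 * b + 1164 * c + 832 * d + 448 * e) c (by nlinarith) (by linarith)
  have h6 := k2 (65 * a + 260 * b + 832 * c + 594 * d + 320 * e) d (by nlinarith) (by linarith)
  have h7 := k3 (35 * a + 140 * b + 448 * c + 320 * d + 172 * e) e (by linarith [a.zero_le, b.zero_le, c.zero_le, d.zero_le]) (by linarith)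
  constructor <;> linarith

theorem recSz8 {G : Type*} [Group G] [Finite G] [IsSimpleGroup G] (hg : Nat.card G = 29120)
    (hk : Nat.card (ConjClasses G) = 11)
    (hc : ∀ x : G, x ≠ 1 → (orderOf x, Nat.card (Subgroup.centralizer {x})) ∈
      ({(2, 64), (4, 16), (5, 5), (7, 7), (13, 13)} : Finset (ℕ × ℕ))) :
    ∃ (F : Type) (_ : Field F) (_ : Fintype F), Fintype.card F = 8 ∧
      Nonempty (G ≃* ↥(Cfsg.Lie.Sz F 4)) := by
  cases nonempty_fintype G
  have h0 : ∀ x : G, orderOf x ∈ ({1, 2, 4, 5, 7, 13} : Finset ℕ) ∧ Nat.card (J3T.Cz x) =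
      (fun n => if n = 1 then 29120 else if n = 2 then 64 else if n = 4 then 16 else n) (orderOf x) :=
    fun x => by
    by_cases h : x = 1
    · subst h
      rw [show J3T.Cz (1 : G) = ⊤ from eq_top_iff.2 fun a _ => J3T.mem_Cz.2 (by simp), Subgroup.card_top]
      simpa using hg
    · have := hc x h
      generalize orderOf x = a at *
      simp only [mem_insert, mem_singleton, Prod.mk.injEq] at this
      rcases this with ⟨rfl, e⟩ | ⟨rfl, e⟩ | ⟨rfl, e⟩ | ⟨rfl, e⟩ | ⟨rfl, e⟩ <;> simpa using e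
  obtain ⟨h1, h2, h3⟩ := J3T.C64.counts _
    (fun n => if n = 1 then 29120 else if n = 2 then 64 else if n = 4 then 16 else n) h0
  obtain ⟨a, ha⟩ := h3 2 455 (by rw [hg]; rfl)
  obtain ⟨b, hb⟩ := h3 4 1820 (by rw [hg]; rfl)
  obtain ⟨c, hc'⟩ := h3 5 5824 (by rw [hg]; rfl)
  obtain ⟨d, hd⟩ := h3 7 4160 (by rw [hg]; rfl)
  obtain ⟨e, he⟩ := h3 13 2240 (by rw [hg]; rfl)
  rw [hg] at h1
  rw [hg, hk] at h2
  simp [J3T.C64.card_Sn_one, ha, hb, hc', hd, he] at h1 h2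
  have hab := sz_num h1 h2
  have ho : ∀ x : G, x ≠ 1 → orderOf x ∈ ({2, 4, 5, 7, 13} : Finset ℕ) := fun x h =>
    (mem_insert.1 (h0 x).1).resolve_left (by simpa using h)
  have H : J3T.C64.H64 G 455 8 := ⟨fun t ht => by simpa [J3T.Inv.order ht] using (h0 t).2,
    fun x hx => by simpa [hx] using (h0 x).2, fun x h1 h2 h3 => by
      have h4 := ho x h1
      have h5 : orderOf x ≠ 2 := fun e => h2 (J3T.Inv.of_order e)
      rw [(h0 x).2]
      generalize orderOf x = a at h3 h4 h5 ⊢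
      revert h3 h5
      fin_cases h4 <;> decide, hg, by decide, by decide,
    by rw [← J3T.C64.Sn_two, ha, hab.1], by rw [hb, hab.2]⟩
  obtain ⟨x, k, w, j, hj, hR, hT⟩ := H.sz_gens ho fun k hk => by simpa [hk] using (h0 k).2
  letI : Fintype (GaloisField 2 3) := Fintype.ofFinite _
  have hF : Fintype.card (GaloisField 2 3) = 8 := by
    rw [← Nat.card_eq_fintype_card, GaloisField.card 2 3 (by norm_num)]; rfl
  haveI : SuzF (GaloisField 2 3) 1 := SuzF.of_card le_rfl hF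
  exact ⟨_, inferInstance, inferInstance, hF, sz_iso hg hj hR hT⟩

end Cfsg.Agent.Rec
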