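import Cfsg.Agent.Lib.Rec.SzRel

set_option autoImplicit false
set_option maxRecDepth 100000
set_option Elab.async false

namespace Cfsg.Agent.TCX.Sz00

noncomputable def l0t0 : Bt Nat := (.node (.leaf (nat_lit 0x7034040800000000900c100000000000602c0c0000000000900c0808000000009014000)) (.leaf (nat_lit 0)))
noncomputable def l0t1 : Bt Nat := (.node (.leaf (nat_lit 0x800000000801c000)) (.leaf (nat_lit 0)))
noncomputable def l0t2 : Bt Nat := (.node (.leaf (nat_lit 0x50340c0000000000702c0408000000009014000)) (.leaf (nat_lit 0)))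
noncomputable def l0t3 : Bt Nat := (.node (.leaf (nat_lit 0x402c0800000000000000000000000000602c0400000000000000000)) (.leaf (nat_lit 0)))
noncomputable def l0t4 : Bt Nat := (.node (.leaf (nat_lit 0x802c080000000000900c0c0800000000802c000000000000900c040)) (.leaf (nat_lit 0)))
noncomputable def l0t5 : Bt Nat := (.node (.leaf (nat_lit 0x302c040000000000285404380000000018540040000000000000000)) (.leaf (nat_lit 0)))
noncomputable def l0t6 : Bt Nat := (.node (.leaf (nat_lit 0x240c0000000000001c0840000000000014040000000000000c0040000000000000000)) (.leaf (nat_lit 0)))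


noncomputable def l0r0 : Bt Ru := (.node (.leaf ⟨[0,0,0],4,0⟩) (.leaf ⟨[0,4,0,4,1,4],6,1⟩))
noncomputable def l0r1 : Bt Ru := (.leaf ⟨[0],0,0⟩)
noncomputable def l0r2 : Bt Ru := (.node (.leaf ⟨[4,2,4],1,3⟩) (.leaf ⟨[0,3,0,0],5,1⟩))
noncomputable def l0r3 : Bt Ru := (.leaf ⟨[2],2,0⟩)
noncomputable def l0r4 : Bt Ru := (.leaf ⟨[4],3,0⟩)
noncomputable def l0r5 : Bt Ru := (.leaf ⟨[0,3,0,0,2],5,2⟩)
noncomputable def l0T : List (Bt Nat) := [l0t0, l0t1, l0t2, l0t3, l0t4, l0t5, l0t6]
noncomputable def l0R : List (Bt Ru) := [l0r0, l0r1, l0r2, l0r3, l0r4, l0r5]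
noncomputable def l0c (a lo cnt : Nat) : Nat := chk (gT l0T (nat_lit 14)) (rT l0R) (nat_lit 14) (nat_lit 0x7fc0) (nat_lit 0x4000) (nat_lit 0x3fc0) (nat_lit 5) (nat_lit 15) (nat_lit 511) (nat_lit 0x8000000000ffffff) (nat_lit 4) (nat_lit 6) (nat_lit 15) (nat_lit 0x4000) a (nfOf [] 0 a) lo cnt
noncomputable def l0f (a : Nat) : Nat := l0c a 0 1
noncomputable def l0m (lo cnt : Nat) : Nat := chkM (gT l0T (nat_lit 14)) (nat_lit 14) (nat_lit 0x7fc0) (nat_lit 0x4000) (nat_lit 0x3fc0) (nat_lit 5) lo cnt


theorem c0 : orR l0f 0 6 = 0 := by decide +kernel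


open Cfsg.Agent.CG

/-- The relators used. -/
noncomputable def R : List (List ℕ) := [[1,0],
  [4,2,4,2],
  [3,2],
  [4,4],
  [0,0,0,0],
  [0,2,0,3,0],
  [4,0,0,4,0,4,1],
  [0,1],
  [2,3]]

noncomputable def invL : List ℕ := [1,0,3,2,4]

/-- How the relators used follow from the given ones. -/
noncomputable def hints : List (ℕ × Bool × List ℕ) := [(14,false,[]),
  (4,false,[]),
  (14,false,[]),
  (14,false,[]),
  (5,false,[]),
  (13,false,[]),
  (6,false,[]),
  (14,false,[]),
  (14,false,[])]

theorem l0all : ∀ a, a < 6 → l0f a = 0 :=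
  allz_of_orR c0
theorem l0ru : allLt (rusChk R (nat_lit 5) l0R) 6 = true := by decide +kernel
noncomputable def l0W : List (List ℕ) := [[4]]
theorem l0_ok : Mem R [0,1,2,3] l0W :=
  mem_of_chk (q := 8) (d := 1) (s2 := 24) (full := 1) (f := l0f) (by decide +kernel) (by decide +kernel) (fun _ => rfl) l0all l0ru (by decide +kernel) (by decide +kernel)


theorem imp : Imp (Rec.szRel 0 0) R :=
  imp_of_ders (n := 5) (inv := invOf invL) (hs := hints) (by decide +kernel) (invOf_ge' rfl)
    (by decide +kernel) (by decide +kernel) (by decide +kernel)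
theorem bad : Mem (Rec.szRel 0 0) [0,1,2,3] [[4]] := Rec.mem_of_imp imp l0_ok

end Cfsg.Agent.TCX.Sz00

namespace Cfsg.Agent.TCX.Sz01

noncomputable def l0t0 : Bt Nat := (.node (.leaf (nat_lit 0x602c040800000000800c1008000000003854100000000000800c0808000000008014000)) (.leaf (nat_lit 0)))
noncomputable def l0t1 : Bt Nat := (.node (.leaf (nat_lit 0x701c0c00000000000000000000000000702c040800000000502c100800000000701c000)) (.leaf (nat_lit 0)))
noncomputable def l0t4 : Bt Nat := (.node (.leaf (nat_lit 0x800c0c0800000000702c000000000000800c040)) (.leaf (nat_lit 0)))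
noncomputable def l0t5 : Bt Nat := (.node (.leaf (nat_lit 0x4034080000000000202c040800000000184c0040000000000000000)) (.leaf (nat_lit 0)))
noncomputable def l0t6 : Bt Nat := (.node (.leaf (nat_lit 0x240c0000000000001c0840000000000014040000000000000c0040000000000000000)) (.leaf (nat_lit 0)))


noncomputable def l0r0 : Bt Ru := (.leaf ⟨[0,4,0,4,1,4],4,1⟩)
noncomputable def l0r1 : Bt Ru := (.leaf ⟨[0],0,0⟩)
noncomputable def l0r2 : Bt Ru := (.leaf ⟨[3],6,0⟩)
noncomputable def l0r3 : Bt Ru := (.leaf ⟨[2],7,0⟩)
noncomputable def l0r4 : Bt Ru := (.leaf ⟨[4],1,0⟩)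
noncomputable def l0r5 : Bt Ru := (.node (.leaf ⟨[0,0,0,0],2,0⟩) (.leaf ⟨[1,1,1],3,0⟩))
noncomputable def l0T : List (Bt Nat) := [l0t0, l0t1, (.leaf (nat_lit 0)), (.leaf (nat_lit 0)), l0t4, l0t5, l0t6]
noncomputable def l0R : List (Bt Ru) := [l0r0, l0r1, l0r2, l0r3, l0r4, l0r5]
noncomputable def l0c (a lo cnt : Nat) : Nat := chk (gT l0T (nat_lit 14)) (rT l0R) (nat_lit 14) (nat_lit 0x7fc0) (nat_lit 0x4000) (nat_lit 0x3fc0) (nat_lit 5) (nat_lit 15) (nat_lit 511) (nat_lit 0x8000000000ffffff) (nat_lit 4) (nat_lit 6) (nat_lit 15) (nat_lit 0x4000) a (nfOf [] 0 a) lo cnt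
noncomputable def l0f (a : Nat) : Nat := l0c a 0 1
noncomputable def l0m (lo cnt : Nat) : Nat := chkM (gT l0T (nat_lit 14)) (nat_lit 14) (nat_lit 0x7fc0) (nat_lit 0x4000) (nat_lit 0x3fc0) (nat_lit 5) lo cnt


theorem c0 : orR l0f 0 6 = 0 := by decide +kernel


open Cfsg.Agent.CG

/-- The relators used. -/
noncomputable def R : List (List ℕ) := [[1,0],
  [4,4],
  [0,0,0,0],
  [1,1,1],
  [4,0,0,4,0,4,1],
  [0,1],
  [2,3],
  [3,2]]

noncomputable def invL : List ℕ := [1,0,3,2,4]

/-- How the relators used follow from the given ones. -/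
noncomputable def hints : List (ℕ × Bool × List ℕ) := [(14,false,[]),
  (14,false,[]),
  (5,false,[]),
  (13,true,[0,2]),
  (6,false,[]),
  (14,false,[]),
  (14,false,[]),
  (14,false,[])]

theorem l0all : ∀ a, a < 6 → l0f a = 0 :=
  allz_of_orR c0
theorem l0ru : allLt (rusChk R (nat_lit 5) l0R) 6 = true := by decide +kernel
noncomputable def l0W : List (List ℕ) := [[4]]
theorem l0_ok : Mem R [0,1,2,3] l0W :=
  mem_of_chk (q := 8) (d := 1) (s2 := 24) (full := 1) (f := l0f) (by decide +kernel) (by decide +kernel) (fun _ => rfl) l0all l0ru (by decide +kernel) (by decide +kernel)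


theorem imp : Imp (Rec.szRel 0 1) R :=
  imp_of_ders (n := 5) (inv := invOf invL) (hs := hints) (by decide +kernel) (invOf_ge' rfl)
    (by decide +kernel) (by decide +kernel) (by decide +kernel)
theorem bad : Mem (Rec.szRel 0 1) [0,1,2,3] [[4]] := Rec.mem_of_imp imp l0_ok

end Cfsg.Agent.TCX.Sz01

namespace Cfsg.Agent.TCX.Sz02

noncomputable def l0t0 : Bt Nat := (.node (.leaf (nat_lit 0x7034040000000000900c100000000000602c0c0000000000900c0808000000009014000)) (.leaf (nat_lit 0)))
noncomputable def l0t1 : Bt Nat := (.node (.leaf (nat_lit 0x802c0c00000000000000000000000000802c040000000000602c100800000000801c000)) (.leaf (nat_lit 0)))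
noncomputable def l0t2 : Bt Nat := (.node (.leaf (nat_lit 0x50341000000000000000000000000000702c0408000000009014000)) (.leaf (nat_lit 0)))
noncomputable def l0t3 : Bt Nat := (.node (.leaf (nat_lit 0x602c0400000000000000000)) (.leaf (nat_lit 0)))
noncomputable def l0t4 : Bt Nat := (.node (.leaf (nat_lit 0x802c080000000000900c0c0800000000802c000000000000900c040)) (.leaf (nat_lit 0)))
noncomputable def l0t5 : Bt Nat := (.node (.leaf (nat_lit 0x402c080000000000385c040000000000285404280000000018540040000000000000000)) (.leaf (nat_lit 0)))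
noncomputable def l0t6 : Bt Nat := (.node (.leaf (nat_lit 0x240c0000000000001c0840000000000014040000000000000c0040000000000000000)) (.leaf (nat_lit 0)))


noncomputable def l0r0 : Bt Ru := (.node (.leaf ⟨[0,0,0],4,0⟩) (.leaf ⟨[0,4,0,4,1,4],6,1⟩))
noncomputable def l0r1 : Bt Ru := (.leaf ⟨[0],0,0⟩)
noncomputable def l0r2 : Bt Ru := (.node (.leaf ⟨[4,2,4],1,3⟩) (.leaf ⟨[0,0,3,0],5,1⟩))
noncomputable def l0r3 : Bt Ru := (.leaf ⟨[2],2,0⟩)
noncomputable def l0r4 : Bt Ru := (.leaf ⟨[4],3,0⟩)
noncomputable def l0r5 : Bt Ru := (.leaf ⟨[2,1,1,3,1],7,0⟩)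
noncomputable def l0T : List (Bt Nat) := [l0t0, l0t1, l0t2, l0t3, l0t4, l0t5, l0t6]
noncomputable def l0R : List (Bt Ru) := [l0r0, l0r1, l0r2, l0r3, l0r4, l0r5]
noncomputable def l0c (a lo cnt : Nat) : Nat := chk (gT l0T (nat_lit 14)) (rT l0R) (nat_lit 14) (nat_lit 0x7fc0) (nat_lit 0x4000) (nat_lit 0x3fc0) (nat_lit 5) (nat_lit 15) (nat_lit 511) (nat_lit 0x8000000000ffffff) (nat_lit 4) (nat_lit 6) (nat_lit 15) (nat_lit 0x4000) a (nfOf [] 0 a) lo cnt
noncomputable def l0f (a : Nat) : Nat := l0c a 0 1
noncomputable def l0m (lo cnt : Nat) : Nat := chkM (gT l0T (nat_lit 14)) (nat_lit 14) (nat_lit 0x7fc0) (nat_lit 0x4000) (nat_lit 0x3fc0) (nat_lit 5) lo cnt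


theorem c0 : orR l0f 0 6 = 0 := by decide +kernel


open Cfsg.Agent.CG

/-- The relators used. -/
noncomputable def R : List (List ℕ) := [[1,0],
  [4,2,4,2],
  [3,2],
  [4,4],
  [0,0,0,0],
  [0,2,0,0,3],
  [4,0,0,4,0,4,1],
  [2,1,1,3,1],
  [0,1],
  [2,3]]

noncomputable def invL : List ℕ := [1,0,3,2,4]

/-- How the relators used follow from the given ones. -/
noncomputable def hints : List (ℕ × Bool × List ℕ) := [(14,false,[]),
  (4,false,[]),
  (14,false,[]),
  (14,false,[]),
  (5,false,[]),
  (13,false,[0,2]),
  (6,false,[]),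
  (13,true,[0,2]),
  (14,false,[]),
  (14,false,[])]

theorem l0all : ∀ a, a < 6 → l0f a = 0 :=
  allz_of_orR c0
theorem l0ru : allLt (rusChk R (nat_lit 5) l0R) 6 = true := by decide +kernel
noncomputable def l0W : List (List ℕ) := [[4]]
theorem l0_ok : Mem R [0,1,2,3] l0W :=
  mem_of_chk (q := 8) (d := 1) (s2 := 24) (full := 1) (f := l0f) (by decide +kernel) (by decide +kernel) (fun _ => rfl) l0all l0ru (by decide +kernel) (by decide +kernel)


theorem imp : Imp (Rec.szRel 0 2) R :=
  imp_of_ders (n := 5) (inv := invOf invL) (hs := hints) (by decide +kernel) (invOf_ge' rfl)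
    (by decide +kernel) (by decide +kernel) (by decide +kernel)
theorem bad : Mem (Rec.szRel 0 2) [0,1,2,3] [[4]] := Rec.mem_of_imp imp l0_ok

end Cfsg.Agent.TCX.Sz02

namespace Cfsg.Agent.TCX.Sz03

noncomputable def l0t0 : Bt Nat := (.node (.leaf (nat_lit 0x7034040000000000900c100000000000602c0c0000000000900c0808000000009014000)) (.leaf (nat_lit 0)))
noncomputable def l0t1 : Bt Nat := (.node (.leaf (nat_lit 0x802c0c000000000000000000000000000000000000000000602c100800000000801c000)) (.leaf (nat_lit 0)))
noncomputable def l0t2 : Bt Nat := (.node (.leaf (nat_lit 0x50341000000000000000000800000000900c1400000000000000000000000000702c0408000000009014000)) (.leaf (nat_lit 0)))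
noncomputable def l0t3 : Bt Nat := (.node (.leaf (nat_lit 0x602c0400000000000000000)) (.leaf (nat_lit 0)))
noncomputable def l0t4 : Bt Nat := (.node (.leaf (nat_lit 0x802c080000000000900c0c0800000000802c000000000000900c040)) (.leaf (nat_lit 0)))
noncomputable def l0t5 : Bt Nat := (.node (.leaf (nat_lit 0x3854080000000000402c0408000000002854004800000000185c0000000000000000000)) (.leaf (nat_lit 0)))
noncomputable def l0t6 : Bt Nat := (.node (.leaf (nat_lit 0x240c200000000000240c0000000000001c0840000000000014040000000000000c0040000000000000000)) (.leaf (nat_lit 0)))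


noncomputable def l0r0 : Bt Ru := (.node (.leaf ⟨[0,0,0],4,0⟩) (.leaf ⟨[0,4,0,4,1,4],6,1⟩))
noncomputable def l0r1 : Bt Ru := (.leaf ⟨[0],0,0⟩)
noncomputable def l0r2 : Bt Ru := (.node (.leaf ⟨[4,2,4],1,3⟩) (.leaf ⟨[2,0,0,3,3,0],7,1⟩))
noncomputable def l0r3 : Bt Ru := (.leaf ⟨[2],2,0⟩)
noncomputable def l0r4 : Bt Ru := (.leaf ⟨[4],3,0⟩)
noncomputable def l0r5 : Bt Ru := (.leaf ⟨[1,2,2,1,1,3,3],5,6⟩)
noncomputable def l0T : List (Bt Nat) := [l0t0, l0t1, l0t2, l0t3, l0t4, l0t5, l0t6]
noncomputable def l0R : List (Bt Ru) := [l0r0, l0r1, l0r2, l0r3, l0r4, l0r5]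
noncomputable def l0c (a lo cnt : Nat) : Nat := chk (gT l0T (nat_lit 14)) (rT l0R) (nat_lit 14) (nat_lit 0x7fc0) (nat_lit 0x4000) (nat_lit 0x3fc0) (nat_lit 5) (nat_lit 15) (nat_lit 511) (nat_lit 0x8000000000ffffff) (nat_lit 4) (nat_lit 6) (nat_lit 15) (nat_lit 0x4000) a (nfOf [] 0 a) lo cnt
noncomputable def l0f (a : Nat) : Nat := l0c a 0 1
noncomputable def l0m (lo cnt : Nat) : Nat := chkM (gT l0T (nat_lit 14)) (nat_lit 14) (nat_lit 0x7fc0) (nat_lit 0x4000) (nat_lit 0x3fc0) (nat_lit 5) lo cnt


theorem c0 : orR l0f 0 6 = 0 := by decide +kernel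


open Cfsg.Agent.CG

/-- The relators used. -/
noncomputable def R : List (List ℕ) := [[1,0],
  [4,2,4,2],
  [3,2],
  [4,4],
  [0,0,0,0],
  [2,2,1,1,3,3,1],
  [4,0,0,4,0,4,1],
  [0,2,2,0,0,3,3],
  [0,1],
  [2,3]]

noncomputable def invL : List ℕ := [1,0,3,2,4]

/-- How the relators used follow from the given ones. -/
noncomputable def hints : List (ℕ × Bool × List ℕ) := [(14,false,[]),
  (4,false,[]),
  (14,false,[]),
  (14,false,[]),
  (5,false,[]),
  (13,true,[0,2]),
  (6,false,[]),
  (13,false,[0,2]),
  (14,false,[]),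
  (14,false,[])]

theorem l0all : ∀ a, a < 6 → l0f a = 0 :=
  allz_of_orR c0
theorem l0ru : allLt (rusChk R (nat_lit 5) l0R) 6 = true := by decide +kernel
noncomputable def l0W : List (List ℕ) := [[4]]
theorem l0_ok : Mem R [0,1,2,3] l0W :=
  mem_of_chk (q := 8) (d := 1) (s2 := 24) (full := 1) (f := l0f) (by decide +kernel) (by decide +kernel) (fun _ => rfl) l0all l0ru (by decide +kernel) (by decide +kernel)


theorem imp : Imp (Rec.szRel 0 3) R :=
  imp_of_ders (n := 5) (inv := invOf invL) (hs := hints) (by decide +kernel) (invOf_ge' rfl)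
    (by decide +kernel) (by decide +kernel) (by decide +kernel)
theorem bad : Mem (Rec.szRel 0 3) [0,1,2,3] [[4]] := Rec.mem_of_imp imp l0_ok

end Cfsg.Agent.TCX.Sz03

namespace Cfsg.Agent.TCX.Sz04

noncomputable def l0t0 : Bt Nat := (.node (.leaf (nat_lit 0x7034040000000000900c100000000000602c0c0000000000900c0808000000009014000)) (.leaf (nat_lit 0)))
noncomputable def l0t1 : Bt Nat := (.node (.leaf (nat_lit 0x802c0c000000000000000000000000000000000000000000602c100800000000801c000)) (.leaf (nat_lit 0)))
noncomputable def l0t2 : Bt Nat := (.node (.leaf (nat_lit 0x5034100800000000900c1800000000000000000800000000900c1400000000000000000000000000702c0408000000009014000)) (.leaf (nat_lit 0)))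
noncomputable def l0t3 : Bt Nat := (.node (.leaf (nat_lit 0x602c0400000000000000000)) (.leaf (nat_lit 0)))
noncomputable def l0t4 : Bt Nat := (.node (.leaf (nat_lit 0x802c080000000000900c0c0800000000802c000000000000900c040)) (.leaf (nat_lit 0)))
noncomputable def l0t5 : Bt Nat := (.node (.leaf (nat_lit 0x3854080000000000402c0408000000002854004800000000185c0000000000000000000)) (.leaf (nat_lit 0)))
noncomputable def l0t6 : Bt Nat := (.node (.leaf (nat_lit 0x2c14200000000000240c200000000000240c0000000000001c0840000000000014040000000000000c0040000000000000000)) (.leaf (nat_lit 0)))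


noncomputable def l0r0 : Bt Ru := (.node (.leaf ⟨[0,0,0],4,0⟩) (.leaf ⟨[0,4,0,4,1,4],6,1⟩))
noncomputable def l0r1 : Bt Ru := (.leaf ⟨[0],0,0⟩)
noncomputable def l0r2 : Bt Ru := (.node (.leaf ⟨[4,2,4],1,3⟩) (.leaf ⟨[2,2,0,0,3,3,3,0],7,1⟩))
noncomputable def l0r3 : Bt Ru := (.leaf ⟨[2],2,0⟩)
noncomputable def l0r4 : Bt Ru := (.leaf ⟨[4],3,0⟩)
noncomputable def l0r5 : Bt Ru := (.leaf ⟨[1,2,2,2,1,1,3,3,3],5,8⟩)
noncomputable def l0T : List (Bt Nat) := [l0t0, l0t1, l0t2, l0t3, l0t4, l0t5, l0t6]
noncomputable def l0R : List (Bt Ru) := [l0r0, l0r1, l0r2, l0r3, l0r4, l0r5]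
noncomputable def l0c (a lo cnt : Nat) : Nat := chk (gT l0T (nat_lit 14)) (rT l0R) (nat_lit 14) (nat_lit 0x7fc0) (nat_lit 0x4000) (nat_lit 0x3fc0) (nat_lit 5) (nat_lit 15) (nat_lit 511) (nat_lit 0x8000000000ffffff) (nat_lit 4) (nat_lit 6) (nat_lit 15) (nat_lit 0x4000) a (nfOf [] 0 a) lo cnt
noncomputable def l0f (a : Nat) : Nat := l0c a 0 1
noncomputable def l0m (lo cnt : Nat) : Nat := chkM (gT l0T (nat_lit 14)) (nat_lit 14) (nat_lit 0x7fc0) (nat_lit 0x4000) (nat_lit 0x3fc0) (nat_lit 5) lo cnt


theorem c0 : orR l0f 0 6 = 0 := by decide +kernel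


open Cfsg.Agent.CG

/-- The relators used. -/
noncomputable def R : List (List ℕ) := [[1,0],
  [4,2,4,2],
  [3,2],
  [4,4],
  [0,0,0,0],
  [2,2,2,1,1,3,3,3,1],
  [4,0,0,4,0,4,1],
  [0,2,2,2,0,0,3,3,3],
  [0,1],
  [2,3]]

noncomputable def invL : List ℕ := [1,0,3,2,4]

/-- How the relators used follow from the given ones. -/
noncomputable def hints : List (ℕ × Bool × List ℕ) := [(14,false,[]),
  (4,false,[]),
  (14,false,[]),
  (14,false,[]),
  (5,false,[]),
  (13,true,[0,2]),
  (6,false,[]),
  (13,false,[0,2]),
  (14,false,[]),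
  (14,false,[])]

theorem l0all : ∀ a, a < 6 → l0f a = 0 :=
  allz_of_orR c0
theorem l0ru : allLt (rusChk R (nat_lit 5) l0R) 6 = true := by decide +kernel
noncomputable def l0W : List (List ℕ) := [[4]]
theorem l0_ok : Mem R [0,1,2,3] l0W :=
  mem_of_chk (q := 8) (d := 1) (s2 := 24) (full := 1) (f := l0f) (by decide +kernel) (by decide +kernel) (fun _ => rfl) l0all l0ru (by decide +kernel) (by decide +kernel)


theorem imp : Imp (Rec.szRel 0 4) R :=
  imp_of_ders (n := 5) (inv := invOf invL) (hs := hints) (by decide +kernel) (invOf_ge' rfl)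
    (by decide +kernel) (by decide +kernel) (by decide +kernel)
theorem bad : Mem (Rec.szRel 0 4) [0,1,2,3] [[4]] := Rec.mem_of_imp imp l0_ok

end Cfsg.Agent.TCX.Sz04

namespace Cfsg.Agent.TCX.Sz05

noncomputable def l0t0 : Bt Nat := (.node (.leaf (nat_lit 0x8034040000000000a00c100000000000702c0c0000000000a00c080800000000a014000)) (.leaf (nat_lit 0)))
noncomputable def l0t1 : Bt Nat := (.node (.leaf (nat_lit 0x602c080000000000902c040000000000702c100800000000901c000)) (.leaf (nat_lit 0)))
noncomputable def l0t2 : Bt Nat := (.node (.leaf (nat_lit 0x802c040800000000a014000)) (.leaf (nat_lit 0)))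
noncomputable def l0t3 : Bt Nat := (.node (.leaf (nat_lit 0x8000000007034180000000000802c0c0800000000a00c1c000000000000000000000000000000000800000000a00c14000000000000000000000000000000000)) (.leaf (nat_lit 0)))
noncomputable def l0t4 : Bt Nat := (.node (.leaf (nat_lit 0x800000000a00c1800000000005034100000000000902c080000000000a00c0c0800000000902c000000000000a00c040)) (.leaf (nat_lit 0)))
noncomputable def l0t5 : Bt Nat := (.node (.leaf (nat_lit 0x402c080000000000385c040000000000285c04480000000018540040000000000000000)) (.leaf (nat_lit 0)))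
noncomputable def l0t6 : Bt Nat := (.node (.leaf (nat_lit 0x241430000000000024144000000000001c08300000000000240c0000000000001c0840000000000014040000000000000c0040000000000000000)) (.leaf (nat_lit 0)))


noncomputable def l0r0 : Bt Ru := (.node (.leaf ⟨[0,0,0],3,0⟩) (.leaf ⟨[0,4,0,4,1,4],4,1⟩))
noncomputable def l0r1 : Bt Ru := (.leaf ⟨[0],0,0⟩)
noncomputable def l0r2 : Bt Ru := (.leaf ⟨[4,2,4],1,3⟩)
noncomputable def l0r3 : Bt Ru := (.node (.leaf ⟨[4,3,4],6,0⟩) (.leaf ⟨[3,3,0,2,2,2,2,0,0,3],7,8⟩))
noncomputable def l0r4 : Bt Ru := (.node (.leaf ⟨[4],2,0⟩) (.leaf ⟨[0,4,1,4,0,0],4,3⟩))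
noncomputable def l0r5 : Bt Ru := (.leaf ⟨[1,2,2,2,2,1,1,3,3,3,3],5,10⟩)
noncomputable def l0T : List (Bt Nat) := [l0t0, l0t1, l0t2, l0t3, l0t4, l0t5, l0t6]
noncomputable def l0R : List (Bt Ru) := [l0r0, l0r1, l0r2, l0r3, l0r4, l0r5]
noncomputable def l0c (a lo cnt : Nat) : Nat := chk (gT l0T (nat_lit 14)) (rT l0R) (nat_lit 14) (nat_lit 0x7fc0) (nat_lit 0x4000) (nat_lit 0x3fc0) (nat_lit 5) (nat_lit 15) (nat_lit 511) (nat_lit 0x8000000000ffffff) (nat_lit 4) (nat_lit 6) (nat_lit 15) (nat_lit 0x4000) a (nfOf [] 0 a) lo cnt
noncomputable def l0f (a : Nat) : Nat := l0c a 0 1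
noncomputable def l0m (lo cnt : Nat) : Nat := chkM (gT l0T (nat_lit 14)) (nat_lit 14) (nat_lit 0x7fc0) (nat_lit 0x4000) (nat_lit 0x3fc0) (nat_lit 5) lo cnt


theorem c0 : orR l0f 0 6 = 0 := by decide +kernel


open Cfsg.Agent.CG

/-- The relators used. -/
noncomputable def R : List (List ℕ) := [[1,0],
  [4,2,4,2],
  [4,4],
  [0,0,0,0],
  [4,0,0,4,0,4,1],
  [2,2,2,2,1,1,3,3,3,3,1],
  [3,4,3,4],
  [0,2,2,2,2,0,0,3,3,3,3],
  [0,1],
  [2,3],
  [3,2]]

noncomputable def invL : List ℕ := [1,0,3,2,4]

/-- How the relators used follow from the given ones. -/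
noncomputable def hints : List (ℕ × Bool × List ℕ) := [(14,false,[]),
  (4,false,[]),
  (14,false,[]),
  (5,false,[]),
  (6,false,[]),
  (13,true,[0,2]),
  (4,true,[]),
  (13,false,[0,2]),
  (14,false,[]),
  (14,false,[]),
  (14,false,[])]

theorem l0all : ∀ a, a < 6 → l0f a = 0 :=
  allz_of_orR c0
theorem l0ru : allLt (rusChk R (nat_lit 5) l0R) 6 = true := by decide +kernel
noncomputable def l0W : List (List ℕ) := [[4]]
theorem l0_ok : Mem R [0,1,2,3] l0W :=
  mem_of_chk (q := 8) (d := 1) (s2 := 24) (full := 1) (f := l0f) (by decide +kernel) (by decide +kernel) (fun _ => rfl) l0all l0ru (by decide +kernel) (by decide +kernel)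


theorem imp : Imp (Rec.szRel 0 5) R :=
  imp_of_ders (n := 5) (inv := invOf invL) (hs := hints) (by decide +kernel) (invOf_ge' rfl)
    (by decide +kernel) (by decide +kernel) (by decide +kernel)
theorem bad : Mem (Rec.szRel 0 5) [0,1,2,3] [[4]] := Rec.mem_of_imp imp l0_ok

end Cfsg.Agent.TCX.Sz05

namespace Cfsg.Agent.TCX.Sz06

noncomputable def l0t0 : Bt Nat := (.node (.leaf (nat_lit 0xb03c040000000000d00c100000000000a0340c0000000000d00c080800000000d014000)) (.leaf (nat_lit 0)))
noncomputable def l0t1 : Bt Nat := (.node (.leaf (nat_lit 0x9034080000000000c034040000000000a034100800000000c01c000)) (.leaf (nat_lit 0)))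
noncomputable def l0t2 : Bt Nat := (.node (.leaf (nat_lit 0x703410000000000000000000000000000000000000000000c024080800000000d00c1c000000000000000000000000000000000000000000b034040800000000d014000)) (.leaf (nat_lit 0)))
noncomputable def l0t3 : Bt Nat := (.node (.leaf (nat_lit 0x800000000a044180800000000d00c28000000000000000000000000000000000000000000b03c0c0800000000d00c24000000000060342000000000000000000800000000d00c14000000000000000000000000000000000)) (.leaf (nat_lit 0)))
noncomputable def l0t4 : Bt Nat := (.node (.leaf (nat_lit 0xd00c2000000000000000000800000000d00c180000000000803c100000000000c034080000000000d00c0c0800000000c034000000000000d00c040)) (.leaf (nat_lit 0)))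
noncomputable def l0t5 : Bt Nat := (.node (.leaf (nat_lit 0x8000000005034140000000000000000000000000000000000000000000000000000000000488c082000000000386c040000000000286c04480000000018640040000000000000000)) (.leaf (nat_lit 0)))
noncomputable def l0t6 : Bt Nat := (.node (.leaf (nat_lit 0x2c243000000000002414300000000000341c4000000000002c1020000000000024144000000000001c08300000000000240c0000000000001c0840000000000014040000000000000c0040000000000000000)) (.leaf (nat_lit 0)))


noncomputable def l0r0 : Bt Ru := (.node (.leaf ⟨[0,0,0],3,0⟩) (.leaf ⟨[0,4,0,4,1,4],4,1⟩))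
noncomputable def l0r1 : Bt Ru := (.leaf ⟨[0],0,0⟩)
noncomputable def l0r2 : Bt Ru := (.node (.leaf ⟨[4,2,4],1,3⟩) (.leaf ⟨[3],6,0⟩))
noncomputable def l0r3 : Bt Ru := (.node (.node (.leaf ⟨[2],5,0⟩) (.leaf ⟨[3,3,3,0,2,2,2,2,2,0,0,3],9,9⟩)) (.node (.leaf ⟨[4,3,4],7,0⟩) (.leaf ⟨[2],5,0⟩)))
noncomputable def l0r4 : Bt Ru := (.node (.leaf ⟨[4],2,0⟩) (.leaf ⟨[0,4,1,4,0,0],4,3⟩))
noncomputable def l0r5 : Bt Ru := (.leaf ⟨[3,1,2,2,2,2,2,1,1,3,3,3,3],8,11⟩)
noncomputable def l0T : List (Bt Nat) := [l0t0, l0t1, l0t2, l0t3, l0t4, l0t5, l0t6]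
noncomputable def l0R : List (Bt Ru) := [l0r0, l0r1, l0r2, l0r3, l0r4, l0r5]
noncomputable def l0c (a lo cnt : Nat) : Nat := chk (gT l0T (nat_lit 14)) (rT l0R) (nat_lit 14) (nat_lit 0x7fc0) (nat_lit 0x4000) (nat_lit 0x3fc0) (nat_lit 5) (nat_lit 15) (nat_lit 511) (nat_lit 0x8000000000ffffff) (nat_lit 5) (nat_lit 8) (nat_lit 15) (nat_lit 0x4000) a (nfOf [] 0 a) lo cnt
noncomputable def l0f (a : Nat) : Nat := l0c a 0 1
noncomputable def l0m (lo cnt : Nat) : Nat := chkM (gT l0T (nat_lit 14)) (nat_lit 14) (nat_lit 0x7fc0) (nat_lit 0x4000) (nat_lit 0x3fc0) (nat_lit 5) lo cnt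


theorem c0 : orR l0f 0 6 = 0 := by decide +kernel


open Cfsg.Agent.CG

/-- The relators used. -/
noncomputable def R : List (List ℕ) := [[1,0],
  [4,2,4,2],
  [4,4],
  [0,0,0,0],
  [4,0,0,4,0,4,1],
  [3,2],
  [2,3],
  [3,4,3,4],
  [2,2,2,2,2,1,1,3,3,3,3,3,1],
  [0,2,2,2,2,2,0,0,3,3,3,3,3],
  [0,1]]

noncomputable def invL : List ℕ := [1,0,3,2,4]

/-- How the relators used follow from the given ones. -/
noncomputable def hints : List (ℕ × Bool × List ℕ) := [(14,false,[]),
  (4,false,[]),
  (14,false,[]),
  (5,false,[]),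
  (6,false,[]),
  (14,false,[]),
  (14,false,[]),
  (4,true,[]),
  (13,true,[0,2]),
  (13,false,[0,2]),
  (14,false,[])]

theorem l0all : ∀ a, a < 6 → l0f a = 0 :=
  allz_of_orR c0
theorem l0ru : allLt (rusChk R (nat_lit 5) l0R) 6 = true := by decide +kernel
noncomputable def l0W : List (List ℕ) := [[4]]
theorem l0_ok : Mem R [0,1,2,3] l0W :=
  mem_of_chk (q := 8) (d := 1) (s2 := 24) (full := 1) (f := l0f) (by decide +kernel) (by decide +kernel) (fun _ => rfl) l0all l0ru (by decide +kernel) (by decide +kernel)


theorem imp : Imp (Rec.szRel 0 6) R :=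
  imp_of_ders (n := 5) (inv := invOf invL) (hs := hints) (by decide +kernel) (invOf_ge' rfl)
    (by decide +kernel) (by decide +kernel) (by decide +kernel)
theorem bad : Mem (Rec.szRel 0 6) [0,1,2,3] [[4]] := Rec.mem_of_imp imp l0_ok

end Cfsg.Agent.TCX.Sz06

namespace Cfsg.Agent.TCX.Sz07

noncomputable def l0t0 : Bt Nat := (.node (.leaf (nat_lit 0x4024040000000000600c1000000000000000000000000000600c0808000000006014000)) (.leaf (nat_lit 0)))
noncomputable def l0t1 : Bt Nat := (.node (.leaf (nat_lit 0x50240c0000000000000000000000000050240400000000003024100800000000501c000)) (.leaf (nat_lit 0)))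
noncomputable def l0t4 : Bt Nat := (.node (.leaf (nat_lit 0x600c0c08000000005024000000000000600c040)) (.leaf (nat_lit 0)))
noncomputable def l0t5 : Bt Nat := (.node (.leaf (nat_lit 0x283c041800000000283c0040000000003024040800000000184c0010000000000000000)) (.leaf (nat_lit 0)))
noncomputable def l0t6 : Bt Nat := (.node (.leaf (nat_lit 0x240c0000000000001c0840000000000014040000000000000c0040000000000000000)) (.leaf (nat_lit 0)))


noncomputable def l0r0 : Bt Ru := (.leaf ⟨[0,4,0,4,1,4],3,1⟩)
noncomputable def l0r1 : Bt Ru := (.leaf ⟨[0],0,0⟩)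
noncomputable def l0r2 : Bt Ru := (.leaf ⟨[3],5,0⟩)
noncomputable def l0r3 : Bt Ru := (.leaf ⟨[2],6,0⟩)
noncomputable def l0r4 : Bt Ru := (.leaf ⟨[4],1,0⟩)
noncomputable def l0r5 : Bt Ru := (.leaf ⟨[0],2,0⟩)
noncomputable def l0T : List (Bt Nat) := [l0t0, l0t1, (.leaf (nat_lit 0)), (.leaf (nat_lit 0)), l0t4, l0t5, l0t6]
noncomputable def l0R : List (Bt Ru) := [l0r0, l0r1, l0r2, l0r3, l0r4, l0r5]
noncomputable def l0c (a lo cnt : Nat) : Nat := chk (gT l0T (nat_lit 14)) (rT l0R) (nat_lit 14) (nat_lit 0x7fc0) (nat_lit 0x4000) (nat_lit 0x3fc0) (nat_lit 5) (nat_lit 15) (nat_lit 511) (nat_lit 0x8000000000ffffff) (nat_lit 3) (nat_lit 4) (nat_lit 15) (nat_lit 0x4000) a (nfOf [] 0 a) lo cnt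
noncomputable def l0f (a : Nat) : Nat := l0c a 0 1
noncomputable def l0m (lo cnt : Nat) : Nat := chkM (gT l0T (nat_lit 14)) (nat_lit 14) (nat_lit 0x7fc0) (nat_lit 0x4000) (nat_lit 0x3fc0) (nat_lit 5) lo cnt


theorem c0 : orR l0f 0 6 = 0 := by decide +kernel


open Cfsg.Agent.CG

/-- The relators used. -/
noncomputable def R : List (List ℕ) := [[1,0],
  [4,4],
  [0],
  [4,0,0,4,0,4,1],
  [0,1],
  [2,3],
  [3,2]]

noncomputable def invL : List ℕ := [1,0,3,2,4]

/-- How the relators used follow from the given ones. -/
noncomputable def hints : List (ℕ × Bool × List ℕ) := [(14,false,[]),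
  (14,false,[]),
  (13,false,[0,2]),
  (6,false,[]),
  (14,false,[]),
  (14,false,[]),
  (14,false,[])]

theorem l0all : ∀ a, a < 6 → l0f a = 0 :=
  allz_of_orR c0
theorem l0ru : allLt (rusChk R (nat_lit 5) l0R) 6 = true := by decide +kernel
noncomputable def l0W : List (List ℕ) := [[4]]
theorem l0_ok : Mem R [0,1,2,3] l0W :=
  mem_of_chk (q := 8) (d := 1) (s2 := 24) (full := 1) (f := l0f) (by decide +kernel) (by decide +kernel) (fun _ => rfl) l0all l0ru (by decide +kernel) (by decide +kernel)


theorem imp : Imp (Rec.szRel 0 7) R :=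
  imp_of_ders (n := 5) (inv := invOf invL) (hs := hints) (by decide +kernel) (invOf_ge' rfl)
    (by decide +kernel) (by decide +kernel) (by decide +kernel)
theorem bad : Mem (Rec.szRel 0 7) [0,1,2,3] [[4]] := Rec.mem_of_imp imp l0_ok

end Cfsg.Agent.TCX.Sz07

namespace Cfsg.Agent.TCX.Sz10

noncomputable def l0t0 : Bt Nat := (.node (.leaf (nat_lit 0x800000000800c2400000000000000000800000000800c1c0800000000800c1800000000006034040800000000800c100000000000502c0c0000000000800c0808000000008014000)) (.leaf (nat_lit 0)))
noncomputable def l0t1 : Bt Nat := (.node (.leaf (nat_lit 0x701c0c0000000000402c0800000000000000000800000000502c100800000000701c000)) (.leaf (nat_lit 0)))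
noncomputable def l0t2 : Bt Nat := (.node (.leaf (nat_lit 0x80000000040341000000000000000000000000000000000000000000000000000000000000000000800000000800c14000000000000000000000000000000000000000000602c0408000000008014000)) (.leaf (nat_lit 0)))
noncomputable def l0t3 : Bt Nat := (.node (.leaf (nat_lit 0x800000000800c20000000000000000000000000000000000000000000000000000000000000000000000000000000000000000000502c0400000000000000000)) (.leaf (nat_lit 0)))
noncomputable def l0t4 : Bt Nat := (.node (.leaf (nat_lit 0x800c0c0800000000702c000000000000800c040)) (.leaf (nat_lit 0)))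
noncomputable def l0t5 : Bt Nat := (.node (.leaf (nat_lit 0x284c040000000000302c040800000000184c0040000000000000000)) (.leaf (nat_lit 0)))
noncomputable def l0t6 : Bt Nat := (.node (.leaf (nat_lit 0x4c20000000000000441c3000000000003c1800000000000034140000000000002c10200000000000240c0000000000001c0840000000000014040000000000000c0040000000000000000)) (.leaf (nat_lit 0)))


noncomputable def l0r0 : Bt Ru := (.node (.leaf ⟨[0,0,0],4,0⟩) (.leaf ⟨[0,4,0,4,1,4],6,1⟩))
noncomputable def l0r1 : Bt Ru := (.leaf ⟨[0],0,0⟩)
noncomputable def l0r2 : Bt Ru := (.node (.leaf ⟨[4,2,4],1,3⟩) (.leaf ⟨[0,3,0,0,2,1,3,0],7,1⟩))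
noncomputable def l0r3 : Bt Ru := (.leaf ⟨[2],2,0⟩)
noncomputable def l0r4 : Bt Ru := (.leaf ⟨[4],3,0⟩)
noncomputable def l0r5 : Bt Ru := (.leaf ⟨[1,1,2,0,3,0,0,2,1,3],5,8⟩)
noncomputable def l0T : List (Bt Nat) := [l0t0, l0t1, l0t2, l0t3, l0t4, l0t5, l0t6]
noncomputable def l0R : List (Bt Ru) := [l0r0, l0r1, l0r2, l0r3, l0r4, l0r5]
noncomputable def l0c (a lo cnt : Nat) : Nat := chk (gT l0T (nat_lit 14)) (rT l0R) (nat_lit 14) (nat_lit 0x7fc0) (nat_lit 0x4000) (nat_lit 0x3fc0) (nat_lit 5) (nat_lit 15) (nat_lit 511) (nat_lit 0x8000000000ffffff) (nat_lit 4) (nat_lit 6) (nat_lit 15) (nat_lit 0x4000) a (nfOf [] 0 a) lo cnt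
noncomputable def l0f (a : Nat) : Nat := l0c a 0 1
noncomputable def l0m (lo cnt : Nat) : Nat := chkM (gT l0T (nat_lit 14)) (nat_lit 14) (nat_lit 0x7fc0) (nat_lit 0x4000) (nat_lit 0x3fc0) (nat_lit 5) lo cnt


theorem c0 : orR l0f 0 6 = 0 := by decide +kernel


open Cfsg.Agent.CG

/-- The relators used. -/
noncomputable def R : List (List ℕ) := [[1,0],
  [4,2,4,2],
  [3,2],
  [4,4],
  [0,0,0,0],
  [2,0,3,0,0,2,1,3,1,1],
  [4,0,0,4,0,4,1],
  [0,2,0,3,0,0,2,1,3],
  [0,1],
  [2,3]]

noncomputable def invL : List ℕ := [1,0,3,2,4]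

/-- How the relators used follow from the given ones. -/
noncomputable def hints : List (ℕ × Bool × List ℕ) := [(14,false,[]),
  (4,false,[]),
  (14,false,[]),
  (14,false,[]),
  (5,false,[]),
  (7,true,[]),
  (6,false,[]),
  (13,false,[]),
  (14,false,[]),
  (14,false,[])]

theorem l0all : ∀ a, a < 6 → l0f a = 0 :=
  allz_of_orR c0
theorem l0ru : allLt (rusChk R (nat_lit 5) l0R) 6 = true := by decide +kernel
noncomputable def l0W : List (List ℕ) := [[4]]
theorem l0_ok : Mem R [0,1,2,3] l0W :=
  mem_of_chk (q := 8) (d := 1) (s2 := 24) (full := 1) (f := l0f) (by decide +kernel) (by decide +kernel) (fun _ => rfl) l0all l0ru (by decide +kernel) (by decide +kernel)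


theorem imp : Imp (Rec.szRel 1 0) R :=
  imp_of_ders (n := 5) (inv := invOf invL) (hs := hints) (by decide +kernel) (invOf_ge' rfl)
    (by decide +kernel) (by decide +kernel) (by decide +kernel)
theorem bad : Mem (Rec.szRel 1 0) [0,1,2,3] [[4]] := Rec.mem_of_imp imp l0_ok

end Cfsg.Agent.TCX.Sz10

namespace Cfsg.Agent.TCX.Sz11

noncomputable def l0t0 : Bt Nat := (.node (.leaf (nat_lit 0x7034040000000000900c100000000000602c0c0000000000900c0808000000009014000)) (.leaf (nat_lit 0)))
noncomputable def l0t1 : Bt Nat := (.node (.leaf (nat_lit 0x802c0c00000000000000000000000000802c040000000000602c100800000000801c000)) (.leaf (nat_lit 0)))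
noncomputable def l0t2 : Bt Nat := (.node (.leaf (nat_lit 0x50341000000000000000000000000000702c0408000000009014000)) (.leaf (nat_lit 0)))
noncomputable def l0t3 : Bt Nat := (.node (.leaf (nat_lit 0x602c0400000000000000000)) (.leaf (nat_lit 0)))
noncomputable def l0t4 : Bt Nat := (.node (.leaf (nat_lit 0x802c080000000000900c0c0800000000802c000000000000900c040)) (.leaf (nat_lit 0)))
noncomputable def l0t5 : Bt Nat := (.node (.leaf (nat_lit 0x402c080000000000385c040000000000285404280000000018540040000000000000000)) (.leaf (nat_lit 0)))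
noncomputable def l0t6 : Bt Nat := (.node (.leaf (nat_lit 0x240c0000000000001c0840000000000014040000000000000c0040000000000000000)) (.leaf (nat_lit 0)))


noncomputable def l0r0 : Bt Ru := (.node (.leaf ⟨[0,0,0],4,0⟩) (.leaf ⟨[0,4,0,4,1,4],6,1⟩))
noncomputable def l0r1 : Bt Ru := (.leaf ⟨[0],0,0⟩)
noncomputable def l0r2 : Bt Ru := (.node (.leaf ⟨[4,2,4],1,3⟩) (.leaf ⟨[0,0,3,0],5,1⟩))
noncomputable def l0r3 : Bt Ru := (.leaf ⟨[2],2,0⟩)
noncomputable def l0r4 : Bt Ru := (.leaf ⟨[4],3,0⟩)
noncomputable def l0r5 : Bt Ru := (.leaf ⟨[2,1,1,3,1],7,0⟩)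
noncomputable def l0T : List (Bt Nat) := [l0t0, l0t1, l0t2, l0t3, l0t4, l0t5, l0t6]
noncomputable def l0R : List (Bt Ru) := [l0r0, l0r1, l0r2, l0r3, l0r4, l0r5]
noncomputable def l0c (a lo cnt : Nat) : Nat := chk (gT l0T (nat_lit 14)) (rT l0R) (nat_lit 14) (nat_lit 0x7fc0) (nat_lit 0x4000) (nat_lit 0x3fc0) (nat_lit 5) (nat_lit 15) (nat_lit 511) (nat_lit 0x8000000000ffffff) (nat_lit 4) (nat_lit 6) (nat_lit 15) (nat_lit 0x4000) a (nfOf [] 0 a) lo cnt
noncomputable def l0f (a : Nat) : Nat := l0c a 0 1
noncomputable def l0m (lo cnt : Nat) : Nat := chkM (gT l0T (nat_lit 14)) (nat_lit 14) (nat_lit 0x7fc0) (nat_lit 0x4000) (nat_lit 0x3fc0) (nat_lit 5) lo cnt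


theorem c0 : orR l0f 0 6 = 0 := by decide +kernel


open Cfsg.Agent.CG

/-- The relators used. -/
noncomputable def R : List (List ℕ) := [[1,0],
  [4,2,4,2],
  [3,2],
  [4,4],
  [0,0,0,0],
  [0,2,0,0,3],
  [4,0,0,4,0,4,1],
  [2,1,1,3,1],
  [0,1],
  [2,3]]

noncomputable def invL : List ℕ := [1,0,3,2,4]

/-- How the relators used follow from the given ones. -/
noncomputable def hints : List (ℕ × Bool × List ℕ) := [(14,false,[]),
  (4,false,[]),
  (14,false,[]),
  (14,false,[]),
  (5,false,[]),
  (13,false,[]),
  (6,false,[]),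
  (13,true,[]),
  (14,false,[]),
  (14,false,[])]

theorem l0all : ∀ a, a < 6 → l0f a = 0 :=
  allz_of_orR c0
theorem l0ru : allLt (rusChk R (nat_lit 5) l0R) 6 = true := by decide +kernel
noncomputable def l0W : List (List ℕ) := [[4]]
theorem l0_ok : Mem R [0,1,2,3] l0W :=
  mem_of_chk (q := 8) (d := 1) (s2 := 24) (full := 1) (f := l0f) (by decide +kernel) (by decide +kernel) (fun _ => rfl) l0all l0ru (by decide +kernel) (by decide +kernel)


theorem imp : Imp (Rec.szRel 1 1) R :=
  imp_of_ders (n := 5) (inv := invOf invL) (hs := hints) (by decide +kernel) (invOf_ge' rfl)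
    (by decide +kernel) (by decide +kernel) (by decide +kernel)
theorem bad : Mem (Rec.szRel 1 1) [0,1,2,3] [[4]] := Rec.mem_of_imp imp l0_ok

end Cfsg.Agent.TCX.Sz11

namespace Cfsg.Agent.TCX.Sz12

noncomputable def l0t0 : Bt Nat := (.node (.leaf (nat_lit 0x8000000007044140800000000601c200800000000b00c1c0800000000b00c180000000000903c040000000000b00c10000000000080340c0000000000b00c080800000000b014000)) (.leaf (nat_lit 0)))
noncomputable def l0t1 : Bt Nat := (.node (.leaf (nat_lit 0x800000000501c1c000000000000000000000000000000000800000000601c20000000000000000000000000007034080000000000a0340400000000008034100800000000a01c000)) (.leaf (nat_lit 0)))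
noncomputable def l0t2 : Bt Nat := (.node (.leaf (nat_lit 0x800000000b00c2000000000000000000000000000a0241000000000000000000000000000000000000000000000000000000000009034040800000000b014000)) (.leaf (nat_lit 0)))
noncomputable def l0t3 : Bt Nat := (.node (.leaf (nat_lit 0x800000000b00c1400000000000000000000000000000000000000000080340400000000000000000)) (.leaf (nat_lit 0)))
noncomputable def l0t4 : Bt Nat := (.node (.leaf (nat_lit 0x603c100000000000a034080000000000b00c0c0800000000a034000000000000b00c040)) (.leaf (nat_lit 0)))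
noncomputable def l0t5 : Bt Nat := (.node (.leaf (nat_lit 0x4034080000000000386c040000000000286c04480000000018640040000000000000000)) (.leaf (nat_lit 0)))
noncomputable def l0t6 : Bt Nat := (.node (.leaf (nat_lit 0x441c2000000000003c1800000000000034140000000000002c10300000000000240c0000000000001c0840000000000014040000000000000c0040000000000000000)) (.leaf (nat_lit 0)))


noncomputable def l0r0 : Bt Ru := (.node (.node (.leaf ⟨[0,0,0],4,0⟩) (.leaf ⟨[2,0,0,3,1,3,0,2],8,2⟩)) (.node (.leaf ⟨[0,4,0,4,1,4],5,1⟩) (.leaf ⟨[1],9,0⟩)))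
noncomputable def l0r1 : Bt Ru := (.leaf ⟨[0],0,0⟩)
noncomputable def l0r2 : Bt Ru := (.node (.leaf ⟨[4,2,4],1,3⟩) (.leaf ⟨[3],7,0⟩))
noncomputable def l0r3 : Bt Ru := (.leaf ⟨[2],2,0⟩)
noncomputable def l0r4 : Bt Ru := (.node (.leaf ⟨[4],3,0⟩) (.leaf ⟨[0,4,1,4,0,0],5,3⟩))
noncomputable def l0r5 : Bt Ru := (.leaf ⟨[2,0,2,1,1,3,1,3,1],6,0⟩)
noncomputable def l0T : List (Bt Nat) := [l0t0, l0t1, l0t2, l0t3, l0t4, l0t5, l0t6]
noncomputable def l0R : List (Bt Ru) := [l0r0, l0r1, l0r2, l0r3, l0r4, l0r5]
noncomputable def l0c (a lo cnt : Nat) : Nat := chk (gT l0T (nat_lit 14)) (rT l0R) (nat_lit 14) (nat_lit 0x7fc0) (nat_lit 0x4000) (nat_lit 0x3fc0) (nat_lit 5) (nat_lit 15) (nat_lit 511) (nat_lit 0x8000000000ffffff) (nat_lit 5) (nat_lit 8) (nat_lit 15) (nat_lit 0x4000) a (nfOf [] 0 a) lo cnt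
noncomputable def l0f (a : Nat) : Nat := l0c a 0 1
noncomputable def l0m (lo cnt : Nat) : Nat := chkM (gT l0T (nat_lit 14)) (nat_lit 14) (nat_lit 0x7fc0) (nat_lit 0x4000) (nat_lit 0x3fc0) (nat_lit 5) lo cnt


theorem c0 : orR l0f 0 6 = 0 := by decide +kernel


open Cfsg.Agent.CG

/-- The relators used. -/
noncomputable def R : List (List ℕ) := [[1,0],
  [4,2,4,2],
  [3,2],
  [4,4],
  [0,0,0,0],
  [4,0,0,4,0,4,1],
  [2,0,2,1,1,3,1,3,1],
  [2,3],
  [0,2,0,2,0,0,3,1,3],
  [0,1]]

noncomputable def invL : List ℕ := [1,0,3,2,4]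

/-- How the relators used follow from the given ones. -/
noncomputable def hints : List (ℕ × Bool × List ℕ) := [(14,false,[]),
  (4,false,[]),
  (14,false,[]),
  (14,false,[]),
  (5,false,[]),
  (6,false,[]),
  (13,true,[]),
  (14,false,[]),
  (13,false,[]),
  (14,false,[])]

theorem l0all : ∀ a, a < 6 → l0f a = 0 :=
  allz_of_orR c0
theorem l0ru : allLt (rusChk R (nat_lit 5) l0R) 6 = true := by decide +kernel
noncomputable def l0W : List (List ℕ) := [[4]]
theorem l0_ok : Mem R [0,1,2,3] l0W :=
  mem_of_chk (q := 8) (d := 1) (s2 := 24) (full := 1) (f := l0f) (by decide +kernel) (by decide +kernel) (fun _ => rfl) l0all l0ru (by decide +kernel) (by decide +kernel)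


theorem imp : Imp (Rec.szRel 1 2) R :=
  imp_of_ders (n := 5) (inv := invOf invL) (hs := hints) (by decide +kernel) (invOf_ge' rfl)
    (by decide +kernel) (by decide +kernel) (by decide +kernel)
theorem bad : Mem (Rec.szRel 1 2) [0,1,2,3] [[4]] := Rec.mem_of_imp imp l0_ok

end Cfsg.Agent.TCX.Sz12

namespace Cfsg.Agent.TCX.Sz13

noncomputable def l0t0 : Bt Nat := (.node (.leaf (nat_lit 0x800000000c04414080000000078941400000000000000000000000000d00c280800000000d00c200000000000b03c040000000000d00c100000000000a0340c0000000000d00c080800000000d014000)) (.leaf (nat_lit 0)))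
noncomputable def l0t1 : Bt Nat := (.node (.leaf (nat_lit 0x800000000a03c2c00000000000000000000000000c0341800000000000000000000000000000000000000000000000000000000000000000000000000d00c240000000000c0340c00000000009034080000000000c034040000000000a034100800000000c01c000)) (.leaf (nat_lit 0)))
noncomputable def l0t2 : Bt Nat := (.node (.leaf (nat_lit 0x800000000d00c2c0000000000c03c0c000000000000000000000000000000000800000000d00c1c0800000000d00c140000000000b034040800000000d014000)) (.leaf (nat_lit 0)))
noncomputable def l0t3 : Bt Nat := (.node (.leaf (nat_lit 0x800000000c01c1c000000000000000000000000000000000800000000d00c300000000000c01c0c00000000000000000000000000c01c0800000000000000000000000000d00c180000000000000000000000000000000000000000000000000)) (.leaf (nat_lit 0)))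
noncomputable def l0t4 : Bt Nat := (.node (.leaf (nat_lit 0xc034080000000000d00c0c0800000000c034000000000000d00c040)) (.leaf (nat_lit 0)))
noncomputable def l0t5 : Bt Nat := (.node (.leaf (nat_lit 0x603c080800000000803420000000000000000000000000000000000000000000589c04100000000000000000000000003864080000000000487c0428000000002864004800000000186c0000000000000000000)) (.leaf (nat_lit 0)))
noncomputable def l0t6 : Bt Nat := (.node (.leaf (nat_lit 0x2c203000000000002c1c2000000000002c1800000000000024141000000000002414000000000000240c200000000000240c3000000000001c08200000000000240c0000000000001c0840000000000014040000000000000c0040000000000000000)) (.leaf (nat_lit 0)))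


noncomputable def l0r0 : Bt Ru := (.node (.node (.leaf ⟨[0,0,0],3,0⟩) (.leaf ⟨[1],7,0⟩)) (.node (.leaf ⟨[0,4,0,4,1,4],4,1⟩) (.leaf ⟨[1],7,0⟩)))
noncomputable def l0r1 : Bt Ru := (.node (.leaf ⟨[0],0,0⟩) (.leaf ⟨[3,0,2,0,2,2,0,0,3,3],10,9⟩))
noncomputable def l0r2 : Bt Ru := (.node (.leaf ⟨[4,2,4],1,3⟩) (.leaf ⟨[3],6,0⟩))
noncomputable def l0r3 : Bt Ru := (.leaf ⟨[2],5,0⟩)
noncomputable def l0r4 : Bt Ru := (.leaf ⟨[4],2,0⟩)
noncomputable def l0r5 : Bt Ru := (.node (.leaf ⟨[1,2,0,2,2,1,1,3,3,1,3],8,10⟩) (.leaf ⟨[0,3,1,1,2,1,3,0,0,2],9,3⟩))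
noncomputable def l0T : List (Bt Nat) := [l0t0, l0t1, l0t2, l0t3, l0t4, l0t5, l0t6]
noncomputable def l0R : List (Bt Ru) := [l0r0, l0r1, l0r2, l0r3, l0r4, l0r5]
noncomputable def l0c (a lo cnt : Nat) : Nat := chk (gT l0T (nat_lit 14)) (rT l0R) (nat_lit 14) (nat_lit 0x7fc0) (nat_lit 0x4000) (nat_lit 0x3fc0) (nat_lit 5) (nat_lit 15) (nat_lit 511) (nat_lit 0x8000000000ffffff) (nat_lit 5) (nat_lit 8) (nat_lit 15) (nat_lit 0x4000) a (nfOf [] 0 a) lo cnt
noncomputable def l0f (a : Nat) : Nat := l0c a 0 1
noncomputable def l0m (lo cnt : Nat) : Nat := chkM (gT l0T (nat_lit 14)) (nat_lit 14) (nat_lit 0x7fc0) (nat_lit 0x4000) (nat_lit 0x3fc0) (nat_lit 5) lo cnt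


theorem c0 : orR l0f 0 6 = 0 := by decide +kernel


open Cfsg.Agent.CG

/-- The relators used. -/
noncomputable def R : List (List ℕ) := [[1,0],
  [4,2,4,2],
  [4,4],
  [0,0,0,0],
  [4,0,0,4,0,4,1],
  [3,2],
  [2,3],
  [0,1],
  [2,0,2,2,1,1,3,3,1,3,1],
  [0,0,2,0,3,1,1,2,1,3],
  [0,2,0,2,2,0,0,3,3,1,3]]

noncomputable def invL : List ℕ := [1,0,3,2,4]

/-- How the relators used follow from the given ones. -/
noncomputable def hints : List (ℕ × Bool × List ℕ) := [(14,false,[]),
  (4,false,[]),
  (14,false,[]),
  (5,false,[]),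
  (6,false,[]),
  (14,false,[]),
  (14,false,[]),
  (14,false,[]),
  (13,true,[]),
  (7,false,[]),
  (13,false,[])]

theorem l0all : ∀ a, a < 6 → l0f a = 0 :=
  allz_of_orR c0
theorem l0ru : allLt (rusChk R (nat_lit 5) l0R) 6 = true := by decide +kernel
noncomputable def l0W : List (List ℕ) := [[4]]
theorem l0_ok : Mem R [0,1,2,3] l0W :=
  mem_of_chk (q := 8) (d := 1) (s2 := 24) (full := 1) (f := l0f) (by decide +kernel) (by decide +kernel) (fun _ => rfl) l0all l0ru (by decide +kernel) (by decide +kernel)


theorem imp : Imp (Rec.szRel 1 3) R :=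
  imp_of_ders (n := 5) (inv := invOf invL) (hs := hints) (by decide +kernel) (invOf_ge' rfl)
    (by decide +kernel) (by decide +kernel) (by decide +kernel)
theorem bad : Mem (Rec.szRel 1 3) [0,1,2,3] [[4]] := Rec.mem_of_imp imp l0_ok

end Cfsg.Agent.TCX.Sz13

namespace Cfsg.Agent.TCX.Sz14

noncomputable def l0t0 : Bt Nat := (.node (.leaf (nat_lit 0x800000000705434000000000000000000000000000000000000000000000000000000000000000000000000000000000800000000a02c140800000000b00c280000000000000000000000000000000000000000009044040000000000b00c100000000000803c0c0000000000b00c080800000000b014000)) (.leaf (nat_lit 0)))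
noncomputable def l0t1 : Bt Nat := (.node (.leaf (nat_lit 0xa01c1c00000000000000000800000000b00c30000000000000000000000000000000000800000000b00c200000000000a03c0c00000000000000000000000000a03c040000000000803c100800000000a01c000)) (.leaf (nat_lit 0)))
noncomputable def l0t2 : Bt Nat := (.node (.leaf (nat_lit 0x800000000a0242000000000000000000000000000a0441c00000000000000000800000000b00c3800000000000000000000000000a0440c0800000000b00c24000000000000000000000000000000000800000000b00c180800000000b00c140000000000903c040800000000b014000)) (.leaf (nat_lit 0)))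
noncomputable def l0t3 : Bt Nat := (.node (.leaf (nat_lit 0x8000000007044280000000000000000000000000000000000000000000000000800000000b00c340000000000b00c2c00000000000000000000000000a01c0800000000000000000000000000b00c1c00000000000000000000000000803c0400000000000000000)) (.leaf (nat_lit 0)))
noncomputable def l0t4 : Bt Nat := (.node (.leaf (nat_lit 0xa03c080000000000b00c0c0800000000a03c000000000000b00c040)) (.leaf (nat_lit 0)))
noncomputable def l0t5 : Bt Nat := (.node (.leaf (nat_lit 0x603c04000000000000000000000000000000000000000000000000000000000058b404200000000000000000000000000000000000000000387408000000000048940428000000002874004800000000187c0000000000000000000)) (.leaf (nat_lit 0)))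
noncomputable def l0t6 : Bt Nat := (.node (.leaf (nat_lit 0x34242000000000002c203000000000002c201000000000002c1c3000000000002c1c0000000000002c182000000000002414100000000000240c300000000000240c2000000000001c08200000000000240c0000000000001c0840000000000014040000000000000c0040000000000000000)) (.leaf (nat_lit 0)))


noncomputable def l0r0 : Bt Ru := (.node (.node (.leaf ⟨[0,0,0],4,0⟩) (.leaf ⟨[1],7,0⟩)) (.node (.leaf ⟨[0,4,0,4,1,4],5,1⟩) (.leaf ⟨[2,2,2,0,0,3,3,3,1,3,0,2],10,2⟩)))
noncomputable def l0r1 : Bt Ru := (.leaf ⟨[0],0,0⟩)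
noncomputable def l0r2 : Bt Ru := (.node (.leaf ⟨[4,2,4],1,3⟩) (.leaf ⟨[3],6,0⟩))
noncomputable def l0r3 : Bt Ru := (.node (.leaf ⟨[2],2,0⟩) (.leaf ⟨[1,1,2,0,3,0,0,2,1],9,7⟩))
noncomputable def l0r4 : Bt Ru := (.leaf ⟨[4],3,0⟩)
noncomputable def l0r5 : Bt Ru := (.leaf ⟨[3,1,3,1,2,0,2,2,2,1,1,3,3],8,9⟩)
noncomputable def l0T : List (Bt Nat) := [l0t0, l0t1, l0t2, l0t3, l0t4, l0t5, l0t6]
noncomputable def l0R : List (Bt Ru) := [l0r0, l0r1, l0r2, l0r3, l0r4, l0r5]
noncomputable def l0c (a lo cnt : Nat) : Nat := chk (gT l0T (nat_lit 14)) (rT l0R) (nat_lit 14) (nat_lit 0x7fc0) (nat_lit 0x4000) (nat_lit 0x3fc0) (nat_lit 5) (nat_lit 15) (nat_lit 511) (nat_lit 0x8000000000ffffff) (nat_lit 6) (nat_lit 10) (nat_lit 15) (nat_lit 0x4000) a (nfOf [] 0 a) lo cnt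
noncomputable def l0f (a : Nat) : Nat := l0c a 0 1
noncomputable def l0m (lo cnt : Nat) : Nat := chkM (gT l0T (nat_lit 14)) (nat_lit 14) (nat_lit 0x7fc0) (nat_lit 0x4000) (nat_lit 0x3fc0) (nat_lit 5) lo cnt


theorem c0 : orR l0f 0 6 = 0 := by decide +kernel


open Cfsg.Agent.CG

/-- The relators used. -/
noncomputable def R : List (List ℕ) := [[1,0],
  [4,2,4,2],
  [3,2],
  [4,4],
  [0,0,0,0],
  [4,0,0,4,0,4,1],
  [2,3],
  [0,1],
  [2,0,2,2,2,1,1,3,3,3,1,3,1],
  [2,0,3,0,0,2,1,3,1,1],
  [0,2,0,2,2,2,0,0,3,3,3,1,3]]

noncomputable def invL : List ℕ := [1,0,3,2,4]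

/-- How the relators used follow from the given ones. -/
noncomputable def hints : List (ℕ × Bool × List ℕ) := [(14,false,[]),
  (4,false,[]),
  (14,false,[]),
  (14,false,[]),
  (5,false,[]),
  (6,false,[]),
  (14,false,[]),
  (14,false,[]),
  (13,true,[]),
  (7,true,[]),
  (13,false,[])]

theorem l0all : ∀ a, a < 6 → l0f a = 0 :=
  allz_of_orR c0
theorem l0ru : allLt (rusChk R (nat_lit 5) l0R) 6 = true := by decide +kernel
noncomputable def l0W : List (List ℕ) := [[4]]
theorem l0_ok : Mem R [0,1,2,3] l0W :=
  mem_of_chk (q := 8) (d := 1) (s2 := 24) (full := 1) (f := l0f) (by decide +kernel) (by decide +kernel) (fun _ => rfl) l0all l0ru (by decide +kernel) (by decide +kernel)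


theorem imp : Imp (Rec.szRel 1 4) R :=
  imp_of_ders (n := 5) (inv := invOf invL) (hs := hints) (by decide +kernel) (invOf_ge' rfl)
    (by decide +kernel) (by decide +kernel) (by decide +kernel)
theorem bad : Mem (Rec.szRel 1 4) [0,1,2,3] [[4]] := Rec.mem_of_imp imp l0_ok

end Cfsg.Agent.TCX.Sz14

namespace Cfsg.Agent.TCX.Sz15

noncomputable def l0t0 : Bt Nat := (.node (.leaf (nat_lit 0xd00c500000000000000000000000000000000000000000000000000000000000000000000000000000000000000000000000000800000000c02c2c0800000000c02c1400000000000000000000000000000000000000000000000000000000000000000800000000d00c3400000000000000000000000000b04c040800000000d00c100000000000a0440c0000000000d00c080800000000d014000)) (.leaf (nat_lit 0)))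
noncomputable def l0t1 : Bt Nat := (.node (.leaf (nat_lit 0xc0444c0000000000000000000000000000000000000000000000000000000000000000000000000000000000000000000000000800000000c01c1800000000000000000800000000d00c30000000000000000000000000000000000000000000000000000000000000000000000000000000000800000000d00c2c0000000000c01c0c00000000000000000000000000c044040800000000a044100800000000c01c000)) (.leaf (nat_lit 0)))
noncomputable def l0t2 : Bt Nat := (.node (.leaf (nat_lit 0x80000000090642c00000000000000000000000000d00c4c0800000000b05c380800000000d00c440000000000d00c480800000000c0241c0800000000905430000000000000000000000000000000000800000000b01c180800000000d00c400000000000a04c3c0000000000c024080000000000b0440c0800000000d00c2400000000000000000000000000a04c200800000000d00c140000000000b044040800000000d014000)) (.leaf (nat_lit 0)))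
noncomputable def l0t3 : Bt Nat := (.node (.leaf (nat_lit 0xc044480000000000c0443c00000000000000000800000000c01c240000000000b04c20000000000000000000000000000000000800000000801c340000000000000000000000000070244c00000000000000000000000000b04c0c0800000000d00c380800000000a01c280000000000c01c0800000000000000000800000000a044180800000000d00c1c0000000000a0440400000000000000000)) (.leaf (nat_lit 0)))
noncomputable def l0t4 : Bt Nat := (.node (.leaf (nat_lit 0x800000000804c400800000000a04c440000000000901c48000000000000000000000000000000000000000000d00c3c00000000000000000000000000000000000000000000000000000000000000000800000000d00c280800000000c0441c0000000000d00c200800000000c01c140800000000d00c1800000000000000000000000000c044080000000000d00c0c0800000000c044000000000000d00c040)) (.leaf (nat_lit 0)))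
noncomputable def l0t5 : Bt Nat := (.node (.leaf (nat_lit 0x390408000000000048fc04200000000058e404200000000000000000000000000000000000000000604404000000000000000000000000000000000000000000000000000000000000000000000000000000000000000000000000000000000058e4043000000000000000000000000000000000000000000000000000000000000000000000000048ac0438000000002884004800000000190c0010000000000000000)) (.leaf (nat_lit 0)))
noncomputable def l0t6 : Bt Nat := (.node (.leaf (nat_lit 0x444c0000000000003c48200000000000343c20000000000034402000000000002c242000000000002c38400000000000241c3000000000002c180000000000002c2c10000000000024141000000000002c244000000000002414200000000000241c4000000000001c0830000000000024144000000000001c08200000000000240c0000000000001c0840000000000014040000000000000c0040000000000000000)) (.leaf (nat_lit 0)))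


noncomputable def l0r0 : Bt Ru := (.node (.node (.leaf ⟨[0,0,0],4,0⟩) (.leaf ⟨[1],8,0⟩)) (.node (.leaf ⟨[0,4,0,4,1,4],6,1⟩) (.leaf ⟨[1],8,0⟩)))
noncomputable def l0r1 : Bt Ru := (.leaf ⟨[0],0,0⟩)
noncomputable def l0r2 : Bt Ru := (.node (.node (.node (.leaf ⟨[4,2,4],1,3⟩) (.leaf ⟨[0,2,2,2,2,0,0,3,3,3,3,1,3,0],12,1⟩)) (.node (.leaf ⟨[0,3,1,1,2,1,3,0,0],9,2⟩) (.leaf ⟨[3],5,0⟩))) (.node (.node (.leaf ⟨[3],5,0⟩) (.leaf ⟨[3],5,0⟩)) (.node (.leaf ⟨[2,2,2,2,2,2],11,0⟩) (.leaf ⟨[3],5,0⟩))))
noncomputable def l0r3 : Bt Ru := (.node (.leaf ⟨[2],2,0⟩) (.leaf ⟨[4,3,4],7,0⟩))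
noncomputable def l0r4 : Bt Ru := (.node (.leaf ⟨[4],3,0⟩) (.leaf ⟨[2,4,2],1,0⟩))
noncomputable def l0r5 : Bt Ru := (.leaf ⟨[3,3,3,3,1,3,1,2,0,2,2,2,2,1,1],10,8⟩)
noncomputable def l0T : List (Bt Nat) := [l0t0, l0t1, l0t2, l0t3, l0t4, l0t5, l0t6]
noncomputable def l0R : List (Bt Ru) := [l0r0, l0r1, l0r2, l0r3, l0r4, l0r5]
noncomputable def l0c (a lo cnt : Nat) : Nat := chk (gT l0T (nat_lit 14)) (rT l0R) (nat_lit 14) (nat_lit 0x7fc0) (nat_lit 0x4000) (nat_lit 0x3fc0) (nat_lit 5) (nat_lit 15) (nat_lit 511) (nat_lit 0x8000000000ffffff) (nat_lit 7) (nat_lit 12) (nat_lit 15) (nat_lit 0x4000) a (nfOf [] 0 a) lo cnt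
noncomputable def l0f (a : Nat) : Nat := l0c a 0 1
noncomputable def l0m (lo cnt : Nat) : Nat := chkM (gT l0T (nat_lit 14)) (nat_lit 14) (nat_lit 0x7fc0) (nat_lit 0x4000) (nat_lit 0x3fc0) (nat_lit 5) lo cnt


theorem c0 : orR l0f 0 6 = 0 := by decide +kernel


open Cfsg.Agent.CG

/-- The relators used. -/
noncomputable def R : List (List ℕ) := [[1,0],
  [4,2,4,2],
  [3,2],
  [4,4],
  [0,0,0,0],
  [2,3],
  [4,0,0,4,0,4,1],
  [3,4,3,4],
  [0,1],
  [0,0,2,0,3,1,1,2,1,3],
  [2,0,2,2,2,2,1,1,3,3,3,3,1,3,1],
  [2,2,2,2,2,2,2],
  [0,2,0,2,2,2,2,0,0,3,3,3,3,1,3]]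

noncomputable def invL : List ℕ := [1,0,3,2,4]

/-- How the relators used follow from the given ones. -/
noncomputable def hints : List (ℕ × Bool × List ℕ) := [(14,false,[]),
  (4,false,[]),
  (14,false,[]),
  (14,false,[]),
  (5,false,[]),
  (14,false,[]),
  (6,false,[]),
  (4,true,[]),
  (14,false,[]),
  (7,false,[]),
  (13,true,[]),
  (3,false,[]),
  (13,false,[])]

theorem l0all : ∀ a, a < 6 → l0f a = 0 :=
  allz_of_orR c0
theorem l0ru : allLt (rusChk R (nat_lit 5) l0R) 6 = true := by decide +kernel
noncomputable def l0W : List (List ℕ) := [[4]]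
theorem l0_ok : Mem R [0,1,2,3] l0W :=
  mem_of_chk (q := 8) (d := 1) (s2 := 24) (full := 1) (f := l0f) (by decide +kernel) (by decide +kernel) (fun _ => rfl) l0all l0ru (by decide +kernel) (by decide +kernel)


theorem imp : Imp (Rec.szRel 1 5) R :=
  imp_of_ders (n := 5) (inv := invOf invL) (hs := hints) (by decide +kernel) (invOf_ge' rfl)
    (by decide +kernel) (by decide +kernel) (by decide +kernel)
theorem bad : Mem (Rec.szRel 1 5) [0,1,2,3] [[4]] := Rec.mem_of_imp imp l0_ok

end Cfsg.Agent.TCX.Sz15

namespace Cfsg.Agent.TCX.Sz16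

noncomputable def l0t0 : Bt Nat := (.node (.leaf (nat_lit 0x1004c300800000001004c140000000000e02c340800000000902c540000000000000000000000000000000000000000000000000000000001100c380800000001100c2c0000000000f044040000000001100c100000000000e03c0c0000000001100c0808000000011014000)) (.leaf (nat_lit 0)))
noncomputable def l0t1 : Bt Nat := (.node (.leaf (nat_lit 0x800000000a04c280000000000000000000000000000000000000000000000000000000000000000000000000000000000000000000000000000000001003c180800000000f0442c0000000001100c340800000001001c14000000000000000000000000000000000000000000000000000000000000000000000000000000000000000001100c300000000001003c0c0000000000d03c080000000001003c040000000000e03c100800000001001c000)) (.leaf (nat_lit 0)))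
noncomputable def l0t2 : Bt Nat := (.node (.leaf (nat_lit 0x10024300800000000a024280800000001100c500800000000f0543c0800000001100c480800000001100c4c080000000100241c0000000000d04c3400000000000000000000000000000000000000000000000000000000000000000800000001100c440800000000e0244000000000010024080000000000f03c0c0800000001100c2400000000000000000800000000e044200800000001100c140000000000f03c0408000000011014000)) (.leaf (nat_lit 0)))
noncomputable def l0t3 : Bt Nat := (.node (.leaf (nat_lit 0x800000001001c4c0800000001001c4000000000000000000800000001001c240800000000f02420000000000000000000000000000000000000000000c03c380800000001100c5400000000000000000800000000b0245000000000000000000000000000f0440c0800000001100c3c00000000000000000000000001001c0800000000000000000000000000e03c180800000001100c1c0000000000e03c0400000000000000000)) (.leaf (nat_lit 0)))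
noncomputable def l0t4 : Bt Nat := (.node (.leaf (nat_lit 0x800000000c024440800000000e024480800000000d01c4c000000000000000000000000000000000800000001100c40000000000000000000000000000000000000000000000000000000000000000000000000000000000800000001100c280800000001001c1c0800000001100c2000000000000000000000000001100c1800000000000000000000000001003c080000000001100c0c0800000001003c000000000001100c040)) (.leaf (nat_lit 0)))
noncomputable def l0t5 : Bt Nat := (.node (.leaf (nat_lit 0x68c408380000000078bc140800000000803c2c00000000000000000000000000000000000000000000000000000000000000000000000000000000000000000058cc04100000000000000000000000003874080000000000488c0428000000002874004800000000187c0000000000000000000)) (.leaf (nat_lit 0)))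
noncomputable def l0t6 : Bt Nat := (.node (.leaf (nat_lit 0x2c303000000000003c4c200000000000344020000000000034442000000000002c242000000000002c3c400000000000241c3000000000002c180000000000002c30100000000000241410000000000024140000000000002c244000000000002414200000000000241c4000000000001c0830000000000024144000000000001c08200000000000240c0000000000001c0840000000000014040000000000000c0040000000000000000)) (.leaf (nat_lit 0)))


noncomputable def l0r0 : Bt Ru := (.node (.node (.leaf ⟨[0,0,0],4,0⟩) (.leaf ⟨[1],8,0⟩)) (.node (.leaf ⟨[0,4,0,4,1,4],6,1⟩) (.leaf ⟨[1],8,0⟩)))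
noncomputable def l0r1 : Bt Ru := (.node (.node (.leaf ⟨[0],0,0⟩) (.leaf ⟨[3,1,2,0,2,2,2,2,2,1,1,3,3,3,3,3],9,14⟩)) (.node (.leaf ⟨[1,1,1],10,0⟩) (.leaf ⟨[0],0,0⟩)))
noncomputable def l0r2 : Bt Ru := (.node (.node (.leaf ⟨[4,2,4],1,3⟩) (.leaf ⟨[0,3,1,1,2,1,3,0,0],11,2⟩)) (.node (.leaf ⟨[3],5,0⟩) (.leaf ⟨[2,2,2,2,2,2],12,0⟩)))
noncomputable def l0r3 : Bt Ru := (.node (.leaf ⟨[2],2,0⟩) (.leaf ⟨[4,3,4],7,0⟩))
noncomputable def l0r4 : Bt Ru := (.node (.leaf ⟨[4],3,0⟩) (.leaf ⟨[2,4,2],1,0⟩))
noncomputable def l0r5 : Bt Ru := (.leaf ⟨[2,0,2,2,2,2,2,1,1,3,3,3,3,3,1,3,1],9,0⟩)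
noncomputable def l0T : List (Bt Nat) := [l0t0, l0t1, l0t2, l0t3, l0t4, l0t5, l0t6]
noncomputable def l0R : List (Bt Ru) := [l0r0, l0r1, l0r2, l0r3, l0r4, l0r5]
noncomputable def l0c (a lo cnt : Nat) : Nat := chk (gT l0T (nat_lit 14)) (rT l0R) (nat_lit 14) (nat_lit 0x7fc0) (nat_lit 0x4000) (nat_lit 0x3fc0) (nat_lit 5) (nat_lit 15) (nat_lit 511) (nat_lit 0x8000000000ffffff) (nat_lit 6) (nat_lit 10) (nat_lit 15) (nat_lit 0x4000) a (nfOf [] 0 a) lo cnt
noncomputable def l0f (a : Nat) : Nat := l0c a 0 1
noncomputable def l0m (lo cnt : Nat) : Nat := chkM (gT l0T (nat_lit 14)) (nat_lit 14) (nat_lit 0x7fc0) (nat_lit 0x4000) (nat_lit 0x3fc0) (nat_lit 5) lo cnt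


theorem c0 : orR l0f 0 6 = 0 := by decide +kernel


open Cfsg.Agent.CG

/-- The relators used. -/
noncomputable def R : List (List ℕ) := [[1,0],
  [4,2,4,2],
  [3,2],
  [4,4],
  [0,0,0,0],
  [2,3],
  [4,0,0,4,0,4,1],
  [3,4,3,4],
  [0,1],
  [2,0,2,2,2,2,2,1,1,3,3,3,3,3,1,3,1],
  [1,1,1,1],
  [0,0,2,0,3,1,1,2,1,3],
  [2,2,2,2,2,2,2]]

noncomputable def invL : List ℕ := [1,0,3,2,4]

/-- How the relators used follow from the given ones. -/
noncomputable def hints : List (ℕ × Bool × List ℕ) := [(14,false,[]),
  (4,false,[]),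
  (14,false,[]),
  (14,false,[]),
  (5,false,[]),
  (14,false,[]),
  (6,false,[]),
  (4,true,[]),
  (14,false,[]),
  (13,true,[]),
  (5,true,[]),
  (7,false,[]),
  (3,false,[])]

theorem l0all : ∀ a, a < 6 → l0f a = 0 :=
  allz_of_orR c0
theorem l0ru : allLt (rusChk R (nat_lit 5) l0R) 6 = true := by decide +kernel
noncomputable def l0W : List (List ℕ) := [[4]]
theorem l0_ok : Mem R [0,1,2,3] l0W :=
  mem_of_chk (q := 8) (d := 1) (s2 := 24) (full := 1) (f := l0f) (by decide +kernel) (by decide +kernel) (fun _ => rfl) l0all l0ru (by decide +kernel) (by decide +kernel)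


theorem imp : Imp (Rec.szRel 1 6) R :=
  imp_of_ders (n := 5) (inv := invOf invL) (hs := hints) (by decide +kernel) (invOf_ge' rfl)
    (by decide +kernel) (by decide +kernel) (by decide +kernel)
theorem bad : Mem (Rec.szRel 1 6) [0,1,2,3] [[4]] := Rec.mem_of_imp imp l0_ok

end Cfsg.Agent.TCX.Sz16

namespace Cfsg.Agent.TCX.Sz17

noncomputable def l0t0 : Bt Nat := (.node (.leaf (nat_lit 0x4024040000000000600c1000000000000000000000000000600c0808000000006014000)) (.leaf (nat_lit 0)))
noncomputable def l0t1 : Bt Nat := (.node (.leaf (nat_lit 0x50240c0000000000000000000000000050240400000000003024100800000000501c000)) (.leaf (nat_lit 0)))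
noncomputable def l0t4 : Bt Nat := (.node (.leaf (nat_lit 0x600c0c08000000005024000000000000600c040)) (.leaf (nat_lit 0)))
noncomputable def l0t5 : Bt Nat := (.node (.leaf (nat_lit 0x283c041800000000283c0040000000003024040800000000184c0010000000000000000)) (.leaf (nat_lit 0)))
noncomputable def l0t6 : Bt Nat := (.node (.leaf (nat_lit 0x240c0000000000001c0840000000000014040000000000000c0040000000000000000)) (.leaf (nat_lit 0)))


noncomputable def l0r0 : Bt Ru := (.leaf ⟨[0,4,0,4,1,4],3,1⟩)
noncomputable def l0r1 : Bt Ru := (.leaf ⟨[0],0,0⟩)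
noncomputable def l0r2 : Bt Ru := (.leaf ⟨[3],5,0⟩)
noncomputable def l0r3 : Bt Ru := (.leaf ⟨[2],6,0⟩)
noncomputable def l0r4 : Bt Ru := (.leaf ⟨[4],1,0⟩)
noncomputable def l0r5 : Bt Ru := (.leaf ⟨[0],2,0⟩)
noncomputable def l0T : List (Bt Nat) := [l0t0, l0t1, (.leaf (nat_lit 0)), (.leaf (nat_lit 0)), l0t4, l0t5, l0t6]
noncomputable def l0R : List (Bt Ru) := [l0r0, l0r1, l0r2, l0r3, l0r4, l0r5]
noncomputable def l0c (a lo cnt : Nat) : Nat := chk (gT l0T (nat_lit 14)) (rT l0R) (nat_lit 14) (nat_lit 0x7fc0) (nat_lit 0x4000) (nat_lit 0x3fc0) (nat_lit 5) (nat_lit 15) (nat_lit 511) (nat_lit 0x8000000000ffffff) (nat_lit 3) (nat_lit 4) (nat_lit 15) (nat_lit 0x4000) a (nfOf [] 0 a) lo cnt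
noncomputable def l0f (a : Nat) : Nat := l0c a 0 1
noncomputable def l0m (lo cnt : Nat) : Nat := chkM (gT l0T (nat_lit 14)) (nat_lit 14) (nat_lit 0x7fc0) (nat_lit 0x4000) (nat_lit 0x3fc0) (nat_lit 5) lo cnt


theorem c0 : orR l0f 0 6 = 0 := by decide +kernel


open Cfsg.Agent.CG

/-- The relators used. -/
noncomputable def R : List (List ℕ) := [[1,0],
  [4,4],
  [0],
  [4,0,0,4,0,4,1],
  [0,1],
  [2,3],
  [3,2]]

noncomputable def invL : List ℕ := [1,0,3,2,4]

/-- How the relators used follow from the given ones. -/
noncomputable def hints : List (ℕ × Bool × List ℕ) := [(14,false,[]),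
  (14,false,[]),
  (13,false,[]),
  (6,false,[]),
  (14,false,[]),
  (14,false,[]),
  (14,false,[])]

theorem l0all : ∀ a, a < 6 → l0f a = 0 :=
  allz_of_orR c0
theorem l0ru : allLt (rusChk R (nat_lit 5) l0R) 6 = true := by decide +kernel
noncomputable def l0W : List (List ℕ) := [[4]]
theorem l0_ok : Mem R [0,1,2,3] l0W :=
  mem_of_chk (q := 8) (d := 1) (s2 := 24) (full := 1) (f := l0f) (by decide +kernel) (by decide +kernel) (fun _ => rfl) l0all l0ru (by decide +kernel) (by decide +kernel)


theorem imp : Imp (Rec.szRel 1 7) R :=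
  imp_of_ders (n := 5) (inv := invOf invL) (hs := hints) (by decide +kernel) (invOf_ge' rfl)
    (by decide +kernel) (by decide +kernel) (by decide +kernel)
theorem bad : Mem (Rec.szRel 1 7) [0,1,2,3] [[4]] := Rec.mem_of_imp imp l0_ok

end Cfsg.Agent.TCX.Sz17

namespace Cfsg.Agent.TCX.Sz20

noncomputable def l0t0 : Bt Nat := (.node (.leaf (nat_lit 0x1406c500000000001a04c4800000000000000000000000000000000000000000000000000000000000000000000000001a04c4000000000000000000000000001005c5c0000000001a04c380800000001a01c3000000000000000000000000001b05c28000000000110646c0000000000a02c780000000001b05c240000000001705c8c0000000001b05c200000000001c00c880800000001b05c1c0000000001c00c740800000001b05c180000000001c00c680800000001b02c140800000001c00c640800000001c00c580000000001c00c4c0000000001c00c440800000001c00c3c0000000001c00c340800000001c00c2c0000000001a054040800000001c00c100800000001904c0c0000000001c00c080800000001c014000)) (.leaf (nat_lit 0)))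
noncomputable def l0t1 : Bt Nat := (.node (.leaf (nat_lit 0x180644c0000000001b04c440000000000000000000000000000000000000000000000000800000000b05c54000000000000000000000000000000000800000001004c580000000001b04c3400000000000000000000000000000000000000000110546c0000000001b01c28000000000000000000000000000000000000000001b04c2400000000000000000000000001b04c200000000001904c740800000001b01c1c00000000000000000800000001b04c180800000001901c6400000000000000000000000001c00c5c0000000001c00c500000000001c00c480000000001c00c400000000001c00c380800000001c00c300800000001b01c0c0000000001801c080000000001b04c040800000001904c100800000001b01c000)) (.leaf (nat_lit 0)))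
noncomputable def l0t2 : Bt Nat := (.node (.leaf (nat_lit 0x1605c740000000001b0544000000000000000000800000001b0543c000000000000000000000000000000000000000001b0543400000000014984400800000000e9743c00000000000000000000000001b0542800000000000000000000000001293c2800000000000000000800000000c94c3c00000000000000000000000001c00c8c00000000000000000000000001c00c800000000001c00c7800000000000000000000000001c00c6c000000000000000000000000000000000800000001b054100800000001c00c540800000001b0540c00000000000000000000000001b0240800000000000000000000000001c00c240800000001c00c1c0800000001c00c140000000001a04c040800000001c014000)) (.leaf (nat_lit 0)))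
noncomputable def l0t3 : Bt Nat := (.node (.leaf (nat_lit 0x1b04c48000000000000000000000000000000000000000001b04c4000000000000000000800000001b04c3c0000000001504c8800000000000000000000000001b04c340000000000000000000000000170544400000000000000000000000000f97c4000000000000000000000000001b01c2400000000000000000000000000000000000000000000000000000000000000000000000001c00c840000000001c00c7c00000000000000000000000001c00c70000000000000000000000000000000000000000001c00c600800000001b04c1000000000000000000800000001b01c0c000000000000000000000000000000000000000001c00c280000000001c00c200800000001c00c180000000001904c0400000000000000000)) (.leaf (nat_lit 0)))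
noncomputable def l0t4 : Bt Nat := (.node (.leaf (nat_lit 0x80000000140645400000000000000000800000001293c540000000000000000000000000000000000000000000000000000000000000000000000000000000000000000000000000000000000000000000000000000000000000000000000000000000000000000000000000000000000000000016064240000000001504c2800000000000000000800000001a05c1800000000000000000000000000000000080000000170541000000000000000000800000001c00c0c0800000001b04c000000000001c00c040)) (.leaf (nat_lit 0)))
noncomputable def l0t5 : Bt Nat := (.node (.leaf (nat_lit 0xe95c342000000000796424300000000150746c0000000001006c5c0000000000f064680000000000905c400800000000896c541000000000f054480800000000896c3c3000000000d9945000000000000000000800000001304c5808000000007954540000000000000000000000000000000000000000007954343800000000d994181800000000698c180000000000698c34100000000069342800000000000000000000000000c94c240000000000591c240000000000000000000000000000000000000000005934243000000000490c200000000000390c08200000000000000000000000000000000000000000000000000000000000000000000000000000000000000000290404180000000018cc0040000000000000000))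 (.leaf (nat_lit 0)))
noncomputable def l0t6 : Bt Nat := (.node (.leaf (nat_lit 0x3448200000000000344400000000000034403000000000003440200000000000343c300000000000343c200000000000343c0000000000002c343000000000002c342000000000002c340000000000002c2c0000000000003428300000000000342810000000000034280000000000003424200000000000342410000000000034240000000000002c201000000000002c200000000000002c1c1000000000002c1c00000000000024181000000000002418000000000000241410000000000024140000000000002c103000000000002c10200000000000240c300000000000240c2000000000001c083000000000001c08200000000000240c0000000000001c0840000000000014040000000000000c0040000000000000000)) (.leaf (nat_lit 0)))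


noncomputable def l0r0 : Bt Ru := (.node (.node (.node (.leaf ⟨[0,0,0],4,0⟩) (.leaf ⟨[2,0,3,1,1,2,1,3,0],9,1⟩)) (.node (.leaf ⟨[1],8,0⟩) (.leaf ⟨[1],8,0⟩))) (.node (.node (.leaf ⟨[0,4,0,4,1,4],5,1⟩) (.leaf ⟨[1],8,0⟩)) (.node (.leaf ⟨[0,2,0,3,1,1,2,1,3],9,0⟩) (.leaf ⟨[1],8,0⟩))))
noncomputable def l0r1 : Bt Ru := (.node (.node (.leaf ⟨[0],0,0⟩) (.leaf ⟨[2,2,0,3,3,1,1,2,1,3],12,10⟩)) (.node (.leaf ⟨[1,2,0,3,0,0,2,1,3],10,8⟩) (.leaf ⟨[2,1,3,0,0,2,0,3,1],9,6⟩)))
noncomputable def l0r2 : Bt Ru := (.node (.node (.leaf ⟨[4,2,4],1,3⟩) (.leaf ⟨[0,3,1,1,2,1,3,0,0],9,2⟩)) (.node (.leaf ⟨[3],6,0⟩) (.leaf ⟨[3],6,0⟩)))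
noncomputable def l0r3 : Bt Ru := (.node (.leaf ⟨[2],2,0⟩) (.leaf ⟨[0,0,2,0,3,1,1,2,1],9,9⟩))
noncomputable def l0r4 : Bt Ru := (.node (.node (.leaf ⟨[4],3,0⟩) (.leaf ⟨[2,4,2],1,0⟩)) (.node (.leaf ⟨[0,4,1,4,0,0],5,3⟩) (.leaf ⟨[3,4,3],7,3⟩)))
noncomputable def l0r5 : Bt Ru := (.node (.node (.node (.leaf ⟨[3,3,0,2,0,3,0,0,2,2,1],11,9⟩) (.leaf ⟨[2,2,0,3,3,1,1,2,1,3,1],12,0⟩)) (.node (.leaf ⟨[0,4,0,4,1,4,0],5,2⟩) (.leaf ⟨[0,1],8,0⟩))) (.node (.node (.leaf ⟨[3,3,1,1,2,1,3,1,2,2,0],12,3⟩) (.leaf ⟨[3,0,2,0,3,0,0,2,2,1,3],11,10⟩)) (.node (.leaf ⟨[3,0,0,2,0,3,1,1,2,1],9,9⟩) (.leaf ⟨[0,1],8,0⟩))))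
noncomputable def l0T : List (Bt Nat) := [l0t0, l0t1, l0t2, l0t3, l0t4, l0t5, l0t6]
noncomputable def l0R : List (Bt Ru) := [l0r0, l0r1, l0r2, l0r3, l0r4, l0r5]
noncomputable def l0c (a lo cnt : Nat) : Nat := chk (gT l0T (nat_lit 14)) (rT l0R) (nat_lit 14) (nat_lit 0x7fc0) (nat_lit 0x4000) (nat_lit 0x3fc0) (nat_lit 5) (nat_lit 15) (nat_lit 511) (nat_lit 0x8000000000ffffff) (nat_lit 8) (nat_lit 14) (nat_lit 15) (nat_lit 0x4000) a (nfOf [] 0 a) lo cnt
noncomputable def l0f (a : Nat) : Nat := l0c a 0 1
noncomputable def l0m (lo cnt : Nat) : Nat := chkM (gT l0T (nat_lit 14)) (nat_lit 14) (nat_lit 0x7fc0) (nat_lit 0x4000) (nat_lit 0x3fc0) (nat_lit 5) lo cnt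


theorem c0 : orR l0f 0 6 = 0 := by decide +kernel


open Cfsg.Agent.CG

/-- The relators used. -/
noncomputable def R : List (List ℕ) := [[1,0],
  [4,2,4,2],
  [3,2],
  [4,4],
  [0,0,0,0],
  [4,0,0,4,0,4,1],
  [2,3],
  [3,4,3,4],
  [0,1],
  [0,0,2,0,3,1,1,2,1,3],
  [2,0,3,0,0,2,1,3,1,1],
  [0,2,0,3,0,0,2,2,1,3,3],
  [2,2,0,3,3,1,1,2,1,3,1]]

noncomputable def invL : List ℕ := [1,0,3,2,4]

/-- How the relators used follow from the given ones. -/
noncomputable def hints : List (ℕ × Bool × List ℕ) := [(14,false,[]),
  (4,false,[]),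
  (14,false,[]),
  (14,false,[]),
  (5,false,[]),
  (6,false,[]),
  (14,false,[]),
  (4,true,[]),
  (14,false,[]),
  (7,false,[]),
  (7,true,[]),
  (13,false,[]),
  (13,true,[])]

theorem l0all : ∀ a, a < 6 → l0f a = 0 :=
  allz_of_orR c0
theorem l0ru : allLt (rusChk R (nat_lit 5) l0R) 6 = true := by decide +kernel
noncomputable def l0W : List (List ℕ) := [[4]]
theorem l0_ok : Mem R [0,1,2,3] l0W :=
  mem_of_chk (q := 8) (d := 1) (s2 := 24) (full := 1) (f := l0f) (by decide +kernel) (by decide +kernel) (fun _ => rfl) l0all l0ru (by decide +kernel) (by decide +kernel)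


theorem imp : Imp (Rec.szRel 2 0) R :=
  imp_of_ders (n := 5) (inv := invOf invL) (hs := hints) (by decide +kernel) (invOf_ge' rfl)
    (by decide +kernel) (by decide +kernel) (by decide +kernel)
theorem bad : Mem (Rec.szRel 2 0) [0,1,2,3] [[4]] := Rec.mem_of_imp imp l0_ok

end Cfsg.Agent.TCX.Sz20

namespace Cfsg.Agent.TCX.Sz21

noncomputable def l0t0 : Bt Nat := (.node (.leaf (nat_lit 0x800000000a044280000000000901c1c00000000000000000800000001100c2c0800000001100c20000000000000000000000000000000000000000000f03c040000000001100c100000000000e0340c0000000001100c0808000000011014000)) (.leaf (nat_lit 0)))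
noncomputable def l0t1 : Bt Nat := (.node (.leaf (nat_lit 0x8000000008034280000000000000000000000000000000000000000000000000000000000d0340800000000010034040000000000e034100800000001001c000)) (.leaf (nat_lit 0)))
noncomputable def l0t2 : Bt Nat := (.node (.leaf (nat_lit 0xb034100800000001003c18080000000068941800000000000000000000000000f0340c0800000000c024200000000001100c1c00000000000000000800000001100c140000000000f0340408000000011014000)) (.leaf (nat_lit 0)))
noncomputable def l0t3 : Bt Nat := (.node (.leaf (nat_lit 0x800000000d03c1400000000010034100000000001100c240000000001001c080000000000000000000000000000000000000000000000000000000000e0340400000000000000000)) (.leaf (nat_lit 0)))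
noncomputable def l0t4 : Bt Nat := (.node (.leaf (nat_lit 0x1001c1c0800000000c044200000000000b01c240800000001100c2800000000000000000800000001100c180000000000c03c1000000000010034080000000001100c0c08000000010034000000000001100c040)) (.leaf (nat_lit 0)))
noncomputable def l0t5 : Bt Nat := (.node (.leaf (nat_lit 0x800000000703c20000000000000000008000000005034140000000000000000000000000000000000000000004884083000000000386c040000000000286c04480000000018640040000000000000000)) (.leaf (nat_lit 0)))
noncomputable def l0t6 : Bt Nat := (.node (.leaf (nat_lit 0x3c20000000000000341c4000000000002c18300000000000341c0000000000002c1020000000000024144000000000001c08200000000000240c0000000000001c0840000000000014040000000000000c0040000000000000000)) (.leaf (nat_lit 0)))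


noncomputable def l0r0 : Bt Ru := (.node (.node (.leaf ⟨[0,0,0],4,0⟩) (.leaf ⟨[0,0,2,1,3,3,0,2],8,2⟩)) (.node (.leaf ⟨[0,4,0,4,1,4],5,1⟩) (.leaf ⟨[1],10,0⟩)))
noncomputable def l0r1 : Bt Ru := (.leaf ⟨[0],0,0⟩)
noncomputable def l0r2 : Bt Ru := (.node (.leaf ⟨[4,2,4],1,3⟩) (.leaf ⟨[3],6,0⟩))
noncomputable def l0r3 : Bt Ru := (.node (.leaf ⟨[2],2,0⟩) (.leaf ⟨[0,2,0,0,0,2,1,3],8,8⟩))
noncomputable def l0r4 : Bt Ru := (.node (.node (.leaf ⟨[4],3,0⟩) (.leaf ⟨[3,4,3],9,3⟩)) (.node (.leaf ⟨[0,4,1,4,0,0],5,3⟩) (.leaf ⟨[4],3,0⟩)))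
noncomputable def l0r5 : Bt Ru := (.node (.leaf ⟨[2,1,3,3,3,3,0,0,2,2,2,2,0,3,3,3,3,1,1,2,2,2],7,16⟩) (.leaf ⟨[4,0,4,1,4,0,0],5,3⟩))
noncomputable def l0T : List (Bt Nat) := [l0t0, l0t1, l0t2, l0t3, l0t4, l0t5, l0t6]
noncomputable def l0R : List (Bt Ru) := [l0r0, l0r1, l0r2, l0r3, l0r4, l0r5]
noncomputable def l0c (a lo cnt : Nat) : Nat := chk (gT l0T (nat_lit 14)) (rT l0R) (nat_lit 14) (nat_lit 0x7fc0) (nat_lit 0x4000) (nat_lit 0x3fc0) (nat_lit 5) (nat_lit 15) (nat_lit 511) (nat_lit 0x8000000000ffffff) (nat_lit 5) (nat_lit 8) (nat_lit 15) (nat_lit 0x4000) a (nfOf [] 0 a) lo cnt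
noncomputable def l0f (a : Nat) : Nat := l0c a 0 1
noncomputable def l0m (lo cnt : Nat) : Nat := chkM (gT l0T (nat_lit 14)) (nat_lit 14) (nat_lit 0x7fc0) (nat_lit 0x4000) (nat_lit 0x3fc0) (nat_lit 5) lo cnt


theorem c0 : orR l0f 0 6 = 0 := by decide +kernel


open Cfsg.Agent.CG

/-- The relators used. -/
noncomputable def R : List (List ℕ) := [[1,0],
  [4,2,4,2],
  [3,2],
  [4,4],
  [0,0,0,0],
  [4,0,0,4,0,4,1],
  [2,3],
  [0,0,2,2,2,2,0,3,3,3,3,1,1,2,2,2,2,1,3,3,3,3],
  [0,2,0,0,0,2,1,3,3],
  [3,4,3,4],
  [0,1]]

noncomputable def invL : List ℕ := [1,0,3,2,4]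

/-- How the relators used follow from the given ones. -/
noncomputable def hints : List (ℕ × Bool × List ℕ) := [(14,false,[]),
  (4,false,[]),
  (14,false,[]),
  (14,false,[]),
  (5,false,[]),
  (6,false,[]),
  (14,false,[]),
  (10,false,[]),
  (13,false,[]),
  (4,true,[]),
  (14,false,[])]

theorem l0all : ∀ a, a < 6 → l0f a = 0 :=
  allz_of_orR c0
theorem l0ru : allLt (rusChk R (nat_lit 5) l0R) 6 = true := by decide +kernel
noncomputable def l0W : List (List ℕ) := [[4]]
theorem l0_ok : Mem R [0,1,2,3] l0W :=
  mem_of_chk (q := 8) (d := 1) (s2 := 24) (full := 1) (f := l0f) (by decide +kernel) (by decide +kernel) (fun _ => rfl) l0all l0ru (by decide +kernel) (by decide +kernel)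


theorem imp : Imp (Rec.szRel 2 1) R :=
  imp_of_ders (n := 5) (inv := invOf invL) (hs := hints) (by decide +kernel) (invOf_ge' rfl)
    (by decide +kernel) (by decide +kernel) (by decide +kernel)
theorem bad : Mem (Rec.szRel 2 1) [0,1,2,3] [[4]] := Rec.mem_of_imp imp l0_ok

end Cfsg.Agent.TCX.Sz21

namespace Cfsg.Agent.TCX.Sz22

noncomputable def l0t0 : Bt Nat := (.node (.leaf (nat_lit 0xf00c180000000000d03c040000000000f00c100000000000c0340c0000000000f00c080800000000f014000)) (.leaf (nat_lit 0)))
noncomputable def l0t1 : Bt Nat := (.node (.leaf (nat_lit 0xb03408000000000000000000000000000000000800000000e01c000)) (.leaf (nat_lit 0)))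
noncomputable def l0t2 : Bt Nat := (.node (.leaf (nat_lit 0xe03c080000000000b044100000000000903c1c00000000000000000000000000587c100000000000f00c140000000000d034040800000000f014000)) (.leaf (nat_lit 0)))
noncomputable def l0t3 : Bt Nat := (.node (.leaf (nat_lit 0xa03c14000000000000000000000000000000000000000000a0341800000000000000000000000000f00c1c0000000000c0340400000000000000000)) (.leaf (nat_lit 0)))
noncomputable def l0t4 : Bt Nat := (.node (.leaf (nat_lit 0xa03c1000000000000000000000000000f00c0c0800000000e034000000000000f00c040)) (.leaf (nat_lit 0)))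
noncomputable def l0t5 : Bt Nat := (.node (.leaf (nat_lit 0x803c14000000000068740c000000000078840820000000004034080000000000386c040000000000286c043800000000186c0040000000000000000)) (.leaf (nat_lit 0)))
noncomputable def l0t6 : Bt Nat := (.node (.leaf (nat_lit 0x1c0830000000000024140000000000001c08200000000000240c0000000000001c0840000000000014040000000000000c0040000000000000000)) (.leaf (nat_lit 0)))


noncomputable def l0r0 : Bt Ru := (.node (.leaf ⟨[0,0,0],4,0⟩) (.leaf ⟨[0,4,0,4,1,4],5,1⟩))
noncomputable def l0r1 : Bt Ru := (.leaf ⟨[0],0,0⟩)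
noncomputable def l0r2 : Bt Ru := (.node (.node (.leaf ⟨[4,2,4],1,3⟩) (.leaf ⟨[0,2,0,3,3,0],7,1⟩)) (.node (.leaf ⟨[3],6,0⟩) (.leaf ⟨[3],6,0⟩)))
noncomputable def l0r3 : Bt Ru := (.node (.leaf ⟨[2],2,0⟩) (.leaf ⟨[3,0,2,0,2,0],7,5⟩))
noncomputable def l0r4 : Bt Ru := (.node (.leaf ⟨[4],3,0⟩) (.leaf ⟨[0,4,1,4,0,0],5,3⟩))
noncomputable def l0r5 : Bt Ru := (.node (.leaf ⟨[4,2,4,2],1,0⟩) (.leaf ⟨[2,2,2,2,2,2,2],8,0⟩))
noncomputable def l0T : List (Bt Nat) := [l0t0, l0t1, l0t2, l0t3, l0t4, l0t5, l0t6]
noncomputable def l0R : List (Bt Ru) := [l0r0, l0r1, l0r2, l0r3, l0r4, l0r5]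
noncomputable def l0c (a lo cnt : Nat) : Nat := chk (gT l0T (nat_lit 14)) (rT l0R) (nat_lit 14) (nat_lit 0x7fc0) (nat_lit 0x4000) (nat_lit 0x3fc0) (nat_lit 5) (nat_lit 15) (nat_lit 511) (nat_lit 0x8000000000ffffff) (nat_lit 5) (nat_lit 8) (nat_lit 15) (nat_lit 0x4000) a (nfOf [] 0 a) lo cnt
noncomputable def l0f (a : Nat) : Nat := l0c a 0 1
noncomputable def l0m (lo cnt : Nat) : Nat := chkM (gT l0T (nat_lit 14)) (nat_lit 14) (nat_lit 0x7fc0) (nat_lit 0x4000) (nat_lit 0x3fc0) (nat_lit 5) lo cnt


theorem c0 : orR l0f 0 6 = 0 := by decide +kernel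


open Cfsg.Agent.CG

/-- The relators used. -/
noncomputable def R : List (List ℕ) := [[1,0],
  [4,2,4,2],
  [3,2],
  [4,4],
  [0,0,0,0],
  [4,0,0,4,0,4,1],
  [2,3],
  [0,2,0,2,0,3,3],
  [2,2,2,2,2,2,2],
  [0,1]]

noncomputable def invL : List ℕ := [1,0,3,2,4]

/-- How the relators used follow from the given ones. -/
noncomputable def hints : List (ℕ × Bool × List ℕ) := [(14,false,[]),
  (4,false,[]),
  (14,false,[]),
  (14,false,[]),
  (5,false,[]),
  (6,false,[]),
  (14,false,[]),
  (13,false,[]),
  (3,false,[]),
  (14,false,[])]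

theorem l0all : ∀ a, a < 6 → l0f a = 0 :=
  allz_of_orR c0
theorem l0ru : allLt (rusChk R (nat_lit 5) l0R) 6 = true := by decide +kernel
noncomputable def l0W : List (List ℕ) := [[4]]
theorem l0_ok : Mem R [0,1,2,3] l0W :=
  mem_of_chk (q := 8) (d := 1) (s2 := 24) (full := 1) (f := l0f) (by decide +kernel) (by decide +kernel) (fun _ => rfl) l0all l0ru (by decide +kernel) (by decide +kernel)


theorem imp : Imp (Rec.szRel 2 2) R :=
  imp_of_ders (n := 5) (inv := invOf invL) (hs := hints) (by decide +kernel) (invOf_ge' rfl)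
    (by decide +kernel) (by decide +kernel) (by decide +kernel)
theorem bad : Mem (Rec.szRel 2 2) [0,1,2,3] [[4]] := Rec.mem_of_imp imp l0_ok

end Cfsg.Agent.TCX.Sz22

namespace Cfsg.Agent.TCX.Sz23

noncomputable def l0t0 : Bt Nat := (.node (.leaf (nat_lit 0x8000000017074b4000000000000000000000000019054dc0000000000000000000000000000000000000000000000000000000001f064540000000001506cc40000000001f064d0000000000000000000000000000000000000000000000000000000000000000000000000000000000000000000000000000000000000000000000000000000000000000002000ce800000000000000000000000002000cac0000000001f064a0000000000000000000000000000000000000000001d064a40000000001f0648c0000000002000cec0000000001f0642800000000000000000000000000000000000000000000000000000000000000000000000001d064940000000000000000000000000000000000000000000000000000000000e9acec00000000000000000000000001d064640800000001302ce00000000002000c600000000001a064900000000002000ccc000000000000000000000000000000000800000001d02c4c0800000001f0643c0000000001f02c180000000001d02c400000000001f02c300800000001f064140000000002000c980000000002000c780800000001d02c340000000002000c580800000002000c440800000002000c380800000002000c240000000001e05c040800000002000c100000000001d0540c0000000002000c0808000000020014000))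 (.leaf (nat_lit 0)))
noncomputable def l0t1 : Bt Nat := (.node (.leaf (nat_lit 0x8000000013024e00800000002000cfc0800000002000d00000000000000000000000000000000000000000001f054b00000000000000000080000000140645c000000000000000000000000000000000000000001e05ccc0000000002000cd40000000001f05450000000000000000008000000014054d80000000000000000000000000000000000000000000000000000000001601cf40000000000000000000000000000000000000000000000000000000001e05c980000000002000ca400000000000000000000000001f0542c0000000001e05c780000000001b064540000000002000c9400000000000000000000000000000000000000000000000000000000000000000000000001f054280000000000000000000000000000000000000000000000000000000000e9ac540000000001e05c600000000001f054580800000002000cf80000000001f054200000000002000cdc0000000002000cd00800000001e05c440800000002000c4c0000000001f01c1c0800000001e05c380000000002000c400000000001f01c180800000001e05c240800000002000c340000000002000ca00000000002000c8c0800000001f01c140000000002000c640800000002000c480800000002000c3c0000000002000c300000000001f01c0c0000000001c054080000000001f054040800000001d054100800000001f01c000))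 (.leaf (nat_lit 0)))
noncomputable def l0t2 : Bt Nat := (.node (.leaf (nat_lit 0x1807cec000000000000000000000000013084900800000001306ce00000000001f024dc0000000002000cf400000000000000000800000002000cd8000000000000000000000000000000000000000001f05cc40800000001f05c4c00000000000000000000000000000000000000000000000000000000000000000000000001f05c300000000001c05cbc00000000000000000000000002000cf000000000000000000000000001c07c940000000002000c9c00000000000000000000000001f05c8c00000000000000000000000001905c2c0000000002000c880000000001e074500800000002000c800000000000000000000000000000000000000000019024740800000002000c700000000001705cc80800000002000ce400000000000000000800000001c06c240800000002000c5c0000000002000c840000000001f05c1c0000000002000cc0000000000000000000000000000000000000000001a05c6000000000000000000800000001c064340800000002000cb400000000000000000000000001e054180800000002000c7c0000000002000c680000000001d05c540000000001f05c080000000001e0540c0000000002000c2800000000000000000000000001d05c200800000002000c140000000001e0540408000000020014000)) (.leaf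 (nat_lit 0)))
noncomputable def l0t3 : Bt Nat := (.node (.leaf (nat_lit 0x8000000011074fc000000000000000000000000000000000000000001f054dc0000000001f054a400000000017054f000000000000000000000000001f01c640800000001201ce40800000002000ce00000000001f01cd40000000000000000000000000000000000000000000000000000000001806c680000000002000cc80800000001f0544c0000000001d05cac00000000000000000800000001f01c34000000000000000000000000000000000000000000000000000000000000000000000000000000000000000001f0549800000000000000000000000001b0549c00000000012054e80000000002000c900000000001f05484000000000000000000000000000000000000000001f01c2800000000000000000800000001a05c700000000001f01c6c00000000000000000800000001f0542400000000000000000000000001b064400000000001f01c5808000000015a0c4c0000000001e05c2000000000000000000000000002000cc4000000000000000000000000000000000000000002000cb8000000000000000000000000000000000800000001b01c380000000002000cb00000000001a05c880800000001f054140800000001b01c5c0000000001e05c0c0000000002000c500000000001d0542c0000000001f01c0800000000000000000000000001d054180000000002000c1c0000000001d0540400000000000000000))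 (.leaf (nat_lit 0)))
noncomputable def l0t4 : Bt Nat := (.node (.leaf (nat_lit 0x1f054b80000000002000cbc000000000000000000000000000000000000000001e06440000000000000000000000000000000000000000000000000000000000000000000000000000000000000000000000000000000000000000000000000000000000800000001b05c7c0800000001d05c800000000001c01c84000000000000000000000000000000000000000001f054580800000001b05c5c00000000000000000000000000000000000000000000000000000000000000000800000001a01c700000000002000c740000000001f054500000000002000c5400000000000000000000000000000000000000000000000000000000000000000000000000000000000000000000000000000000000000000000000002000ca80000000001f054280000000002000c2c0000000002000c6c0000000001f0541c0000000002000c200800000001f054140000000002000c1800000000000000000000000001f054080000000002000c0c0800000001f054000000000002000c040)) (.leaf (nat_lit 0)))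
noncomputable def l0t5 : Bt Nat := (.node (.leaf (nat_lit 0x800000000ba14d81000000000aa64b83000000000b95c400800000001005c24000000000000000000000000000000000000000000aa74d4300000000000000008000000009a643c00000000008a341800000000008a34401000000000e9ac8c2800000000ca1cb420000000016054580800000000a9e45c28000000009a047040000000000000000800000000fa5c141000000000c9dc980000000000d8ec2c40000000008a6c6c300000000098e4641800000000b9b45c300000000099c4583800000000c97c240000000000fa5c682800000000d8ec3410000000009994202000000000a9340c200000000000000000000000000000000800000000d8ec1400000000008a6c402000000000000000000000000079bc600800000000ca1c38300000000059d45800000000006974584000000000000000000000000049d40c1000000000b95c181800000000a934144000000000000000000000000000000000000000000000000800000000792c240000000000000000000000000000000000000000000000000000000000e9ec282000000000a93420300000000078e4084000000000000000000000000088e40c3000000000692c082000000000692c08100000000000000000000000000000000000000000399c08300000000029cc04180000000018cc0040000000000000000)) (.leaf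 (nat_lit 0)))
noncomputable def l0t6 : Bt Nat := (.node (.leaf (nat_lit 0x44f410000000000044f81000000000003c5c1000000000003cdc20000000000044a42000000000003c9000000000000034b000000000000034642000000000003cdc30000000000034541000000000003cd420000000000034d01000000000002c501000000000002c500000000000003cc4300000000000344c300000000000344c20000000000044b84000000000003c4030000000000034342000000000002c3030000000000034a80000000000002c304000000000003ca0100000000000342c1000000000003c98200000000000342c000000000000348c100000000000348c3000000000002c281000000000003c842000000000003454200000000000347c2000000000002c282000000000002c280000000000003458400000000000346c2000000000002c244000000000002c242000000000002c20100000000000345800000000000034582000000000002c200000000000002c50400000000000241c3000000000002c48100000000000241c100000000000241c000000000000343c1000000000002c181000000000002c180000000000002c3010000000000024141000000000002c2840000000000024142000000000002414000000000000241c4000000000001c0830000000000024144000000000001c08200000000000240c0000000000001c0840000000000014040000000000000c0040000000000000000))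 (.leaf (nat_lit 0)))


noncomputable def l0r0 : Bt Ru := (.node (.node (.node (.leaf ⟨[0,0,0],4,0⟩) (.leaf ⟨[2,0,2,2,0,0,3,1,3,3],16,0⟩)) (.node (.leaf ⟨[1],8,0⟩) (.leaf ⟨[1],8,0⟩))) (.node (.node (.leaf ⟨[0,4,0,4,1,4],6,1⟩) (.leaf ⟨[1],8,0⟩)) (.node (.leaf ⟨[2,1,1,3,3,1,3,1,2,2],11,2⟩) (.leaf ⟨[1],8,0⟩))))
noncomputable def l0r1 : Bt Ru := (.node (.node (.leaf ⟨[0],0,0⟩) (.leaf ⟨[3,1,2,2,0,2,1,1,3,3],11,8⟩)) (.node (.leaf ⟨[1,1,1],9,0⟩) (.leaf ⟨[0],0,0⟩)))
noncomputable def l0r2 : Bt Ru := (.node (.node (.node (.leaf ⟨[4,2,4],1,3⟩) (.leaf ⟨[2,2,2,2,2,2],12,0⟩)) (.node (.leaf ⟨[0,3,1,1,2,1,3,0,0],10,2⟩) (.leaf ⟨[0,3,0,0,2,1,3,1,1],15,0⟩))) (.node (.node (.leaf ⟨[3],5,0⟩) (.leaf ⟨[2,0,3,3,1,1,2,2,1,3,3,0,0],13,2⟩)) (.node (.leaf ⟨[2,0,2,1,1,3,3,1,3,1],11,0⟩) (.leaf ⟨[3],5,0⟩))))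
noncomputable def l0r3 : Bt Ru := (.node (.node (.node (.leaf ⟨[2],2,0⟩) (.leaf ⟨[1,2,2,0,2,1,1,3,3,1],11,9⟩)) (.node (.leaf ⟨[0,0,2,0,3,1,1,2,1],10,9⟩) (.leaf ⟨[2],2,0⟩))) (.node (.node (.leaf ⟨[4,3,4],7,0⟩) (.leaf ⟨[2],2,0⟩)) (.node (.leaf ⟨[3,3,0,0,2,2,2,2,2,2,0,3,3,3,3,3,3,1,1,2,2,2,2,2,2,1,3,3,3],14,27⟩) (.leaf ⟨[2],2,0⟩))))
noncomputable def l0r4 : Bt Ru := (.node (.node (.leaf ⟨[4],3,0⟩) (.leaf ⟨[0,4,1,4,0,0],6,3⟩)) (.node (.leaf ⟨[2,4,2],1,0⟩) (.leaf ⟨[4],3,0⟩)))
noncomputable def l0r5 : Bt Ru := (.node (.leaf ⟨[2,2,2,2,2,2,2],12,0⟩) (.leaf ⟨[3,0,0,2,1,3,1,1,2,0],15,2⟩))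
noncomputable def l0T : List (Bt Nat) := [l0t0, l0t1, l0t2, l0t3, l0t4, l0t5, l0t6]
noncomputable def l0R : List (Bt Ru) := [l0r0, l0r1, l0r2, l0r3, l0r4, l0r5]
noncomputable def l0c (a lo cnt : Nat) : Nat := chk (gT l0T (nat_lit 14)) (rT l0R) (nat_lit 14) (nat_lit 0x7fc0) (nat_lit 0x4000) (nat_lit 0x3fc0) (nat_lit 5) (nat_lit 15) (nat_lit 511) (nat_lit 0x8000000000ffffff) (nat_lit 9) (nat_lit 16) (nat_lit 15) (nat_lit 0x4000) a (nfOf [] 0 a) lo cnt
noncomputable def l0f (a : Nat) : Nat := l0c a 0 1
noncomputable def l0m (lo cnt : Nat) : Nat := chkM (gT l0T (nat_lit 14)) (nat_lit 14) (nat_lit 0x7fc0) (nat_lit 0x4000) (nat_lit 0x3fc0) (nat_lit 5) lo cnt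


theorem c0 : orR l0f 0 6 = 0 := by decide +kernel


open Cfsg.Agent.CG

/-- The relators used. -/
noncomputable def R : List (List ℕ) := [[1,0],
  [4,2,4,2],
  [3,2],
  [4,4],
  [0,0,0,0],
  [2,3],
  [4,0,0,4,0,4,1],
  [3,4,3,4],
  [0,1],
  [1,1,1,1],
  [0,0,2,0,3,1,1,2,1,3],
  [2,2,0,2,1,1,3,3,1,3,1],
  [2,2,2,2,2,2,2],
  [0,0,2,2,0,3,3,1,1,2,2,1,3,3],
  [0,0,2,2,2,2,2,2,0,3,3,3,3,3,3,1,1,2,2,2,2,2,2,1,3,3,3,3,3,3],
  [2,0,3,0,0,2,1,3,1,1],
  [0,2,0,2,2,0,0,3,1,3,3]]

noncomputable def invL : List ℕ := [1,0,3,2,4]

/-- How the relators used follow from the given ones. -/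
noncomputable def hints : List (ℕ × Bool × List ℕ) := [(14,false,[]),
  (4,false,[]),
  (14,false,[]),
  (14,false,[]),
  (5,false,[]),
  (14,false,[]),
  (6,false,[]),
  (4,true,[]),
  (14,false,[]),
  (5,true,[]),
  (7,false,[]),
  (13,true,[]),
  (3,false,[]),
  (8,false,[]),
  (12,false,[]),
  (7,true,[]),
  (13,false,[])]

theorem l0all : ∀ a, a < 6 → l0f a = 0 :=
  allz_of_orR c0
theorem l0ru : allLt (rusChk R (nat_lit 5) l0R) 6 = true := by decide +kernel
noncomputable def l0W : List (List ℕ) := [[4]]
theorem l0_ok : Mem R [0,1,2,3] l0W :=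
  mem_of_chk (q := 8) (d := 1) (s2 := 24) (full := 1) (f := l0f) (by decide +kernel) (by decide +kernel) (fun _ => rfl) l0all l0ru (by decide +kernel) (by decide +kernel)


theorem imp : Imp (Rec.szRel 2 3) R :=
  imp_of_ders (n := 5) (inv := invOf invL) (hs := hints) (by decide +kernel) (invOf_ge' rfl)
    (by decide +kernel) (by decide +kernel) (by decide +kernel)
theorem bad : Mem (Rec.szRel 2 3) [0,1,2,3] [[4]] := Rec.mem_of_imp imp l0_ok

end Cfsg.Agent.TCX.Sz23

namespace Cfsg.Agent.TCX.Sz24

noncomputable def l0t0 : Bt Nat := (.node (.leaf (nat_lit 0x2306cc40000000002306cc00000000000000000000000000000000000000000000000000000000000000000000000000000000000000000000000000000000000000000000000000000000000000000000000000000000000000000000000000000000000000000000000000000000000f06cf000000000000000000000000002106d080800000002306c6800000000000000000000000002400d0000000000000000000000000002102cf80000000000000000000000000000000000000000000000000000000002306c5400000000000000000000000002400cec00000000000000000000000001e06cd400000000000000000000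000002306c400000000000000000000000000000000000000000000000000000000000000000000000000000000000000000000000000000000002400cd000000000000000000000000002400cc8000000000000000000000000000000000800000002400cb40000000002106ca40000000002306c2800000000000000000000000000000000000000000000000000000000000000000000000002400c900800000002400c8400000000000000000000000002400c780800000002102c600800000002302c140000000002400c5800000000000000000800000002400c4400000000000000000000000002400c380800000002400c3000000000022064040000000002400c100800000002105c0c0800000002400c0808000000024014000)) (.leaf (nat_lit 0)))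
noncomputable def l0t1 : Bt Nat := (.node (.leaf (nat_lit 0x22064c800000000000000000000000000000000000000000000000008000000022064b400000000000000000000000001006cd00000000000000000000000000000000000000000000000000000000000000000000000000220649008000000022024840000000001f06c940000000002305c7000000000000000000800000002305c680000000002400d080000000002400d04000000000000000000000000000000000800000002301c5c0000000002400cf800000000000000000000000000000000000000000220645800000000000000000000000000000000000000000000000000000000000000000000000002305c400800000002400cdc00000000000000000800000002301c3c0800000002400cd8000000000000000000000000000000000000000000000000000000000000000000000000000000000000000002400cc4000000000000000008000000022024300800000002400cb00000000002305c280000000002400ca40000000000000000000000000000000000000000000000000800000002301c200000000002400c8c0800000002400c8000000000000000000000000002400c740800000002301c140800000002400c600000000002400c540800000002400c4c0000000000000000000000000000000000000000000000000800000002400c2c0800000002305c0c0800000002001c080000000002301c040000000002105c100800000002301c000))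 (.leaf (nat_lit 0)))
noncomputable def l0t2 : Bt Nat := (.node (.leaf (nat_lit 0x23024c400000000014024f800000000000000000000000000000000000000000000000000000000013065000000000001f064f400000000023064a800000000023064a400000000000000000000000002306490000000000230648c0800000001506510000000000000000000000000019024e8000000000230647400000000018a648c0800000001a024d800000000016a6c900800000002400d0c00000000000000000000000000000000080000000230245c00000000000000000000000002400cfc00000000000000000000000002306454000000000000000008000000021024b8000000000000000000000000023064480000000001c05c980000000002006c700000000002400ce0080000000230243c0000000000000000000000000000000008000000021024880000000000000000000000000000000008000000023064300800000002400ccc080000000230242c0000000002400cc00800000002400cbc0000000002302428000000000000000000000000000000000800000002400ca00000000000000000080000000230642000000000000000000000000002400c94000000000230241800000000000000000800000002400c7c0800000002400c6c0800000002400c6400000000023064100800000002400c50080000000230240c0000000002400c4008000000023064080000000002400c340000000002400c240000000002400c1c0800000002400c140000000002205c0408000000024014000))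 (.leaf (nat_lit 0)))
noncomputable def l0t3 : Bt Nat := (.node (.leaf (nat_lit 0x16094e00000000002301cc4000000000000000000000000000000000000000001408cfc0800000002305cb0080000000150850c0000000002007cf8000000000000000000000000000000000800000001a06cd800000000000000000000000002305c8c00000000000000000800000001b074cc000000000000000000000000012a84f80800000002301c6c00000000000000000800000002400d10000000000000000000000000000000000800000002206ca00000000000000000000000000000000000000000000000000000000002400cf40000000002400cf00800000002301c50000000000000000000000000000000000000000002305c400000000002400ce80000000002400ce40800000002206c7c000000000000000000000000000000000000000002301c3400000000000000000000000002400cd40000000001f05c900800000002301c300000000000000000000000000000000008000000020064440800000002400cb80000000002400cac0000000002400ca80000000002301c2400000000000000000000000002400c9800000000000000000000000002305c1c0800000002400c8800000000000000000800000002305c140000000002400c700800000002400c680800000002400c5c0000000002305c100000000002400c480800000002305c0c0800000002400c3c0800000002301c080000000002400c280800000002400c200000000002400c180000000002105c0400000000000000000))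 (.leaf (nat_lit 0)))
noncomputable def l0t4 : Bt Nat := (.node (.leaf (nat_lit 0x1d064a4000000000000000000000000000000000000000000000000000000000000000000000000000000000000000000000000000000000000000000000000000000000000000000000000000000000000000000000000000000000000000000000000000000000000000000000000000000000000000000000000000000000000000000000000000000000000000001c05cec000000000000000000000000000000000800000001e0747c0800000001e06c88000000000000000000000000000000000000000001d01c94000000000000000000000000000000000000000000000000000000000000000000000000000000000000000000000000000000000000000000000000000000000000000000000000000000000000000000000000000000000000000000000000000000000000000000000000000000000800000002400c9c000000000200743400000000000000000800000002006c3c0000000001f01c4000000000000000000000000001f05c48000000000000000000000000000000000000000001e074240000000001d05c2808000000022034140000000002206c180000000002105c1c0800000002101c200000000001f064100800000002301c080800000002400c0c0800000002305c000000000002400c040)) (.leaf (nat_lit 0)))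
noncomputable def l0t5 : Bt Nat := (.node (.leaf (nat_lit 0x800000000f0745c00000000009a1c341000000000ca94702000000000da2c902800000000da24680000000001306cd00800000000ba3c14000000000099e44840000000017064c80000000001905cd0000000000119ec542000000000000000000000000000000000000000008984ac3800000000ca8c2c20000000000000000800000000eaacb01800000000eaacb40000000000a9b4542000000000000000000000000000000000000000000000000000000000000000000000000079c41000000000012a848c2000000000aa7c3420000000000000000000000000000000000000000079c41c2800000000891c0c2800000000aa9c443800000000ba3c642000000000000000000000000000000000000000000000000000000000000000000000000099e454000000000099e4581800000000ba3c601000000000000000000000000000000000000000000000000000000000000000000000000000000000000000006a442420000000006aa438000000000000000000000000000000000000000000891c1c3000000000000000080000000099bc201000000000000000080000000049040c00000000007a7418400000000000000000000000000000000000000000394410000000000049040410000000000000000800000000692c0c3800000000592c0840000000000000000000000000294c0430000000000000000000000000000000080000000018e40040000000000000000))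 (.leaf (nat_lit 0)))
noncomputable def l0t6 : Bt Nat := (.node (.leaf (nat_lit 0x3cc43000000000003cc42000000000003cc41000000000003cc01000000000003cbc00000000000044b020000000000044b010000000000044a830000000000044a4300000000000449c0000000000003c903000000000003c8c3000000000003c8c2000000000003c8c100000000000348010000000000034743000000000003470000000000000346c20000000000034680000000000003468100000000000346420000000000034602000000000003c5c3000000000003c5c0000000000003c5c1000000000003c583000000000003c543000000000003c541000000000003c502000000000003c4c40000000000034483000000000003440200000000000344000000000000034401000000000002c3c3000000000002c3c0000000000002c3c1000000000002c342000000000002c340000000000002c341000000000002c303000000000002c302000000000002c2c3000000000002c2c2000000000002c2c100000000000342830000000000034280000000000003428100000000000342420000000000034241000000000002c203000000000002c200000000000002c1c200000000000241830000000000024180000000000002414200000000000241400000000000024141000000000002c103000000000002c10200000000000240c300000000000240c2000000000001c083000000000001c08200000000000240c0000000000001c0840000000000014040000000000000c0040000000000000000))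 (.leaf (nat_lit 0)))


noncomputable def l0r0 : Bt Ru := (.node (.node (.leaf ⟨[0,0,0],4,0⟩) (.leaf ⟨[1],8,0⟩)) (.node (.leaf ⟨[0,4,0,4,1,4],5,1⟩) (.leaf ⟨[1],8,0⟩)))
noncomputable def l0r1 : Bt Ru := (.node (.node (.leaf ⟨[0],0,0⟩) (.leaf ⟨[3,1,2,2,0,2,2,1,1,3,3,3],12,10⟩)) (.node (.leaf ⟨[1,1,1],9,0⟩) (.leaf ⟨[0],0,0⟩)))
noncomputable def l0r2 : Bt Ru := (.node (.node (.leaf ⟨[4,2,4],1,3⟩) (.leaf ⟨[0,2,2,1,1,3,3,3,1,3,1,2],12,1⟩)) (.node (.leaf ⟨[3],6,0⟩) (.leaf ⟨[3],6,0⟩)))
noncomputable def l0r3 : Bt Ru := (.node (.node (.node (.leaf ⟨[2],2,0⟩) (.leaf ⟨[3,3,1,3,1,2,2,0,2,2,1,1],12,7⟩)) (.node (.leaf ⟨[3,3,3,3,3,3],11,0⟩) (.leaf ⟨[0,2,0,2,2,2,0,0,3,3,1,3],17,12⟩))) (.node (.node (.leaf ⟨[1,1,2,0,3,0,0,2,1],10,7⟩) (.leaf ⟨[1,1,2,2,2,2,2,1,3,3,3,3,3,0,0,2,2,2,2,2,0,3,3,3,3],16,12⟩)) (.node (.leaf ⟨[1,1,2,2,2,2,2,0,3,3,3,3,3,0,0,2,2,2,2,2,1,3,3,3,3],13,23⟩) (.leaf ⟨[3,0,0,2,2,2,2,0,3,3,3,3,1,1,2,2,2,2,1,3,3],18,20⟩))))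
noncomputable def l0r4 : Bt Ru := (.node (.node (.leaf ⟨[4],3,0⟩) (.leaf ⟨[2,4,2],1,0⟩)) (.node (.leaf ⟨[0,4,1,4,0,0],5,3⟩) (.leaf ⟨[3,4,3],7,3⟩)))
noncomputable def l0r5 : Bt Ru := (.node (.node (.leaf ⟨[3,1,2,2,0,2,2,1,1,3,3,3,1],12,11⟩) (.leaf ⟨[2,2,2,2,2,2,2],15,0⟩)) (.node (.leaf ⟨[3,0,0,2,0,3,1,1,2,1],14,9⟩) (.leaf ⟨[0,3,1,1,2,1,3,0,0,2],14,3⟩)))
noncomputable def l0T : List (Bt Nat) := [l0t0, l0t1, l0t2, l0t3, l0t4, l0t5, l0t6]
noncomputable def l0R : List (Bt Ru) := [l0r0, l0r1, l0r2, l0r3, l0r4, l0r5]
noncomputable def l0c (a lo cnt : Nat) : Nat := chk (gT l0T (nat_lit 14)) (rT l0R) (nat_lit 14) (nat_lit 0x7fc0) (nat_lit 0x4000) (nat_lit 0x3fc0) (nat_lit 5) (nat_lit 15) (nat_lit 511) (nat_lit 0x8000000000ffffff) (nat_lit 10) (nat_lit 18) (nat_lit 15) (nat_lit 0x4000) a (nfOf [] 0 a) lo cnt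
noncomputable def l0f (a : Nat) : Nat := l0c a 0 1
noncomputable def l0m (lo cnt : Nat) : Nat := chkM (gT l0T (nat_lit 14)) (nat_lit 14) (nat_lit 0x7fc0) (nat_lit 0x4000) (nat_lit 0x3fc0) (nat_lit 5) lo cnt


theorem c0 : orR l0f 0 6 = 0 := by decide +kernel


open Cfsg.Agent.CG

/-- The relators used. -/
noncomputable def R : List (List ℕ) := [[1,0],
  [4,2,4,2],
  [3,2],
  [4,4],
  [0,0,0,0],
  [4,0,0,4,0,4,1],
  [2,3],
  [3,4,3,4],
  [0,1],
  [1,1,1,1],
  [2,0,3,0,0,2,1,3,1,1],
  [3,3,3,3,3,3,3],
  [2,2,0,2,2,1,1,3,3,3,1,3,1],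
  [2,2,2,2,2,0,3,3,3,3,3,0,0,2,2,2,2,2,1,3,3,3,3,3,1,1],
  [0,0,2,0,3,1,1,2,1,3],
  [2,2,2,2,2,2,2],
  [0,0,2,2,2,2,2,0,3,3,3,3,3,1,1,2,2,2,2,2,1,3,3,3,3,3],
  [0,2,0,2,2,2,0,0,3,3,1,3,3],
  [0,0,2,2,2,2,0,3,3,3,3,1,1,2,2,2,2,1,3,3,3,3]]

noncomputable def invL : List ℕ := [1,0,3,2,4]

/-- How the relators used follow from the given ones. -/
noncomputable def hints : List (ℕ × Bool × List ℕ) := [(14,false,[]),
  (4,false,[]),
  (14,false,[]),
  (14,false,[]),
  (5,false,[]),
  (6,false,[]),
  (14,false,[]),
  (4,true,[]),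
  (14,false,[]),
  (5,true,[]),
  (7,true,[]),
  (3,true,[]),
  (13,true,[]),
  (11,true,[]),
  (7,false,[]),
  (3,false,[]),
  (11,false,[]),
  (13,false,[]),
  (10,false,[])]

theorem l0all : ∀ a, a < 6 → l0f a = 0 :=
  allz_of_orR c0
theorem l0ru : allLt (rusChk R (nat_lit 5) l0R) 6 = true := by decide +kernel
noncomputable def l0W : List (List ℕ) := [[4]]
theorem l0_ok : Mem R [0,1,2,3] l0W :=
  mem_of_chk (q := 8) (d := 1) (s2 := 24) (full := 1) (f := l0f) (by decide +kernel) (by decide +kernel) (fun _ => rfl) l0all l0ru (by decide +kernel) (by decide +kernel)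


theorem imp : Imp (Rec.szRel 2 4) R :=
  imp_of_ders (n := 5) (inv := invOf invL) (hs := hints) (by decide +kernel) (invOf_ge' rfl)
    (by decide +kernel) (by decide +kernel) (by decide +kernel)
theorem bad : Mem (Rec.szRel 2 4) [0,1,2,3] [[4]] := Rec.mem_of_imp imp l0_ok

end Cfsg.Agent.TCX.Sz24

namespace Cfsg.Agent.TCX.Sz25

noncomputable def l0t0 : Bt Nat := (.node (.leaf (nat_lit 0x800000002607d0c0000000000000000000000000000000000000000000000000000000000000000000000000000000000000000000000000800000001d08d2c000000000000000000000000000000000800000002602cc8000000000000000000000000000000000000000000000000000000000000000000000000000000000800000002607cb40000000000000000080000000100853408000000012af4b40800000002700d580800000002006d040000000002602c880000000002700d500800000002506cf80000000002602c80000000000000000000000000000000000000000002402cf4000000000000000000000000000000000000000001e07ce800000000000000000000000002700d3c00000000000000000000000000000000000000000000000000000000000000000000000000000000000000000000000000000000000000000000000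000000000000000000000000000000000000000000000000000000000000000000000000000000000000000000800000002602c30000000000000000000000000000000000800000002602c8c0800000002700d080800000002602c2c0800000002107c900800000002700cfc0000000002700c840000000000000000000000000000000000000000000000000800000002700cec00000000000000000800000002700cdc0800000002700ccc00000000000000000800000002700c6000000000000000000800000002700c580000000000000000000000000000000000000000000000000800000002602c4000000000000000000800000002402c440800000002602c340000000002602c140800000002700c98000000000000000000000000000000000800000002700c5c0800000002700c540800000002700c480800000002700c3c0000000002700c2800000000025074040800000002700c100800000002406c0c0000000002700c0808000000027014000)) (.leaf (nat_lit 0)))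
noncomputable def l0t1 : Bt Nat := (.node (.leaf (nat_lit 0x800000002601d0c00000000000000000000000002606d00000000000000000000000000000000000000000000000000000000000000000000000000000000000000000000000000000000000000000000000000000000000800000001c01d4000000000000000000000000000000000000000000000000000000000000000000000000000000000000000000000000000000000000000000000000002700d5c0800000002601c900000000000000000000000000000000000000000000000000800000002401cfc08000000025074ec0000000002700cf40000000002601c700000000001f074e0000000000200847c0800000002700ce40000000002601c68000000000000000008000000025024cc0800000002700cd40800000002601c640800000002700d340000000002700d2800000000000000000000000002700d2000000000000000000000000002700d1c00000000000000000000000000000000000000000000000008000000025024980800000002700ca400000000000000000800000002601c3000000000000000000000000002207c880800000002700c940800000002700d040000000002606c800800000002700cf80000000002700ce8000000000000000000000000000000000800000002700cf0000000000000000000000000000000000800000002700cd00800000002601c5c0800000002601c240800000002601c540800000002601c20000000000000000000000000000000000000000002601c1c080000000250243c0800000002700c440800000002601c1800000000025074280800000002700c380800000002700ca00800000002700c8c0000000002606c140000000000000000000000000000000000000000000000000800000002700c400800000002700c340800000002601c0c0000000002301c080000000002606c040800000002406c100800000002601c000))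 (.leaf (nat_lit 0)))
noncomputable def l0t2 : Bt Nat := (.node (.leaf (nat_lit 0x8000000011035140800000001c0354c000000000000000008000000026024fc000000000220850008000000026024dc0800000001d0b5080000000000000000080000000190ad2c0000000000000000000000000000000008000000026024c4000000000000000000000000000000000000000000f07518080000000150a558000000000000000008000000026024ac08000000012af55800000000000000000800000002700d54000000000000000000000000026074840800000001e08d440000000000000000000000000000000000000000000000000000000000000000000000000000000000000000000000000000000002700d480800000002700d400800000002309cd40800000002700d38000000000000000000000000000000000800000002700d30080000000260245c0000000002700d240000000000000000000000000000000008000000026024440000000000000000080000000260243c0800000002700d1000000000000000000800000002700cd808000000023094940800000002700c9c00000000000000000000000000000000000000000000000000000000000000000000000002308c700000000002700c88080000000250844c0000000002700c7c0000000000000000000000000260742800000000000000000000000002700ce000000000000000000800000002700cc80000000002700cc0000000000000000000000000000000000000000002700c80000000000260241c0800000002700cb8080000000210245800000000000000000800000002307c380800000002700ca800000000000000000800000002506c180800000002700c780000000002700c680800000002700c64000000000240245000000000026074080800000002506c0c0800000002700c2c0800000002700c2408000000024024200000000002700c140000000002506c0408000000027014000))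 (.leaf (nat_lit 0)))
noncomputable def l0t3 : Bt Nat := (.node (.leaf (nat_lit 0x1401d1c0800000002601d0800000000000000000800000001b01d540000000002606ce0000000000000000000000000000000000000000000000000000000000000000000000000000000000800000002601cc8000000000000000000000000000000000000000002606cc00800000001108d300000000000000000000000000100852000000000000000000800000002601ca800000000000000000800000001c01d4000000000000000000000000002106d480800000002700d4c0000000000000000000000000000000000000000000000000000000000000000000000000000000000000000000000000000000002606c680800000002700d440800000002601ca00000000000000000000000000000000000000000000000000800000002601c600800000002700d2c000000000000000000000000000000000800000002601c4800000000000000000000000002700d180800000002700d140800000002601c38000000000000000000000000000000000800000002601c980800000002700d0c0800000002201c9c00000000000000000800000002700c900000000002606c800000000002700d000000000002606c500800000002606c780800000002601c2c000000000250746c0000000002206c8400000000000000000000000002606c280800000002601c240800000002002c400800000002700cc40800000002207c440800000002700cbc08000000025074200000000002401c7c00000000000000000800000002700cb40800000002700cb00800000002700cac0800000002201c3c000000000000000000000000021024880000000002601c140000000002700c700800000002601c10080000000250740c0800000002700c4c0800000002401c300000000002606c0800000000000000000800000002401c180000000002700c1c0000000002406c0400000000000000000))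 (.leaf (nat_lit 0)))
noncomputable def l0t4 : Bt Nat := (.node (.leaf (nat_lit 0x8000000022074780000000000000000000000000240747c0000000002306c80000000000000000000000000000000000000000002700c740000000002606c2800000000000000000000000000000000000000000000000000000000000000000000000000000000000000000000000000000000000000000000000002700c5000000000000000000000000000000000000000000000000000000000000000000000000000000000000000000000000000000000000000000800000002700c300000000002700c6c00000000000000000000000002601c1c0800000002700c200000000002601c140800000002700c1800000000000000000000000002601c080800000002700c0c0800000002606c000000000002700c040)) (.leaf (nat_lit 0)))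
noncomputable def l0t5 : Bt Nat := (.node (.leaf (nat_lit 0x8000000016094d8000000000000000000000000000000000800000000c08c3c00000000000000000800000000aabc303000000000000000000000000000000008000000015b750c00000000000000000000000000000000000000000000000000000000000000000800000001aaa4ec18000000018084d80800000000e07c4808000000013075100800000000dafcb8200000000000000000000000000000000000000000000000000000000000000000000000000000000800000000bb5c18100000000000000000000000000000000800000001b06cc40000000000000000000000000000000000000000006a7c1c000000000000000000000000009b4c88300000000000000000000000000000000000000000000000000000000000000000000000000000000000000000000000000000000000000008000000017b04a03000000000000000000000000000000000000000000000000000000000000000000000000000000000000000000000000000000000000000000000000000000000000000000000000000000000000000000000000000000000000000000000000000000000000000000000000089bc142800000000aabc0c200000000099c408180000000089bc0c40000000000000000000000000899c1c480000000099c4202800000000290c0040000000007a7c0830000000000000000000000000000000000000000000000000000000000000000000000000000000000000000089bc1c3000000000000000000000000000000000000000000000000000000000000000000000000000000000000000000000000000000000000000000000000000000000000000000000000000000000799c1c20000000000000000000000000000000000000000059b40810000000000000000000000000490c04100000000000000000000000000000000000000000390c04280000000019a40030000000000000000))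 (.leaf (nat_lit 0)))
noncomputable def l0t6 : Bt Nat := (.node (.leaf (nat_lit 0x450c100000000000450c00000000000045082000000000004d000000000000004cfc3000000000003ce02000000000003cdc3000000000003cdc20000000000044d80000000000004cd42000000000004cc81000000000004cc820000000000044c430000000000044c410000000000044c02000000000003cbc10000000000044b41000000000003cb03000000000003cac3000000000003ca82000000000003c983000000000003c900000000000004488100000000000448430000000000044840000000000003c801000000000003cf0100000000000347010000000000034700000000000003c7c1000000000003ce0100000000000346820000000000034680000000000003ca020000000000044d01000000000003c641000000000003c6400000000000044602000000000003c5c3000000000003c5c20000000000034543000000000002c482000000000003c443000000000003440300000000000343c30000000000034382000000000003ca010000000000034301000000000003c982000000000003430000000000000348c100000000000348c3000000000002c2c1000000000003c802000000000003c80000000000000345020000000000034782000000000002c2c20000000000034704000000000002c283000000000002c284000000000002c2820000000000034242000000000003c5c000000000000342400000000000034540000000000002c200000000000002c4c400000000000241c300000000000241c00000000000034401000000000002c181000000000002c180000000000002c3410000000000024141000000000002c2c400000000000241420000000000024140000000000002c10200000000000241c4000000000001c0830000000000024144000000000001c08200000000000240c0000000000001c0840000000000014040000000000000c0040000000000000000))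 (.leaf (nat_lit 0)))


noncomputable def l0r0 : Bt Ru := (.node (.node (.node (.leaf ⟨[0,0,0],4,0⟩) (.leaf ⟨[2,2,2,1,1,3,3,3,3,1,3,1,2,2],12,2⟩)) (.node (.leaf ⟨[1],8,0⟩) (.leaf ⟨[1],8,0⟩))) (.node (.node (.leaf ⟨[0,4,0,4,1,4],6,1⟩) (.leaf ⟨[1],8,0⟩)) (.node (.leaf ⟨[2,0,3,1,1,2,1,3,0],10,1⟩) (.leaf ⟨[1],8,0⟩))))
noncomputable def l0r1 : Bt Ru := (.node (.node (.leaf ⟨[0],0,0⟩) (.leaf ⟨[3,1,2,2,0,2,2,2,1,1,3,3,3,3],12,12⟩)) (.node (.leaf ⟨[1,1,1],9,0⟩) (.leaf ⟨[1,2,2,2,2,0,3,3,3,3,0,0,2,2,2,2,1,3,3,3,3],14,20⟩)))
noncomputable def l0r2 : Bt Ru := (.node (.node (.node (.node (.leaf ⟨[4,2,4],1,3⟩) (.leaf ⟨[2,2,2,1,3,3,3,3,3,0,0,2,2,2,2,2,0,3,3,3,3,3,1,1,2],18,16⟩)) (.node (.leaf ⟨[0,2,2,2,1,1,3,3,3,3,1,3,1,2],12,1⟩) (.leaf ⟨[3],5,0⟩))) (.node (.node (.leaf ⟨[0,3,1,1,2,1,3,0,0],10,2⟩) (.leaf ⟨[3],5,0⟩)) (.node (.leaf ⟨[2,1,3,3,0,0,2,2,0,3,3,1,1],13,9⟩) (.leaf ⟨[3],5,0⟩)))) (.node (.node (.node (.leaf ⟨[3],5,0⟩) (.leaf ⟨[2,2,2,0,3,3,3,3,1,1,2,2,2,2,1,3,3,3,3,0,0],16,2⟩)) (.node (.leaf ⟨[2,0,3,3,1,1,2,2,1,3,3,0,0],13,2⟩) (.leaf ⟨[3],5,0⟩))) (.node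 (.node (.leaf ⟨[2,2,2,2,2,2],11,0⟩) (.leaf ⟨[3],5,0⟩)) (.node (.leaf ⟨[1,3,0,0,2,0,3,1,1],10,7⟩) (.leaf ⟨[3],5,0⟩)))))
noncomputable def l0r3 : Bt Ru := (.node (.node (.node (.leaf ⟨[2],2,0⟩) (.leaf ⟨[1,3,1,2,2,0,2,2,2,1,1,3,3,3],12,11⟩)) (.node (.leaf ⟨[0,0,2,0,3,1,1,2,1],10,9⟩) (.leaf ⟨[2],2,0⟩))) (.node (.node (.leaf ⟨[4,3,4],7,0⟩) (.leaf ⟨[2],2,0⟩)) (.node (.leaf ⟨[3,3,3,3,3,3],15,0⟩) (.leaf ⟨[2],2,0⟩))))
noncomputable def l0r4 : Bt Ru := (.node (.leaf ⟨[4],3,0⟩) (.leaf ⟨[2,4,2],1,0⟩))
noncomputable def l0r5 : Bt Ru := (.node (.node (.node (.leaf ⟨[0,0,2,0,3,1,1,2,1,3],10,0⟩) (.leaf ⟨[0,3,3,3,3,3,1,1,2,2,2,2,2,1,3,3,3,3,3,0,0,2,2,2,2,2],18,7⟩)) (.node (.leaf ⟨[3,3,3,0,0,2,2,2,0,3,3,3,1,1,2,2,2,1],17,15⟩) (.leaf ⟨[0,1],8,0⟩))) (.node (.node (.leaf ⟨[3,0,0,2,2,2,2,0,3,3,3,3,1,1,2,2,2,2,1,3,3,3],16,21⟩) (.leaf ⟨[1,3,0,0,2,0,3,1,1,2],10,8⟩)) (.node (.leaf ⟨[2,2,2,2,2,2,2],11,0⟩) (.leaf ⟨[0,1],8,0⟩))))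
noncomputable def l0T : List (Bt Nat) := [l0t0, l0t1, l0t2, l0t3, l0t4, l0t5, l0t6]
noncomputable def l0R : List (Bt Ru) := [l0r0, l0r1, l0r2, l0r3, l0r4, l0r5]
noncomputable def l0c (a lo cnt : Nat) : Nat := chk (gT l0T (nat_lit 14)) (rT l0R) (nat_lit 14) (nat_lit 0x7fc0) (nat_lit 0x4000) (nat_lit 0x3fc0) (nat_lit 5) (nat_lit 15) (nat_lit 511) (nat_lit 0x8000000000ffffff) (nat_lit 12) (nat_lit 22) (nat_lit 15) (nat_lit 0x4000) a (nfOf [] 0 a) lo cnt
noncomputable def l0f (a : Nat) : Nat := l0c a 0 1
noncomputable def l0m (lo cnt : Nat) : Nat := chkM (gT l0T (nat_lit 14)) (nat_lit 14) (nat_lit 0x7fc0) (nat_lit 0x4000) (nat_lit 0x3fc0) (nat_lit 5) lo cnt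


theorem c0 : orR l0f 0 6 = 0 := by decide +kernel


open Cfsg.Agent.CG

/-- The relators used. -/
noncomputable def R : List (List ℕ) := [[1,0],
  [4,2,4,2],
  [3,2],
  [4,4],
  [0,0,0,0],
  [2,3],
  [4,0,0,4,0,4,1],
  [3,4,3,4],
  [0,1],
  [1,1,1,1],
  [0,0,2,0,3,1,1,2,1,3],
  [2,2,2,2,2,2,2],
  [2,2,0,2,2,2,1,1,3,3,3,3,1,3,1],
  [0,0,2,2,0,3,3,1,1,2,2,1,3,3],
  [2,2,2,2,0,3,3,3,3,0,0,2,2,2,2,1,3,3,3,3,1,1],
  [3,3,3,3,3,3,3],
  [0,0,2,2,2,2,0,3,3,3,3,1,1,2,2,2,2,1,3,3,3,3],
  [0,0,2,2,2,0,3,3,3,1,1,2,2,2,1,3,3,3],
  [0,0,2,2,2,2,2,0,3,3,3,3,3,1,1,2,2,2,2,2,1,3,3,3,3,3]]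

noncomputable def invL : List ℕ := [1,0,3,2,4]

/-- How the relators used follow from the given ones. -/
noncomputable def hints : List (ℕ × Bool × List ℕ) := [(14,false,[]),
  (4,false,[]),
  (14,false,[]),
  (14,false,[]),
  (5,false,[]),
  (14,false,[]),
  (6,false,[]),
  (4,true,[]),
  (14,false,[]),
  (5,true,[]),
  (7,false,[]),
  (3,false,[]),
  (13,true,[]),
  (8,false,[]),
  (10,true,[]),
  (3,true,[]),
  (10,false,[]),
  (9,false,[]),
  (11,false,[])]

theorem l0all : ∀ a, a < 6 → l0f a = 0 :=
  allz_of_orR c0
theorem l0ru : allLt (rusChk R (nat_lit 5) l0R) 6 = true := by decide +kernel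
noncomputable def l0W : List (List ℕ) := [[4]]
theorem l0_ok : Mem R [0,1,2,3] l0W :=
  mem_of_chk (q := 8) (d := 1) (s2 := 24) (full := 1) (f := l0f) (by decide +kernel) (by decide +kernel) (fun _ => rfl) l0all l0ru (by decide +kernel) (by decide +kernel)


theorem imp : Imp (Rec.szRel 2 5) R :=
  imp_of_ders (n := 5) (inv := invOf invL) (hs := hints) (by decide +kernel) (invOf_ge' rfl)
    (by decide +kernel) (by decide +kernel) (by decide +kernel)
theorem bad : Mem (Rec.szRel 2 5) [0,1,2,3] [[4]] := Rec.mem_of_imp imp l0_ok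

end Cfsg.Agent.TCX.Sz25

namespace Cfsg.Agent.TCX.Sz26

noncomputable def l0t0 : Bt Nat := (.node (.leaf (nat_lit 0x1600cb80800000001600cb40000000000000000000000000000000000000000000000000000000001505c1c0000000000000000000000000000000000000000000000000000000000000000000000000000000000000000000000000000000000000000000000000000000000000000000000000000000000000000000000000000000000000000000000000800000001502c300000000000000000000000000000000000000000000000000800000001505c580800000001502c38080000000120642c000000000000000000000000000000000000000000000000000000000000000008000000013934580800000001600c400800000001600c3c000000000000000000000000000000000000000000000000000000000000000000000000000000000000000001600c24000000000000000000000000000000000000000000f02ca000000000014054040000000001600c100000000001304c0c0000000001600c0808000000016014000)) (.leaf (nat_lit 0)))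
noncomputable def l0t1 : Bt Nat := (.node (.leaf (nat_lit 0x800000001005414000000000000000000000000000000000800000001600c980800000001600c940000000000000000000000000000000000000000000000000800000001600c880000000000000000000000000000000000000000000000000000000000000000000000000000000000000000000000000000000000000000000000000000000000000000000000000000000001600c5c000000000000000000000000000000000000000000000000000000000000000000000000000000000800000001501c3c0800000001501c380800000001600c5800000000000000000800000001600c6c0800000001101c5400000000000000000000000001504c2000000000000000000000000001600ca00000000001600c1c0800000001600c1800000000000000000000000001204c0800000000000000000000000001304c100800000001501c000)) (.leaf (nat_lit 0)))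
noncomputable def l0t2 : Bt Nat := (.node (.leaf (nat_lit 0xd074a00000000001600cc40000000001600cc00000000001600cbc000000000000000000000000000000000000000000000000000000000000000000000000000000000000000000e06c200800000001502c980800000001102cb0000000000000000000000000000000000800000001600c900800000001600c8c00000000015024080800000001600c840800000001600c800800000001600c7c0800000001600c780800000001600c740800000001202c9c0000000001505c640800000001505c600000000001502c5c0000000000000000000000000000000008000000010944600800000001600c540800000001600c500800000001600c4c0800000001600c480800000001600c440000000000000000000000000000000000000000000000000800000001502c2c0000000001502c100000000000000000000000000120640c0000000001505c1c0000000000c054b800000000000000000800000001600c280800000001600c1400000000000000000800000001600c700000000001404c0408000000016014000)) (.leaf (nat_lit 0)))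
noncomputable def l0t3 : Bt Nat := (.node (.leaf (nat_lit 0x1504cbc0000000001504cb80000000000b04c1c000000000000000008000000012024980800000001600cb00800000001600cac0800000001600ca800000000000000000800000001305c6c0800000001600c9c00000000000000000000000000000000000000000000000000000000000000000800000001501c80000000000000000000000000000000000000000000000000000000000000000000000000000000000800000001600ca400000000000000000000000001600c680000000001600c640800000001600c60000000000000000000000000000000000800000001501c4c0800000001501c480800000001501c440800000001501c400800000001393460000000000000000008000000014054280800000001600c380800000001600c340800000001600c300800000001501c1400000000000000000000000000d04ca00000000001600c2000000000000000000000000001501c100800000001600c2c0000000001104c240800000001404c840000000001304c0400000000000000000)) (.leaf (nat_lit 0)))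
noncomputable def l0t4 : Bt Nat := (.node (.leaf (nat_lit 0x110541000000000000000000000000001600c0c0800000001504c000000000001600c040)) (.leaf (nat_lit 0)))
noncomputable def l0t5 : Bt Nat := (.node (.leaf (nat_lit 0x99fcb82000000000a05c1c000000000099fc20300000000079f4203000000000000000000000000000000000000000000000000000000000000000000000000000000000000000008a0420200000000000000000000000000000000000000000000000000000000000000000000000000000000000000000000000000000000000000000000000000000000000000000000000000000000000000000000000000000000000000000000000000000000000000008000000012054500800000001194c5420000000000000000800000001404c400000000000000000000000000000000000000000000000000000000000000000000000000000000000000000000000000000000000000000000000000000000000000000000000000000000000000000000000000000000000000000000000000000000000000000000000000079bc1c000000000069bc1c200000000058c40c20000000000000000000000000000000000000000048bc0c000000000038b4081000000000289c040800000000189c0040000000000000000)) (.leaf (nat_lit 0)))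
noncomputable def l0t6 : Bt Nat := (.node (.leaf (nat_lit 0x84c02000000000007cbc20000000000074b82000000000006cb400000000000064b00000000000005cac30000000000054a83000000000004ca4300000000000446c300000000000441c1000000000006c9830000000000064941000000000005c90100000000000548c2000000000004c88200000000000448010000000000044802000000000003c7c20000000000034782000000000002c7420000000000024702000000000001c082000000000003c301000000000006c6430000000000064603000000000005c5c30000000000054581000000000004c381000000000007c50200000000000744c2000000000006c4820000000000064442000000000005c40200000000000543c0000000000004c3800000000000044343000000000003c30300000000000342c3000000000002c1030000000000034142000000000004c20000000000000441c3000000000003c1810000000000034141000000000002c10200000000000240c0000000000001c0840000000000014040000000000000c0040000000000000000)) (.leaf (nat_lit 0)))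


noncomputable def l0r0 : Bt Ru := (.node (.node (.leaf ⟨[0,0,0],4,0⟩) (.leaf ⟨[1],6,0⟩)) (.node (.leaf ⟨[0,4,0,4,1,4],5,1⟩) (.leaf ⟨[2,2,2,2,2,0,0,3,3,3,3,1,3,3,0,2],11,2⟩)))
noncomputable def l0r1 : Bt Ru := (.node (.leaf ⟨[0],0,0⟩) (.leaf ⟨[1,2,1,3,0,0,2,0,3],9,5⟩))
noncomputable def l0r2 : Bt Ru := (.node (.node (.node (.leaf ⟨[4,2,4],1,3⟩) (.leaf ⟨[0,3,3,0,0,2,2,1,3,3,1,1,2],14,1⟩)) (.node (.leaf ⟨[3],8,0⟩) (.leaf ⟨[3],8,0⟩))) (.node (.node (.leaf ⟨[2,2,2,2,2,2],7,0⟩) (.leaf ⟨[2,2,2,0,0,3,3,3,3,1,3,3,0,2,0,2],11,4⟩)) (.node (.leaf ⟨[0,3,1,1,2,1,3,0,0],9,2⟩) (.leaf ⟨[3],8,0⟩))))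
noncomputable def l0r3 : Bt Ru := (.node (.node (.leaf ⟨[2],2,0⟩) (.leaf ⟨[3,1,1,2,2,1,3,3,0,0,2,2,0],13,5⟩)) (.node (.leaf ⟨[3,3,3,3,3,3],10,0⟩) (.leaf ⟨[2],2,0⟩)))
noncomputable def l0r4 : Bt Ru := (.node (.leaf ⟨[4],3,0⟩) (.leaf ⟨[0,4,1,4,0,0],5,3⟩))
noncomputable def l0r5 : Bt Ru := (.node (.node (.leaf ⟨[1,1,1,1],12,0⟩) (.leaf ⟨[2,2,2,0,3,3,3,0,0,2,2,2,1,3,3,3,1,1],15,0⟩)) (.node (.leaf ⟨[3,3,3,3,3,3,3],10,0⟩) (.leaf ⟨[0,1],6,0⟩)))
noncomputable def l0T : List (Bt Nat) := [l0t0, l0t1, l0t2, l0t3, l0t4, l0t5, l0t6]
noncomputable def l0R : List (Bt Ru) := [l0r0, l0r1, l0r2, l0r3, l0r4, l0r5]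
noncomputable def l0c (a lo cnt : Nat) : Nat := chk (gT l0T (nat_lit 14)) (rT l0R) (nat_lit 14) (nat_lit 0x7fc0) (nat_lit 0x4000) (nat_lit 0x3fc0) (nat_lit 5) (nat_lit 15) (nat_lit 511) (nat_lit 0x8000000000ffffff) (nat_lit 8) (nat_lit 14) (nat_lit 15) (nat_lit 0x4000) a (nfOf [] 0 a) lo cnt
noncomputable def l0f (a : Nat) : Nat := l0c a 0 1
noncomputable def l0m (lo cnt : Nat) : Nat := chkM (gT l0T (nat_lit 14)) (nat_lit 14) (nat_lit 0x7fc0) (nat_lit 0x4000) (nat_lit 0x3fc0) (nat_lit 5) lo cnt


theorem c0 : orR l0f 0 6 = 0 := by decide +kernel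


open Cfsg.Agent.CG

/-- The relators used. -/
noncomputable def R : List (List ℕ) := [[1,0],
  [4,2,4,2],
  [3,2],
  [4,4],
  [0,0,0,0],
  [4,0,0,4,0,4,1],
  [0,1],
  [2,2,2,2,2,2,2],
  [2,3],
  [0,0,2,0,3,1,1,2,1,3],
  [3,3,3,3,3,3,3],
  [0,2,0,2,2,2,2,2,0,0,3,3,3,3,1,3,3],
  [1,1,1,1],
  [0,0,2,2,0,3,3,1,1,2,2,1,3,3],
  [2,2,0,3,3,0,0,2,2,1,3,3,1,1],
  [2,2,2,0,3,3,3,0,0,2,2,2,1,3,3,3,1,1]]

noncomputable def invL : List ℕ := [1,0,3,2,4]

/-- How the relators used follow from the given ones. -/
noncomputable def hints : List (ℕ × Bool × List ℕ) := [(14,false,[]),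
  (4,false,[]),
  (14,false,[]),
  (14,false,[]),
  (5,false,[]),
  (6,false,[]),
  (14,false,[]),
  (3,false,[]),
  (14,false,[]),
  (7,false,[]),
  (3,true,[]),
  (13,false,[]),
  (5,true,[]),
  (8,false,[]),
  (8,true,[]),
  (9,true,[])]

theorem l0all : ∀ a, a < 6 → l0f a = 0 :=
  allz_of_orR c0
theorem l0ru : allLt (rusChk R (nat_lit 5) l0R) 6 = true := by decide +kernel
noncomputable def l0W : List (List ℕ) := [[4]]
theorem l0_ok : Mem R [0,1,2,3] l0W :=
  mem_of_chk (q := 8) (d := 1) (s2 := 24) (full := 1) (f := l0f) (by decide +kernel) (by decide +kernel) (fun _ => rfl) l0all l0ru (by decide +kernel) (by decide +kernel)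


theorem imp : Imp (Rec.szRel 2 6) R :=
  imp_of_ders (n := 5) (inv := invOf invL) (hs := hints) (by decide +kernel) (invOf_ge' rfl)
    (by decide +kernel) (by decide +kernel) (by decide +kernel)
theorem bad : Mem (Rec.szRel 2 6) [0,1,2,3] [[4]] := Rec.mem_of_imp imp l0_ok

end Cfsg.Agent.TCX.Sz26

namespace Cfsg.Agent.TCX.Sz27

noncomputable def l0t0 : Bt Nat := (.node (.leaf (nat_lit 0xe054240000000000e04c2c000000000000000000000000000000000000000000000000000000000000000000000000010044040000000001200c100000000000f03c0c0000000001200c0808000000012014000)) (.leaf (nat_lit 0)))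
noncomputable def l0t1 : Bt Nat := (.node (.leaf (nat_lit 0xf04c2400000000000000000000000000000000000000000000000008000000007044180000000000000000000000000000000000000000000000000000000000e03c080000000001103c040000000000f03c100800000001101c000)) (.leaf (nat_lit 0)))
noncomputable def l0t2 : Bt Nat := (.node (.leaf (nat_lit 0x800000001104414000000000000000000000000011044100000000000903c2c000000000110240c0800000000804c1c00000000011024080800000001200c280000000001200c200800000001200c180000000001003c0408000000012014000)) (.leaf (nat_lit 0)))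
noncomputable def l0t3 : Bt Nat := (.node (.leaf (nat_lit 0x803c2000000000000000000000000000000000000000000000000000000000000000000000000001101c080000000001200c2c0000000001200c240800000001200c1c0800000001200c140000000000f03c0400000000000000000)) (.leaf (nat_lit 0)))
noncomputable def l0t4 : Bt Nat := (.node (.leaf (nat_lit 0xa0542c0000000000c04c240800000000b03c280800000001004c14000000000000000000000000000000000000000000f01c200000000000d044100000000001103c080000000001200c0c0800000001103c000000000001200c040)) (.leaf (nat_lit 0)))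
noncomputable def l0t5 : Bt Nat := (.node (.leaf (nat_lit 0x58a41000000000000000000000000000603c0c000000000058a410200000000000000000000000000000000000000000000000000000000048b40c300000000038b4084000000000287c040800000000187c0040000000000000000)) (.leaf (nat_lit 0)))
noncomputable def l0t6 : Bt Nat := (.node (.leaf (nat_lit 0x24143000000000002c102000000000002c10300000000000240c200000000000240c3000000000001c082000000000001c08300000000000240c0000000000001c0840000000000014040000000000000c0040000000000000000)) (.leaf (nat_lit 0)))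


noncomputable def l0r0 : Bt Ru := (.node (.node (.leaf ⟨[0,0,0],4,0⟩) (.leaf ⟨[1],9,0⟩)) (.node (.leaf ⟨[0,4,0,4,1,4],5,1⟩) (.leaf ⟨[2,1,3,3,0,2],10,2⟩)))
noncomputable def l0r1 : Bt Ru := (.node (.node (.leaf ⟨[0],0,0⟩) (.leaf ⟨[3,3,0,2,0,2],10,4⟩)) (.node (.leaf ⟨[2,2,0,3,1,3],8,6⟩) (.leaf ⟨[0],0,0⟩)))
noncomputable def l0r2 : Bt Ru := (.node (.node (.leaf ⟨[4,2,4],1,3⟩) (.leaf ⟨[2,2,2,2,2,2],7,0⟩)) (.node (.leaf ⟨[3],6,0⟩) (.leaf ⟨[3],6,0⟩)))
noncomputable def l0r3 : Bt Ru := (.leaf ⟨[2],2,0⟩)
noncomputable def l0r4 : Bt Ru := (.node (.node (.leaf ⟨[4],3,0⟩) (.leaf ⟨[2,4,2],1,0⟩)) (.node (.leaf ⟨[0,4,1,4,0,0],5,3⟩) (.leaf ⟨[0,0,4,0,4,1],5,0⟩)))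
noncomputable def l0r5 : Bt Ru := (.leaf ⟨[1,2,2,0,3,1,3],8,6⟩)
noncomputable def l0T : List (Bt Nat) := [l0t0, l0t1, l0t2, l0t3, l0t4, l0t5, l0t6]
noncomputable def l0R : List (Bt Ru) := [l0r0, l0r1, l0r2, l0r3, l0r4, l0r5]
noncomputable def l0c (a lo cnt : Nat) : Nat := chk (gT l0T (nat_lit 14)) (rT l0R) (nat_lit 14) (nat_lit 0x7fc0) (nat_lit 0x4000) (nat_lit 0x3fc0) (nat_lit 5) (nat_lit 15) (nat_lit 511) (nat_lit 0x8000000000ffffff) (nat_lit 6) (nat_lit 10) (nat_lit 15) (nat_lit 0x4000) a (nfOf [] 0 a) lo cnt
noncomputable def l0f (a : Nat) : Nat := l0c a 0 1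
noncomputable def l0m (lo cnt : Nat) : Nat := chkM (gT l0T (nat_lit 14)) (nat_lit 14) (nat_lit 0x7fc0) (nat_lit 0x4000) (nat_lit 0x3fc0) (nat_lit 5) lo cnt


theorem c0 : orR l0f 0 6 = 0 := by decide +kernel


open Cfsg.Agent.CG

/-- The relators used. -/
noncomputable def R : List (List ℕ) := [[1,0],
  [4,2,4,2],
  [3,2],
  [4,4],
  [0,0,0,0],
  [4,0,0,4,0,4,1],
  [2,3],
  [2,2,2,2,2,2,2],
  [2,2,0,3,1,3,1],
  [0,1],
  [0,2,0,2,1,3,3]]

noncomputable def invL : List ℕ := [1,0,3,2,4]

/-- How the relators used follow from the given ones. -/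
noncomputable def hints : List (ℕ × Bool × List ℕ) := [(14,false,[]),
  (4,false,[]),
  (14,false,[]),
  (14,false,[]),
  (5,false,[]),
  (6,false,[]),
  (14,false,[]),
  (3,false,[]),
  (13,true,[]),
  (14,false,[]),
  (13,false,[])]

theorem l0all : ∀ a, a < 6 → l0f a = 0 :=
  allz_of_orR c0
theorem l0ru : allLt (rusChk R (nat_lit 5) l0R) 6 = true := by decide +kernel
noncomputable def l0W : List (List ℕ) := [[4]]
theorem l0_ok : Mem R [0,1,2,3] l0W :=
  mem_of_chk (q := 8) (d := 1) (s2 := 24) (full := 1) (f := l0f) (by decide +kernel) (by decide +kernel) (fun _ => rfl) l0all l0ru (by decide +kernel) (by decide +kernel)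


theorem imp : Imp (Rec.szRel 2 7) R :=
  imp_of_ders (n := 5) (inv := invOf invL) (hs := hints) (by decide +kernel) (invOf_ge' rfl)
    (by decide +kernel) (by decide +kernel) (by decide +kernel)
theorem bad : Mem (Rec.szRel 2 7) [0,1,2,3] [[4]] := Rec.mem_of_imp imp l0_ok

end Cfsg.Agent.TCX.Sz27

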