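import Cfsg.Agent.Lib.Rec.C64
import Cfsg.Agent.Lib.Rec.SzTA
import Cfsg.Agent.Lib.Rec.SzTB
import Cfsg.Agent.Lib.Rec.SzTC

/-! Generators and relations in a simple group of order 29120. -/

set_option autoImplicit false
set_option linter.unusedSectionVars false
open Finset Classical

namespace Cfsg.Agent.J3T.C64
noncomputable section
variable {G : Type*} [Group G] [Fintype G]

theorem sz_bad {j c : ℕ} (hj : j < 7) (hc : c < 8) (h : j = 3 ∨ j = 5 → c ≠ 3) :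
    TCX.Mem (Rec.szRel j c) [0, 1, 2, 3] [[4]] := by
  interval_cases j <;> interval_cases c
  · exact TCX.Sz00.bad
  · exact TCX.Sz01.bad
  · exact TCX.Sz02.bad
  · exact TCX.Sz03.bad
  · exact TCX.Sz04.bad
  · exact TCX.Sz05.bad
  · exact TCX.Sz06.bad
  · exact TCX.Sz07.bad
  · exact TCX.Sz10.bad
  · exact TCX.Sz11.bad
  · exact TCX.Sz12.bad
  · exact TCX.Sz13.bad
  · exact TCX.Sz14.bad
  · exact TCX.Sz15.bad
  · exact TCX.Sz16.bad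
  · exact TCX.Sz17.bad
  · exact TCX.Sz20.bad
  · exact TCX.Sz21.bad
  · exact TCX.Sz22.bad
  · exact TCX.Sz23.bad
  · exact TCX.Sz24.bad
  · exact TCX.Sz25.bad
  · exact TCX.Sz26.bad
  · exact TCX.Sz27.bad
  · exact TCX.Sz30.bad
  · exact TCX.Sz31.bad
  · exact TCX.Sz32.bad
  · exact absurd rfl (h (by simp))
  · exact TCX.Sz34.bad
  · exact TCX.Sz35.bad
  · exact TCX.Sz36.bad
  · exact TCX.Sz37.bad
  · exact TCX.Sz40.bad
  · exact TCX.Sz41.bad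
  · exact TCX.Sz42.bad
  · exact TCX.Sz43.bad
  · exact TCX.Sz44.bad
  · exact TCX.Sz45.bad
  · exact TCX.Sz46.bad
  · exact TCX.Sz47.bad
  · exact TCX.Sz50.bad
  · exact TCX.Sz51.bad
  · exact TCX.Sz52.bad
  · exact absurd rfl (h (by simp))
  · exact TCX.Sz54.bad
  · exact TCX.Sz55.bad
  · exact TCX.Sz56.bad
  · exact TCX.Sz57.bad
  · exact TCX.Sz60.bad
  · exact TCX.Sz61.bad
  · exact TCX.Sz62.bad
  · exact TCX.Sz63.bad
  · exact TCX.Sz64.bad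
  · exact TCX.Sz65.bad
  · exact TCX.Sz66.bad
  · exact TCX.Sz67.bad

theorem eq_top_of_inv [IsSimpleGroup G] {M : Subgroup G} {t : G} (ht : t ∈ Inv G)
    (h : ∀ s ∈ Inv G, s ∈ M) : M = ⊤ := by
  have h1 : Subgroup.normalClosure (Inv G : Set G) ≤ M := (Subgroup.closure_le _).2 fun x hx => by
    obtain ⟨a, ha, hx⟩ := Group.mem_conjugatesOfSet_iff.1 hx
    obtain ⟨g, rfl⟩ := isConj_iff.1 hx
    exact h _ (Inv.conj ha g)
  rcases IsSimpleGroup.eq_bot_or_eq_top_of_normal (Subgroup.normalClosure (Inv G : Set G))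
    inferInstance with e | e
  · exact absurd (Subgroup.mem_bot.1 (e ▸ Subgroup.subset_normalClosure ht)) (mem_Inv.1 ht).2
  · exact top_le_iff.1 (e ▸ h1)

namespace H64
variable (H : H64 G 455 8) {s t g k w x : G}
include H

theorem sz_q (ht : t ∈ Inv G) : Nat.card (Zc t) = 8 := by
  obtain ⟨h1, h2, -⟩ := H.card_Zc ht
  generalize Nat.card (Zc t) = a at *
  fin_cases h1 <;> simp_all

theorem sz_split (ht : t ∈ Inv G) (hg : g ∈ Cz t) : g ∈ Zc t ∨ g ∈ Sq t := by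
  have h1 := eq_of_subset_of_card_le (s := fs (Zc t) ∪ Sq t) (t := fs (Cz t))
    (fun x hx => mem_fs.2 ((mem_union.1 hx).elim (fun h => Zc_le t (mem_fs.1 h))
      fun h => H.mem_Cz_of_sq ht (mem_Sq.1 h).1 (mem_Sq.1 h).2)) (by
    rw [card_union_of_disjoint (disjoint_left.2 fun x hx hx' =>
      (mem_Sq.1 hx').2 (H.sq_Zc ht (mem_fs.1 hx))), card_fs, card_fs, H.card_Sq ht, H.sz_q ht,
      H.c2 t ht])
  have h2 := mem_fs.2 hg
  rwa [← h1, mem_union, mem_fs] at h2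

theorem sz_ti (ht : t ∈ Inv G) (hs : s ∈ Inv G) (h : s ∈ Cz t) : Cz s = Cz t :=
  (H.sz_split ht h).elim (fun e => (H.of_mem_Zc ht e (mem_Inv.1 hs).2).2)
    fun e => absurd (mem_Inv.1 hs).1 (mem_Sq.1 e).2

theorem sz_pow (ht : t ∈ Inv G) (hg : g ∈ Cz t) : g ^ 4 = 1 := by
  rcases H.two_elt ht hg with e | e | e
  · rw [e, one_pow]
  · rw [show g ^ 4 = (g ^ 2) ^ 2 by group, pow_two g, (mem_Inv.1 e).1, one_pow]
  · rw [← e, pow_orderOf_eq_one]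

theorem sz_cls (ht : t ∈ Inv G) (hw : w ∈ Inv G) (h : w ∉ Cz t) (hs : s ∈ Inv G) (h' : s ∉ Zc t) :
    ∃ b ∈ Nz t, b * w * b⁻¹ = s := by
  have h1 : Nz t ⊓ Cz w = ⊥ := eq_bot_iff.2 fun g hg => by
    have h2 := H.mem_of_Nz ht hg.1 (H.sz_pow hw hg.2)
    have h3 : ∀ s ∈ Inv G, s ∈ Cz t → s ∉ Cz w := fun s h1 h2 h3 =>
      h ((H.sz_ti hw h1 h3).symm.trans (H.sz_ti ht h1 h2) ▸ self_mem_Cz w)
    rcases H.two_elt ht h2 with e | e | e
    · exact e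
    · exact absurd hg.2 (h3 g e h2)
    · exact absurd (mul_mem hg.2 hg.2) (h3 _ (order_four.1 e) (mul_mem h2 h2))
  have h2 := orbit_card (Nz t) w
  rw [h1, Subgroup.card_bot, H.card_Nz ht, H.sz_q ht] at h2
  have h3 := eq_of_subset_of_card_le (s := cls (Nz t) {w}) (t := Inv G \ (fs (Zc t)).erase 1)
    (fun y hy => by
      obtain ⟨b, hb, rfl⟩ := mem_cls1.1 hy
      refine mem_sdiff.2 ⟨Inv.conj hw b, fun e => h (Zc_le t ?_)⟩
      simpa [mul_assoc] using conj_mem_Zc (inv_mem hb) (mem_fs.1 (mem_erase.1 e).2)) (by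
    rw [card_sdiff_of_subset fun x hx =>
      (H.of_mem_Zc ht (mem_fs.1 (mem_erase.1 hx).2) (mem_erase.1 hx).1).1, H.inv,
      card_erase_of_mem (mem_fs.2 (one_mem _)), card_fs, H.sz_q ht]
    omega)
  exact mem_cls1.1 (h3 ▸ mem_sdiff.2 ⟨hs, fun e => h' (mem_fs.1 (mem_erase.1 e).2)⟩)

theorem sz_Z (ht : t ∈ Inv G) (hk : k ∈ Nz t) (h7 : orderOf k = 7) (hs : s ∈ Zc t) (h1 : s ≠ 1) :
    ∃ i < 7, k ^ i * t * (k ^ i)⁻¹ = s := by
  have h2 : Subgroup.zpowers k ⊓ Cz t = ⊥ := eq_bot_iff.2 fun g hg =>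
    H.eq_one_of_odd ht hg.2 (odd_order_of_mem (by rw [Nat.card_zpowers, h7]; decide) hg.1)
  have h3 := orbit_card (Subgroup.zpowers k) t
  rw [h2, Subgroup.card_bot, Nat.card_zpowers, h7] at h3
  have h4 := eq_of_subset_of_card_le (s := cls (Subgroup.zpowers k) {t}) (t := (fs (Zc t)).erase 1)
    (fun y hy => by
      obtain ⟨b, hb, rfl⟩ := mem_cls1.1 hy
      exact H.cls_Nz ht ▸ mem_cls1.2 ⟨b, Subgroup.zpowers_le.2 hk hb, rfl⟩) (by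
    rw [card_erase_of_mem (mem_fs.2 (one_mem _)), card_fs, H.sz_q ht]
    omega)
  obtain ⟨b, hb, rfl⟩ := mem_cls1.1 (h4 ▸ mem_erase.2 ⟨h1, mem_fs.2 hs⟩)
  obtain ⟨i, hi, rfl⟩ := exists_pow_of_mem_zpowers hb
  exact ⟨i, h7 ▸ hi, rfl⟩

theorem sz_N (ht : t ∈ Inv G) (hk : k ∈ Nz t) (h7 : orderOf k = 7) (hg : g ∈ Nz t) :
    ∃ i : ℕ, ∃ p ∈ Cz t, g = k ^ i * p := by
  obtain ⟨i, -, hi⟩ := H.sz_Z ht hk h7 (conj_mem_Zc hg (self_mem_Zc t)) (mem_Inv.1 (Inv.conj ht g)).2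
  refine ⟨i, (k ^ i)⁻¹ * g, mem_Cz'.2 ?_, by group⟩
  rw [show (k ^ i)⁻¹ * g * t * ((k ^ i)⁻¹ * g)⁻¹ = (k ^ i)⁻¹ * (g * t * g⁻¹) * k ^ i by group, ← hi]
  group

theorem sz_P (ht : x * x ∈ Inv G) (hk : k ∈ Nz (x * x)) (h7 : orderOf k = 7) (hg : g ∈ Cz (x * x))
    (h : g ∉ Zc (x * x)) : ∃ j < 7, ∃ c ∈ Zc (x * x), g = k ^ j * x * (k ^ j)⁻¹ * c := by
  obtain ⟨h1, h2⟩ := mem_Sq.1 ((H.sz_split ht hg).resolve_left h)
  obtain ⟨j, hj, e⟩ := H.sz_Z ht hk h7 h1 h2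
  have hx : k ^ j * x * (k ^ j)⁻¹ ∈ Cz (x * x) :=
    mem_Nz.1 (pow_mem hk j) x (mem_Cz.2 (mul_assoc _ _ _).symm)
  have h3 := eq_of_subset_of_card_le (s := (fs (Zc (x * x))).image (k ^ j * x * (k ^ j)⁻¹ * ·))
    (t := rts (g * g)) (fun y hy => by
      obtain ⟨c, hc, rfl⟩ := mem_image.1 hy
      rw [mem_rts, ← e, mul_assoc _ c, ← mul_assoc c, ← mem_Zc.1 (mem_fs.1 hc) _ hx, mul_assoc _ c c,
        H.sq_Zc ht (mem_fs.1 hc)]
      group) (by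
    rw [card_image_of_injective _ (mul_right_injective _), card_fs, H.sz_q ht,
      H.rt (H.of_mem_Zc ht h1 h2).1])
  obtain ⟨c, hc, e⟩ := mem_image.1 (h3 ▸ mem_rts.2 rfl)
  exact ⟨j, hj, c, mem_fs.1 hc, e.symm⟩

theorem sz_w [IsSimpleGroup G] (ho : ∀ x : G, x ≠ 1 → orderOf x ∈ ({2, 4, 5, 7, 13} : Finset ℕ))
    (h7 : orderOf k = 7) (hc : Nat.card (Cz k) = 7) : ∃ w ∈ Inv G, w * k * w = k⁻¹ := by
  haveI : Fact (Nat.Prime 7) := ⟨by norm_num⟩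
  have h0 : Subgroup.zpowers k = Cz k := Subgroup.eq_of_le_of_card_ge
    (Subgroup.zpowers_le.2 (self_mem_Cz k)) (by rw [hc, Nat.card_zpowers, h7])
  have hk7 : k ^ 7 = 1 := h7 ▸ pow_orderOf_eq_one k
  obtain ⟨n, h1, h2⟩ : ∃ n, n * k * n⁻¹ ∈ Subgroup.zpowers k ∧ n ∉ Cz k := by
    by_contra h
    push Not at h
    obtain ⟨Q, -, h1, -, h2⟩ := burnside (p := 7) (C := ⊤) (T := Subgroup.zpowers k) le_top
      (IsPGroup.of_card (n := 1) (by rw [Nat.card_zpowers, h7]; rfl))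
      (fun a ha b hb => by
        obtain ⟨i, rfl⟩ := ha
        obtain ⟨j, rfl⟩ := hb
        exact zpow_mul_comm _ _ _)
      fun n _ hn => h0 ▸ h n (hn k (Subgroup.mem_zpowers k))
    rw [Nat.card_zpowers, h7, Subgroup.card_top, H.card] at h2
    rcases IsSimpleGroup.eq_bot_or_eq_top_of_normal Q ⟨fun q hq c => h1 c trivial q hq⟩ with e | e
    · rw [e, Subgroup.card_bot] at h2; omega
    · rw [e, Subgroup.card_top, H.card] at h2; omega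
  obtain ⟨i, hi, e⟩ := exists_pow_of_mem_zpowers h1
  have h3 : ∀ l : ℕ, n ^ l * k * (n ^ l)⁻¹ = k ^ i ^ l := fun l => by
    induction l with
    | zero => simp
    | succ l ih =>
      rw [show n ^ (l + 1) * k * (n ^ (l + 1))⁻¹ = n * (n ^ l * k * (n ^ l)⁻¹) * n⁻¹ by group, ih,
        ← conj_pow, ← e, ← pow_mul, pow_succ']
  have h4 := h3 (orderOf n)
  rw [pow_orderOf_eq_one, one_mul, inv_one, mul_one, eq_comm, ← pow_one k, ← pow_mul, one_mul,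
    pow_eq_pow_iff_modEq, h7] at h4
  have h5 : i ≠ 1 := fun e' => h2 (mem_Cz'.2 (by rw [← e, e', pow_one]))
  have h6 := ho n fun e' => h2 (e' ▸ one_mem _)
  have h8 : i = 6 ∧ (orderOf n = 2 ∨ orderOf n = 4) := by
    rw [h7] at hi
    generalize orderOf n = a at *
    clear e h3 h1 h2
    revert h4 h5
    fin_cases h6 <;> interval_cases i <;> decide
  obtain ⟨rfl, h9 | h9⟩ := h8
  · refine ⟨n, Inv.of_order h9, ?_⟩
    rw [Inv.inv (Inv.of_order h9)] at e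
    rw [← e, eq_inv_iff_mul_eq_one, ← pow_succ, hk7]
  · refine absurd ?_ (not_mem_of_odd (D := Cz k) (by rw [hc]; decide) (order_four.1 h9))
    rw [mem_Cz', ← pow_two, h3, show 6 ^ 2 = 7 * 5 + 1 by norm_num, pow_succ, pow_mul, hk7, one_pow,
      one_mul]

theorem sz_x (ho : ∀ x : G, x ≠ 1 → orderOf x ∈ ({2, 4, 5, 7, 13} : Finset ℕ)) (ht : t ∈ Inv G)
    (hw : w ∈ Inv G) (h : w ∉ Cz t) (hx : x ∈ Cz t) (e : w * t * w = x * w * x⁻¹) : x * x = t := by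
  have t2 := (mem_Inv.1 ht).1
  have h1 : x * (t * w) * x⁻¹ = (t * w) ^ 2 := by
    rw [← mul_assoc, mem_Cz.1 hx, mul_assoc t, mul_assoc t, ← e, pow_two]; group
  have h2 : x * x * (t * w) * (x * x)⁻¹ = (t * w) ^ 4 := by
    rw [show x * x * (t * w) * (x * x)⁻¹ = x * (x * (t * w) * x⁻¹) * x⁻¹ by group, h1, ← conj_pow, h1,
      ← pow_mul]
  have h3 : (t * w) ^ 15 = 1 := by
    have := conj_pow (a := x * x) (b := t * w) (i := 4)
    rw [h2, ← h2, show x * x * (x * x * (t * w) * (x * x)⁻¹) * (x * x)⁻¹ = x ^ 4 * (t * w) * (x ^ 4)⁻¹ by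
      simp only [pow_succ, pow_zero, one_mul, mul_inv_rev, mul_assoc], H.sz_pow ht hx, h2, ← pow_mul,
      one_mul, inv_one, mul_one] at this
    exact mul_right_cancel (b := t * w) (by rw [← pow_succ, one_mul]; exact this)
  have h4 : t * w ≠ 1 := fun e' => h (by
    rw [eq_inv_of_mul_eq_one_right e']; exact inv_mem (self_mem_Cz t))
  have h5 : orderOf (t * w) = 5 := by
    have h5 := orderOf_dvd_of_pow_eq_one h3
    have h6 := ho _ h4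
    generalize orderOf (t * w) = a at *
    fin_cases h6 <;> simp_all
  have h6 : (t * w) ^ 4 = w * t := by
    have := pow_orderOf_eq_one (t * w)
    rw [h5, pow_succ] at this
    rw [eq_inv_of_mul_eq_one_left this, mul_inv_rev, Inv.inv ht, Inv.inv hw]
  by_contra h7
  refine h4 (H.odd_free ht (s := t * (x * x)) (mul_mem (self_mem_Cz t) (mul_mem hx hx))
    (fun e' => h7 ((eq_inv_of_mul_eq_one_right e').trans (Inv.inv ht))) (by rw [h5]; decide) ?_)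
  rw [mul_assoc t (x * x), mul_inv_eq_iff_eq_mul.1 h2, h6]
  group

theorem sz_gens [IsSimpleGroup G] (ho : ∀ x : G, x ≠ 1 → orderOf x ∈ ({2, 4, 5, 7, 13} : Finset ℕ))
    (hc : ∀ k : G, orderOf k = 7 → Nat.card (Cz k) = 7) :
    ∃ (x k w : G) (j : ℕ), (j = 3 ∨ j = 5) ∧ (∀ r ∈ Rec.szRel j 3, CG.ev (Rec.szY x k w) r = 1) ∧
      CG.cl (Rec.szY x k w) [0, 1, 2, 3, 4] = ⊤ := by
  obtain ⟨t, ht⟩ := card_pos.1 (H.inv ▸ (by norm_num) : 0 < (Inv G).card)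
  obtain ⟨k, hk, h7⟩ := exists_order_of_dvd (D := Nz t) (p := 7) (by norm_num)
    (by rw [H.card_Nz ht, H.sz_q ht]; norm_num)
  have hk7 : k ^ 7 = 1 := h7 ▸ pow_orderOf_eq_one k
  have k1 : ∀ {t : G}, t ∈ Inv G → k ∉ Cz t := fun ht e => by
    have := H.eq_one_of_odd ht e (by rw [h7]; decide)
    rw [this, orderOf_one] at h7; omega
  obtain ⟨w, hw, e1⟩ := H.sz_w ho h7 (hc k h7)
  have w2 := (mem_Inv.1 hw).1
  have hwt : w ∉ Cz t := fun e => k1 ht (by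
    have h1 := inv_mem (mul_mem (mul_mem (mem_Nz.1 (inv_mem hk) w e) e) (mul_mem (mul_mem
      (mul_mem (mem_Nz.1 (inv_mem hk) w e) e) (mul_mem (mem_Nz.1 (inv_mem hk) w e) e))
      (mul_mem (mem_Nz.1 (inv_mem hk) w e) e)))
    rw [inv_inv, show k⁻¹ * w * k * w = k⁻¹ * (w * k * w) by group, e1,
      show (k⁻¹ * k⁻¹ * (k⁻¹ * k⁻¹ * (k⁻¹ * k⁻¹) * (k⁻¹ * k⁻¹)))⁻¹ = k ^ 7 * k by
        simp only [pow_succ, pow_zero, one_mul, mul_inv_rev, mul_assoc, inv_inv], hk7, one_mul] at h1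
    exact h1)
  have hwN : w ∉ Nz t := fun e => hwt (H.mem_of_Nz ht e (H.sz_pow hw (self_mem_Cz w)))
  obtain ⟨b, hb, e2⟩ := H.sz_cls ht hw hwt (Inv.conj ht w) fun e =>
    hwN (mem_Nz_iff.2 (H.of_mem_Zc ht e (mem_Inv.1 (Inv.conj ht w)).2).2)
  obtain ⟨i, x, hx, rfl⟩ := H.sz_N ht hk h7 hb
  have e3 : w * k ^ i * w = (k ^ i)⁻¹ := by
    rw [← inv_pow, ← e1]; nth_rw 2 [← Inv.inv hw]; rw [← conj_pow, Inv.inv hw]
  have e4 := mem_Nz_iff.1 (pow_mem hk i)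
  have e5 : w * (k ^ i * t * (k ^ i)⁻¹) * w = x * w * x⁻¹ := by
    rw [show x * w * x⁻¹ = (k ^ i)⁻¹ * (k ^ i * x * w * (k ^ i * x)⁻¹) * k ^ i by group, e2,
      show w * (k ^ i * t * (k ^ i)⁻¹) * w = w * k ^ i * w * (w⁻¹ * t * w⁻¹) * (w⁻¹ * k ^ i * w⁻¹)⁻¹ by group,
      Inv.inv hw, e3, inv_inv]
  have e6 := H.sz_x ho (Inv.conj ht _) hw (e4 ▸ hwt) (e4 ▸ hx) e5
  have ht' := Inv.conj ht (k ^ i)
  have hk' : k ∈ Nz (k ^ i * t * (k ^ i)⁻¹) := by rwa [Nz, e4]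
  have hwN' : w ∉ Nz (k ^ i * t * (k ^ i)⁻¹) := by rwa [Nz, e4]
  rw [← e6] at e5 ht' hk' hwN'
  clear e6 e4 e3 e2 hb hx hwN hwt hk ht t i
  have hx : x ∈ Cz (x * x) := mem_Cz.2 (mul_assoc _ _ _).symm
  have hxi : ∀ i : ℕ, k ^ i * x * (k ^ i)⁻¹ ∈ Cz (x * x) := fun i => mem_Nz.1 (pow_mem hk' i) x hx
  have hx1 := mem_Nz.1 hk' x hx
  obtain ⟨j, hj, c, hc, e⟩ := H.sz_P ht' hk' h7 (mul_mem hx hx1) fun e => k1 ht' (by
    have h1 := H.sq_Zc ht' e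
    have h2 := mem_Zc.1 e x hx
    rw [mem_Cz', show k * (x * x) * k⁻¹ = x⁻¹ * (x * (k * x * k⁻¹) * x⁻¹ * (x * (k * x * k⁻¹))) by group,
      mul_inv_eq_iff_eq_mul.2 (show x * (k * x * k⁻¹) = x⁻¹ * (x * (k * x * k⁻¹)) * x by
        rw [mul_assoc x⁻¹, ← h2]; group), mul_assoc x⁻¹, h1, mul_one, ← mul_inv_rev, Inv.inv ht'])
  obtain ⟨d, hd, e'⟩ : ∃ d < 8, c = if d < 7 then k ^ d * (x * x) * (k ^ d)⁻¹ else 1 := by
    by_cases h : c = 1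
    · exact ⟨7, by norm_num, h⟩
    · obtain ⟨d, hd, e⟩ := H.sz_Z ht' hk' h7 hc h
      exact ⟨d, by omega, by rw [if_pos hd, e]⟩
  have hR := Rec.szRel_ok (j := j) (c := d) w2 hk7 e1 (H.sz_pow ht' hx) e5
    (fun i => (mem_Cz.1 (hxi i)).symm) (by rw [← e', e, mul_assoc, H.sq_Zc ht' hc, mul_one])
  by_cases hjd : j = 3 ∨ j = 5 → d ≠ 3
  · have := Rec.mem_univ (sz_bad hj hd hjd) _ hR [4] (by simp)
    rw [CG.ev_singleton] at this
    refine absurd (CG.cl_le _ (H := Nz (x * x)) (fun a ha => ?_) this) hwN'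
    simp only [List.mem_cons, List.not_mem_nil, or_false] at ha
    rcases ha with rfl | rfl | rfl | rfl
    exacts [Cz_le_Nz _ hx, inv_mem (Cz_le_Nz _ hx), hk', inv_mem hk']
  push Not at hjd
  obtain ⟨h1, rfl⟩ := hjd
  refine ⟨x, k, w, j, h1, hR, eq_top_of_inv ht' fun s hs => ?_⟩
  have m0 : x ∈ CG.cl (Rec.szY x k w) [0, 1, 2, 3, 4] := CG.gen_mem_cl _ (a := 0) (by simp)
  have m2 : k ∈ CG.cl (Rec.szY x k w) [0, 1, 2, 3, 4] := CG.gen_mem_cl _ (a := 2) (by simp)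
  have m4 : w ∈ CG.cl (Rec.szY x k w) [0, 1, 2, 3, 4] := CG.gen_mem_cl _ (a := 4) (by simp)
  have mZ : Zc (x * x) ≤ CG.cl (Rec.szY x k w) [0, 1, 2, 3, 4] := fun a ha => by
    by_cases h : a = 1
    · exact h ▸ one_mem _
    · obtain ⟨d, -, rfl⟩ := H.sz_Z ht' hk' h7 ha h
      exact mul_mem (mul_mem (pow_mem m2 _) (mul_mem m0 m0)) (inv_mem (pow_mem m2 _))
  have mP : Cz (x * x) ≤ CG.cl (Rec.szY x k w) [0, 1, 2, 3, 4] := fun a ha => by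
    by_cases h : a ∈ Zc (x * x)
    · exact mZ h
    · obtain ⟨d, -, c, hc, rfl⟩ := H.sz_P ht' hk' h7 ha h
      exact mul_mem (mul_mem (mul_mem (pow_mem m2 _) m0) (inv_mem (pow_mem m2 _))) (mZ hc)
  by_cases h : s ∈ Zc (x * x)
  · exact mZ h
  · obtain ⟨b, hb, rfl⟩ := H.sz_cls ht' hw (fun e => hwN' (Cz_le_Nz _ e)) hs h
    obtain ⟨i, p, hp, rfl⟩ := H.sz_N ht' hk' h7 hb
    have := mul_mem (pow_mem m2 i) (mP hp)
    exact mul_mem (mul_mem this m4) (inv_mem this)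

end H64
end
end Cfsg.Agent.J3T.C64
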