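import Cfsg.Agent.Lib.TCX.Ext

/-! Relators for the recognition of the Suzuki group of order 29120; letters `x, x⁻¹, k, k⁻¹, w`. -/

set_option autoImplicit false

namespace Cfsg.Agent.Rec

open Cfsg.Agent.CG Cfsg.Agent.TCX

/-- the word `k^i v k^-i` -/
def cw (i : ℕ) (v : List ℕ) : List ℕ := List.replicate i 2 ++ (v ++ List.replicate i 3)

def cr (i : ℕ) : List ℕ := [0, 0] ++ (cw i [0] ++ ([1, 1] ++ cw i [1]))

def szRel (j c : ℕ) : List (List ℕ) :=
  [[0, 1], [2, 3], [4, 4], [2, 2, 2, 2, 2, 2, 2], [4, 2, 4, 2], [0, 0, 0, 0], [4, 0, 0, 4, 0, 4, 1],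
    cr 1, cr 2, cr 3, cr 4, cr 5, cr 6,
    [0] ++ (cw 1 [0] ++ ((if c < 7 then cw c [0, 0] else []) ++ cw j [1]))]

theorem mem_univ {R : List (List ℕ)} {S : List ℕ} {W : List (List ℕ)} (h : Mem R S W) {Γ : Type*}
    [Group Γ] (y : ℕ → Γ) (hR : ∀ r ∈ R, ev y r = 1) : ∀ w ∈ W, ev y w ∈ cl y S := by
  let f : FreeGroup ℕ →* Γ := FreeGroup.lift y
  let y' : ℕ → FreeGroup ℕ ⧸ f.ker := fun a => QuotientGroup.mk (FreeGroup.of a)
  let g : FreeGroup ℕ ⧸ f.ker →* Γ := QuotientGroup.kerLift f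
  have hg : Function.Injective g := QuotientGroup.kerLift_injective f
  have hy : (fun a => g (y' a)) = y := by
    funext a; simp [g, y', f]
  intro w hw
  have := Subgroup.mem_map_of_mem g
    (h _ y' (fun r hr => hg (by rw [map_ev, hy, hR r hr, map_one])) w hw)
  rwa [map_cl, map_ev, hy] at this

theorem mem_of_imp {R0 R : List (List ℕ)} {S : List ℕ} {W : List (List ℕ)} (h : Imp R0 R)
    (h' : Mem R S W) : Mem R0 S W := fun Γ _ y hy => h' Γ y (h Γ y hy)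

variable {Γ : Type*} [Group Γ]

/-- the values of the letters -/
def szY (x k w : Γ) : ℕ → Γ
  | 0 => x
  | 1 => x⁻¹
  | 2 => k
  | 3 => k⁻¹
  | 4 => w
  | _ => 1

theorem ev_rep (y : ℕ → Γ) (a i : ℕ) : ev y (List.replicate i a) = y a ^ i := by
  simp [ev]

theorem ev_cw (x k w : Γ) (i : ℕ) (v : List ℕ) :
    ev (szY x k w) (cw i v) = k ^ i * ev (szY x k w) v * (k ^ i)⁻¹ := by
  rw [cw, ev_append, ev_append, ev_rep, ev_rep, mul_assoc, ← inv_pow]; rfl

theorem szRel_ok {x k w : Γ} {j c : ℕ} (h1 : w * w = 1) (h2 : k ^ 7 = 1) (h3 : w * k * w = k⁻¹)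
    (h4 : x ^ 4 = 1) (h5 : w * (x * x) * w = x * w * x⁻¹)
    (h6 : ∀ i : ℕ, Commute (x * x) (k ^ i * x * (k ^ i)⁻¹))
    (h7 : x * (k * x * k⁻¹) * (if c < 7 then k ^ c * (x * x) * (k ^ c)⁻¹ else 1) =
      k ^ j * x * (k ^ j)⁻¹) : ∀ r ∈ szRel j c, ev (szY x k w) r = 1 := by
  have hc : ∀ i, ev (szY x k w) (cr i) = 1 := fun i => by
    simp only [cr, ev_append, ev_cw, ev_cons, ev_nil, szY, mul_one]
    rw [← mul_assoc, (h6 i).eq]; group
  simp only [szRel, List.forall_mem_cons, hc, true_and, List.not_mem_nil, false_imp_iff, implies_true,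
    and_true, ev_append, ev_cw, ev_cons, ev_nil, szY, mul_one, mul_inv_cancel, h1]
  refine ⟨by rw [← h2]; simp only [pow_succ, pow_zero, one_mul, mul_assoc], by rw [← mul_assoc, ← mul_assoc, h3, inv_mul_cancel],
    by rw [← h4]; simp only [pow_succ, pow_zero, one_mul, mul_assoc], ?_, ?_⟩
  · rw [show w * (x * (x * (w * (x * (w * x⁻¹))))) = w * (x * x) * w * (x * w * x⁻¹) by group, h5,
      show x * w * x⁻¹ * (x * w * x⁻¹) = x * (w * w) * x⁻¹ by group, h1]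
    group
  · rw [← mul_assoc, ← mul_assoc, pow_one, ← mul_inv_eq_one.2 h7]
    congr 2
    · split_ifs
      · simp only [ev_cw, ev_cons, ev_nil, szY, mul_one]
      · rfl
    · group

end Cfsg.Agent.Rec
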